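import Cfsg.Agent.Lib.Fusion.MeetNormal
import Cfsg.Agent.Lib.Fusion.ResidualWeak

/-!
# The product of a normal subsystem with the whole `p`-group, I: the generated system

For `E` invariant in `F` over `T` let `dSys F E p` be generated by the inner maps of `S` and, for the
subgroups `Q` with `Q ⊓ T` centric in `T`, the automorphisms of `Q` of order prime to `p` that act trivially
modulo `T` and as a map of `E` on `Q ⊓ T`. Every map of this system is, modulo the hyperfocal subgroup of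
`E`, conjugation by an element of `S`, and on `T` a map of `E` followed by such a conjugation.
-/

set_option autoImplicit false

namespace CfsgLib.RE

open Cfsg Cfsg.FusionSystem CfsgLib.Fusion CfsgLib.FusionNormal CfsgLib.Fusion.PPrimeRes CfsgLib.Meet

variable {Ω : Type*} [Group Ω] {S T : Subgroup Ω} {F : FusionSystem S} {E : FusionSystem T} {p : ℕ}
variable {P Q Q' R : Subgroup Ω} {f g g' : Ω → Ω}

/-- `g` is an automorphism of `Q` trivial modulo `T` and in `E` on `Q ⊓ T`. -/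
structure Disp (F : FusionSystem S) (E : FusionSystem T) (Q : Subgroup Ω) (g : Ω → Ω) : Prop where
  map : MapFn F Q g
  image : g '' Q = (Q : Set Ω)
  disp : ∀ x ∈ Q, x⁻¹ * g x ∈ T
  onT : MapFn E (Q ⊓ T) g

theorem Disp.congr (h : Disp F E Q g) (e : ∀ x ∈ Q, g x = g' x) : Disp F E Q g' :=
  ⟨h.map.congr e, (Set.image_congr fun x hx => (e x hx).symm).trans h.image,
    fun x hx => e x hx ▸ h.disp x hx, h.onT.congr fun x hx => e x hx.1⟩

theorem Disp.le_S (h : Disp F E Q g) : Q ≤ S := h.map.le_S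

theorem disp_id (hQ : Q ≤ S) : Disp F E Q id :=
  ⟨mapFn_id hQ, Set.image_id _, fun x _ => by simp [T.one_mem], mapFn_id inf_le_right⟩

theorem Disp.mem (h : Disp F E Q g) {x : Ω} (hx : x ∈ Q) : g x ∈ Q := mem_of_image h.image hx

theorem Disp.comp (hT : F.StronglyClosed T) (h : Disp F E Q g) (h' : Disp F E Q g') :
    Disp F E Q (g' ∘ g) := by
  refine ⟨h.map.comp h'.map fun x hx => h.mem hx, image_comp h.image h'.image, fun x hx => ?_,
    h.onT.comp h'.onT fun x hx => ⟨h.mem hx.1, mapFn_mem hT h.map hx.1 hx.2⟩⟩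
  have h1 := T.mul_mem (h.disp x hx) (h'.disp _ (h.mem hx))
  show x⁻¹ * g' (g x) ∈ T
  simpa [mul_assoc] using h1

theorem Disp.inv [Finite S] (hT : F.StronglyClosed T) (h : Disp F E Q g) (hinv : ∀ x ∈ Q, g' (g x) = x) :
    Disp F E Q g' := by
  obtain ⟨k, hk, hkr, hk₁, hk₂⟩ := h.map.exists_inv h.image
  have hkg : ∀ y ∈ Q, k y = g' y := fun y hy => by
    obtain ⟨x, hx, rfl⟩ := exists_of_image h.image hy
    rw [hk₁ x hx, hinv x hx]
  refine Disp.congr ⟨hk, hkr, fun y hy => ?_, ?_⟩ hkg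
  · have h1 := T.inv_mem (h.disp _ (mem_of_image hkr hy))
    rw [hk₂ y hy] at h1
    simpa using h1
  · have him : g '' (Q ⊓ T : Subgroup Ω) = ((Q ⊓ T : Subgroup Ω) : Set Ω) :=
      (h.map.mono inf_le_left).image_eq_of_maps (inf_le_left.trans h.le_S)
        (fun x hx => ⟨h.mem hx.1, mapFn_mem hT h.map hx.1 hx.2⟩) le_rfl
    obtain ⟨k', hk', -, hk'₁, -⟩ := h.onT.exists_inv him
    refine hk'.congr fun y hy => ?_
    obtain ⟨x, hx, rfl⟩ := exists_of_image him hy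
    rw [hk'₁ x hx, hk₁ x hx.1]

/-- Transport of these automorphisms along maps of the whole system. -/
theorem Disp.transport [Finite S] (hE : E.IsInvariantIn F) (h : Disp F E Q g) {θ : Ω → Ω}
    (hθ : MapFn F Q θ) (hQ' : θ '' Q = (Q' : Set Ω)) (he : ∀ x ∈ Q, g' (θ x) = θ (g x)) :
    Disp F E Q' g' := by
  have hT := hE.2.1
  obtain ⟨k, hk, hkr, hk₁, hk₂⟩ := hθ.exists_inv hQ'
  have hg' : ∀ y ∈ Q', θ (g (k y)) = g' y := fun y hy => by
    rw [← he _ (mem_of_image hkr hy), hk₂ y hy]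
  refine Disp.congr ⟨(hk.comp h.map fun y hy => mem_of_image hkr hy).comp hθ
    fun y hy => h.mem (mem_of_image hkr hy), image_comp (image_comp hkr h.image) hQ', fun y hy => ?_, ?_⟩ hg'
  · obtain ⟨x, hx, rfl⟩ := exists_of_image hQ' hy
    show (θ x)⁻¹ * θ (g (k (θ x))) ∈ T
    rw [hk₁ x hx, ← hθ.map_inv hx, ← hθ.map_mul (Q.inv_mem hx) (h.mem hx)]
    exact mapFn_mem hT hθ (Q.mul_mem (Q.inv_mem hx) (h.mem hx)) (h.disp x hx)
  · have him : θ '' (Q ⊓ T : Subgroup Ω) = ((Q' ⊓ T : Subgroup Ω) : Set Ω) := by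
      ext y
      constructor
      · rintro ⟨x, hx, rfl⟩; exact ⟨mem_of_image hQ' hx.1, mapFn_mem hT hθ hx.1 hx.2⟩
      · intro hy
        obtain ⟨x, hx, rfl⟩ := exists_of_image hQ' hy.1
        exact ⟨x, ⟨hx, (mapFn_mem_iff hT hθ hx).mp hy.2⟩, rfl⟩
    exact CfsgLib.Fusion.mapFn_transport hE inf_le_right h.onT
      (fun x hx => ⟨h.mem hx.1, mapFn_mem hT h.map hx.1 hx.2⟩) (hθ.mono inf_le_left) him
      fun x hx => hk₁ x hx.1

/-- Restriction to an invariant subgroup. -/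
theorem Disp.restrict [Finite S] (hT : F.StronglyClosed T) (h : Disp F E Q g) (hR : R ≤ Q)
    (hm : ∀ x ∈ R, g x ∈ R) : Disp F E R g :=
  ⟨h.map.mono hR, (h.map.mono hR).image_eq_of_maps (hR.trans h.le_S) hm le_rfl,
    fun x hx => h.disp x (hR hx), h.onT.mono (inf_le_inf_right _ hR)⟩

/-- The automorphisms `g` with `Disp`. -/
def bAut [Finite S] (hE : E.IsInvariantIn F) (hQ : Q ≤ S) : Subgroup (MulAut Q) where
  carrier := {a | Disp F E Q (ev a)}
  one_mem' := (disp_id hQ).congr fun x hx => (ev_one hx).symm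
  mul_mem' := fun {a b} ha hb => (hb.comp hE.2.1 ha).congr fun x hx => (ev_mul a b hx).symm
  inv_mem' := fun {a} ha => ha.inv hE.2.1 fun x hx => ev_inv_ev a hx

theorem bAut_le [Finite S] (hE : E.IsInvariantIn F) (hQ : Q ≤ S) : bAut hE hQ ≤ F.autGroup Q :=
  fun a ha => (mem_autGroup_iff_mapFn hQ).mpr ⟨ev a, ha.map, fun x => ev_val a x⟩

theorem conj_bAut [Finite S] (hE : E.IsInvariantIn F) (hQ : Q ≤ S) {a b : MulAut Q} (ha : a ∈ bAut hE hQ)
    (hb : b ∈ F.autGroup Q) : b * a * b⁻¹ ∈ bAut hE hQ :=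
  Disp.transport (Q' := Q) hE ha (mapFn_ev hQ hb) (ev_image b) fun x hx => by
    rw [ev_mul _ _ (ev_mem b hx), ev_mul _ _ (ev_mem _ (ev_mem b hx)), ev_inv_ev b hx]

/-! ### The generated system -/

/-- The generating automorphisms. -/
def GenMap (F : FusionSystem S) (E : FusionSystem T) (p : ℕ) (R : Subgroup Ω) (f : Ω → Ω) : Prop :=
  TCentric F T (R ⊓ T) ∧ Disp F E R f ∧
    ∃ a : MulAut R, (orderOf a).Coprime p ∧ ∀ x : R, f x = ((a x : R) : Ω)

/-- A predicate containing all generating automorphisms. -/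
def Gen (F : FusionSystem S) (E : FusionSystem T) (p : ℕ) (C : MapPred F) : Prop :=
  ∀ (R : Subgroup Ω) (f : Ω → Ω), GenMap F E p R f → C.pred R f

/-- The maps generated by the generating automorphisms. -/
def genPred (F : FusionSystem S) (E : FusionSystem T) (p : ℕ) : MapPred F where
  pred P f := ∀ C : MapPred F, Gen F E p C → C.pred P f
  congr h e C hC := C.congr (h C hC) e
  conj hP hg C _ := C.conj hP hg
  comp hf hCf hg hCg hm C hC := C.comp hf (hCf C hC) hg (hCg C hC) hm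
  inv hf hCf hr hg hinv C hC := C.inv hf (hCf C hC) hr hg hinv

/-- The generated system over `S`. -/
def dSys (F : FusionSystem S) (E : FusionSystem T) (p : ℕ) : FusionSystem S := (genPred F E p).sub

theorem dSys_sub (h : MapFn (dSys F E p) P f) : MapFn F P f := ((genPred F E p).mapFn_sub.mp h).1

theorem dSys_isSubsystemOf : (dSys F E p).IsSubsystemOf F := fun _ _ h => h.1

theorem GenMap.mapFn (h : GenMap F E p R f) : MapFn (dSys F E p) R f :=
  (genPred F E p).mapFn_sub.mpr ⟨h.2.1.map, fun _ hC => hC R f h⟩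

theorem genMap_of_ev [Finite S] (hE : E.IsInvariantIn F) (hQ : Q ≤ S) (hc : TCentric F T (Q ⊓ T))
    {a : MulAut Q} (ha : a ∈ bAut hE hQ) (hp : (orderOf a).Coprime p) : GenMap F E p Q (ev a) :=
  ⟨hc, ha, a, hp, ev_val a⟩

/-- Induction over the generated system. -/
theorem dSys_induction {C : Subgroup Ω → (Ω → Ω) → Prop}
    (congr : ∀ {P : Subgroup Ω} {f g : Ω → Ω}, C P f → (∀ x ∈ P, f x = g x) → C P g)
    (conj : ∀ {P : Subgroup Ω} {g : Ω}, P ≤ S → g ∈ S → C P fun x => g * x * g⁻¹)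
    (comp : ∀ {P Q : Subgroup Ω} {f g : Ω → Ω}, MapFn F P f → C P f → MapFn F Q g → C Q g →
      (∀ x ∈ P, f x ∈ Q) → C P (g ∘ f))
    (inv : ∀ {P Q : Subgroup Ω} {f g : Ω → Ω}, MapFn F P f → C P f → f '' P = (Q : Set Ω) →
      MapFn F Q g → (∀ x ∈ P, g (f x) = x) → C Q g)
    (gen : ∀ (R : Subgroup Ω) (f : Ω → Ω), GenMap F E p R f → C R f)
    (hf : MapFn (dSys F E p) P f) : C P f :=
  ((genPred F E p).mapFn_sub.mp hf).2
    { pred := C
      congr := congr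
      conj := conj
      comp := comp
      inv := inv } gen

/-! ### Maps modulo the hyperfocal subgroup, and on `T` -/

/-- Conjugation of a map of `E` by an element of `S`. -/
theorem conj_map (hE : E.IsInvariantIn F) [Finite S] {s : Ω} (hs : s ∈ S) (hf : MapFn E P f)
    (hR : (fun x => s * x * s⁻¹) '' P = (R : Set Ω)) :
    ∃ χ, MapFn E R χ ∧ ∀ x ∈ P, χ (s * x * s⁻¹) = s * f x * s⁻¹ :=
  CfsgLib.FusionNormal.mapFn_transport hE hf (mapFn_conj hE.2.1.1 hs)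
    (image_T hE.2.1 (mapFn_conj hE.2.1.1 hs) le_rfl) hR

/-- `f` is conjugation by `s` modulo the hyperfocal subgroup of `E` and after a map of `E` on `T`. -/
def Inner (F : FusionSystem S) (E : FusionSystem T) (p : ℕ) (P : Subgroup Ω) (f : Ω → Ω) (s : Ω) : Prop :=
  s ∈ S ∧ (∀ x ∈ P, (s⁻¹ * f x * s) * x⁻¹ ∈ E.hyperfocalSubgroup p) ∧
    MapFn E (P ⊓ T) fun x => s⁻¹ * f x * s

theorem hyperfocal_normal_S [Finite S] (hE : E.IsInvariantIn F) : ∀ s ∈ S, ∀ u ∈ E.hyperfocalSubgroup p,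
    s * u * s⁻¹ ∈ E.hyperfocalSubgroup p := fun _ hs _ hu =>
  ResLimit.hyperfocal_map_mem hE (mapFn_conj hE.2.1.1 hs) (image_T hE.2.1 (mapFn_conj hE.2.1.1 hs) le_rfl) hu

variable [Finite S] [Fact p.Prime]

theorem disp_hyperfocal (hS : IsPGroup p S) (hE : E.IsInvariantIn F) {a : MulAut Q}
    (ha : Disp F E Q (ev a)) (hp : (orderOf a).Coprime p) {x : Ω} (hx : x ∈ Q) :
    x⁻¹ * ev a x ∈ E.hyperfocalSubgroup p := by
  have hQ := ha.le_S
  have hN := hyperfocal_normal_S (p := p) hE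
  set N := E.hyperfocalSubgroup p
  have hfix : ∀ w ∈ Q ⊓ T, w⁻¹ * ev a w ∈ N := by
    intro w hw
    obtain ⟨γ, hγ, hγe⟩ := ha.onT.exists_aut ((ha.map.mono inf_le_left).image_eq_of_maps
      (inf_le_left.trans hQ) (fun y hy => ⟨ha.mem hy.1, mapFn_mem hE.2.1 ha.map hy.1 hy.2⟩) le_rfl)
    have hγo : (orderOf γ).Coprime p := hp.coprime_dvd_left (orderOf_dvd_of_pow_eq_one
      (pow_eq_one_of_restrict inf_le_left (fun y hy => by rw [ev_coe γ hy]; exact (hγe ⟨y, hy⟩).symm)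
        (pow_orderOf_eq_one a)))
    have hmem : (⟨γ, hγ⟩ : E.autGroup (Q ⊓ T)) ∈ pResidual p (E.autGroup (Q ⊓ T)) :=
      CfsgLib.Transfer.mem_pResidual (by rwa [← Subgroup.orderOf_coe])
    have h1 := mem_hyperfocal (inf_le_right : Q ⊓ T ≤ T) hmem ⟨w, hw⟩
    rwa [hγe] at h1
  have hδN : ∀ w : Q, (w : Ω) ∈ N → ((a w : Q) : Ω) ∈ N := fun w hw => by
    have h1 := N.mul_mem hw (hfix w ⟨w.2, hyperfocal_le E p hw⟩)
    rwa [mul_inv_cancel_left, ev_val] at h1
  have h2 := CfsgLib.FusionLayer.mem_of_coprime_stabilize hS hQ hN hp (pow_orderOf_eq_one a) hδN ⟨x, hx⟩ (by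
    rw [Subgroup.mem_subgroupOf]
    have h3 := hfix (x⁻¹ * ev a x) ⟨Q.mul_mem (Q.inv_mem hx) (ha.mem hx), ha.disp x hx⟩
    have e : (⟨x⁻¹ * ev a x, Q.mul_mem (Q.inv_mem hx) (ha.mem hx)⟩ : Q) = ⟨x, hx⟩⁻¹ * a ⟨x, hx⟩ :=
      Subtype.ext (by simp [ev_coe a hx])
    rw [ev_coe a (Q.mul_mem (Q.inv_mem hx) (ha.mem hx)), e, ev_coe a hx] at h3
    exact h3)
  simpa [ev_coe a hx] using h2

theorem exists_inner (hS : IsPGroup p S) (hE : E.IsInvariantIn F) (hf : MapFn (dSys F E p) P f) :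
    ∃ s, Inner F E p P f s := by
  have hTsc := hE.2.1
  have hN := hyperfocal_normal_S (p := p) hE
  have hTn : ∀ {s x : Ω}, s ∈ S → x ∈ T → s * x * s⁻¹ ∈ T := fun hs hx =>
    conj_mem_of_normalizer (StronglyClosed.le_normalizer hTsc hs) hx
  set N := E.hyperfocalSubgroup p
  refine dSys_induction (C := fun P f => ∃ s, Inner F E p P f s) ?_ ?_ ?_ ?_ ?_ hf
  · rintro P f g ⟨s, hs, h1, h2⟩ e
    exact ⟨s, hs, fun x hx => e x hx ▸ h1 x hx, h2.congr fun x hx => by rw [e x hx.1]⟩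
  · intro P g hP hg
    exact ⟨g, hg, fun x _ => by simp [mul_assoc, N.one_mem],
      (mapFn_id (inf_le_right : P ⊓ T ≤ T)).congr fun x _ => by simp [mul_assoc]⟩
  · rintro P Q f g hf ⟨s, hs, h1, h2⟩ hg ⟨s', hs', h1', h2'⟩ hm
    refine ⟨s' * s, S.mul_mem hs' hs, fun x hx => ?_, ?_⟩
    · have h3 := N.mul_mem (hN _ (S.inv_mem hs) _ (h1' _ (hm x hx))) (h1 x hx)
      show (s' * s)⁻¹ * g (f x) * (s' * s) * x⁻¹ ∈ N
      have e : (s' * s)⁻¹ * g (f x) * (s' * s) * x⁻¹ =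
          s⁻¹ * (s'⁻¹ * g (f x) * s' * (f x)⁻¹) * s⁻¹⁻¹ * (s⁻¹ * f x * s * x⁻¹) := by group
      rwa [e]
    · obtain ⟨R', -, hR'⟩ := (mapFn_conj (F := F) (inf_le_right.trans hTsc.1 : Q ⊓ T ≤ S)
        (S.inv_mem hs)).exists_image
      obtain ⟨χ, hχ, hχe⟩ := conj_map hE (S.inv_mem hs) h2' hR'
      refine (h2.comp hχ fun x hx => ?_).congr fun x hx => ?_
      · have := mem_of_image hR' (show f x ∈ Q ⊓ T from ⟨hm x hx.1, mapFn_mem hTsc hf hx.1 hx.2⟩)
        simpa using this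
      · have h3 := hχe (f x) ⟨hm x hx.1, mapFn_mem hTsc hf hx.1 hx.2⟩
        show χ (s⁻¹ * f x * s) = (s' * s)⁻¹ * g (f x) * (s' * s)
        rw [show s⁻¹ * f x * s = s⁻¹ * f x * s⁻¹⁻¹ by group, h3]
        group
  · rintro P Q f g hf ⟨s, hs, h1, h2⟩ hr hg hinv
    refine ⟨s⁻¹, S.inv_mem hs, fun y hy => ?_, ?_⟩
    · obtain ⟨x, hx, rfl⟩ := exists_of_image hr hy
      rw [hinv x hx]
      have h3 := hN s hs _ (N.inv_mem (h1 x hx))
      have e : s⁻¹⁻¹ * x * s⁻¹ * (f x)⁻¹ = s * (s⁻¹ * f x * s * x⁻¹)⁻¹ * s⁻¹ := by group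
      rwa [e]
    · obtain ⟨M, -, hM⟩ := h2.exists_image
      obtain ⟨k, hk, -, hk₁, -⟩ := h2.exists_inv hM
      have hR : (fun x => s * x * s⁻¹) '' M = ((Q ⊓ T : Subgroup Ω) : Set Ω) := by
        rw [← hM, Set.image_image]
        ext y
        constructor
        · rintro ⟨x, hx, rfl⟩
          have e : s * (s⁻¹ * f x * s) * s⁻¹ = f x := by group
          show s * (s⁻¹ * f x * s) * s⁻¹ ∈ _
          rw [e]
          exact ⟨mem_of_image hr hx.1, mapFn_mem hTsc hf hx.1 hx.2⟩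
        · intro hy
          obtain ⟨x, hx, rfl⟩ := exists_of_image hr hy.1
          exact ⟨x, ⟨hx, (mapFn_mem_iff hTsc hf hx).mp hy.2⟩, by group⟩
      obtain ⟨χ, hχ, hχe⟩ := conj_map hE hs hk hR
      refine hχ.congr fun y hy => ?_
      obtain ⟨x, hx, rfl⟩ := exists_of_image hr hy.1
      have hxT : x ∈ P ⊓ T := ⟨hx, (mapFn_mem_iff hTsc hf hx).mp hy.2⟩
      have h3 := hχe _ (mem_of_image hM hxT)
      rw [hk₁ x hxT] at h3
      rw [show s * (s⁻¹ * f x * s) * s⁻¹ = f x by group] at h3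
      show χ (f x) = s⁻¹⁻¹ * g (f x) * s⁻¹
      rw [h3, hinv x hx, inv_inv]
  · rintro R f ⟨-, hd, a, hap, hae⟩
    have he : ∀ x ∈ R, f x = ev a x := fun x hx => (hae ⟨x, hx⟩).trans (ev_coe a hx).symm
    refine ⟨1, S.one_mem, fun x hx => ?_, hd.onT.congr fun x _ => by simp⟩
    have h1 := hN x (hd.le_S hx) _ (disp_hyperfocal hS hE (hd.congr he) hap hx)
    simpa [he x hx, mul_assoc] using h1

/-- Powers of a map that is a conjugate of a map of `E`. -/
theorem pow_step (hE : E.IsInvariantIn F) (hR : R ≤ T) {s : Ω} (hs : s ∈ S) {b : Ω → Ω}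
    (hb : MapFn F R b) (hbr : b '' R = (R : Set Ω)) (he : MapFn E R fun x => s⁻¹ * b x * s) :
    ∀ j : ℕ, MapFn E R fun x => (s ^ j)⁻¹ * (b^[j]) x * s ^ j := by
  intro j
  induction j with
  | zero => exact (mapFn_id hR).congr fun x _ => by simp
  | succ j ih =>
    have hsj := S.inv_mem (S.pow_mem hs j)
    have hbj : ∀ x ∈ R, (b^[j]) x ∈ R := by
      clear ih
      induction j with
      | zero => intro x hx; simpa using hx
      | succ j ihj =>
        intro x hx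
        rw [Function.iterate_succ_apply']
        exact mem_of_image hbr (ihj (S.inv_mem (S.pow_mem hs j)) x hx)
    obtain ⟨R', -, hR'⟩ := (mapFn_conj (F := F) hb.le_S hsj).exists_image
    obtain ⟨χ, hχ, hχe⟩ := conj_map hE hsj he hR'
    refine (ih.comp hχ fun x hx => ?_).congr fun x hx => ?_
    · have := mem_of_image hR' (hbj x hx)
      simpa using this
    · have h := hχe _ (hbj x hx)
      show χ ((s ^ j)⁻¹ * (b^[j]) x * s ^ j) = _
      rw [show (s ^ j)⁻¹ * (b^[j]) x * s ^ j = (s ^ j)⁻¹ * (b^[j]) x * (s ^ j)⁻¹⁻¹ by group, h,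
        Function.iterate_succ_apply', pow_succ']
      group

/-- Automorphisms of the generated system of order prime to `p` are trivial modulo `T` and in `E` on `T`. -/
theorem disp_of_coprime (hS : IsPGroup p S) (hE : E.IsInvariantIn F) (hQ : Q ≤ S) {a : MulAut Q}
    (ha : a ∈ (dSys F E p).autGroup Q) (hp : (orderOf a).Coprime p) :
    a ∈ bAut hE hQ ∧ ∀ x ∈ Q, x⁻¹ * ev a x ∈ E.hyperfocalSubgroup p := by
  have hTsc := hE.2.1
  have hTn : ∀ {s x : Ω}, s ∈ S → x ∈ T → s * x * s⁻¹ ∈ T := fun hs hx =>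
    conj_mem_of_normalizer (StronglyClosed.le_normalizer hTsc hs) hx
  have hN := hyperfocal_normal_S (p := p) hE
  set N := E.hyperfocalSubgroup p
  obtain ⟨s, hs, h1, h2⟩ := exists_inner hS hE (mapFn_ev hQ ha)
  set n := orderOf a with hn
  -- modulo `N` the powers are conjugations by the powers of `s`
  have key : ∀ j : ℕ, ∀ x ∈ Q, (s ^ j)⁻¹ * ev (a ^ j) x * s ^ j * x⁻¹ ∈ N := by
    intro j
    induction j with
    | zero => intro x hx; simp [ev_one hx, N.one_mem]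
    | succ j ih =>
      intro x hx
      rw [pow_succ a, ev_mul _ _ hx]
      have h3 := N.mul_mem (hN _ (S.inv_mem hs) _ (ih _ (ev_mem a hx))) (h1 x hx)
      have e : (s ^ (j + 1))⁻¹ * ev (a ^ j) (ev a x) * s ^ (j + 1) * x⁻¹ =
          s⁻¹ * ((s ^ j)⁻¹ * ev (a ^ j) (ev a x) * s ^ j * (ev a x)⁻¹) * s⁻¹⁻¹ *
            (s⁻¹ * ev a x * s * x⁻¹) := by rw [pow_succ s]; group
      rwa [e]
  -- `s` is a power of `s ^ n`
  obtain ⟨m, hm⟩ : ∃ m, (s ^ n) ^ m = s := by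
    obtain ⟨k, hk⟩ := hS ⟨s, hs⟩
    exact exists_pow_eq_self_of_coprime (Nat.Coprime.coprime_dvd_right
      (orderOf_dvd_of_pow_eq_one (congrArg Subtype.val hk)) (hp.pow_right k))
  have hcomm : ∀ x ∈ Q, ∀ i : ℕ, ((s ^ n) ^ i)⁻¹ * x * (s ^ n) ^ i * x⁻¹ ∈ N := by
    intro x hx i
    induction i with
    | zero => simp [N.one_mem]
    | succ i ih =>
      have h0 := key n x hx
      rw [hn, pow_orderOf_eq_one, ev_one hx] at h0
      have h3 := N.mul_mem (hN _ (S.inv_mem (S.pow_mem hs n)) _ ih) h0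
      have e : ((s ^ n) ^ (i + 1))⁻¹ * x * (s ^ n) ^ (i + 1) * x⁻¹ =
          (s ^ n)⁻¹ * (((s ^ n) ^ i)⁻¹ * x * (s ^ n) ^ i * x⁻¹) * (s ^ n)⁻¹⁻¹ *
            ((s ^ n)⁻¹ * x * s ^ n * x⁻¹) := by rw [pow_succ (s ^ n)]; group
      rwa [e]
  have hdisp : ∀ x ∈ Q, x⁻¹ * ev a x ∈ N := fun x hx => by
    have h4 := hcomm (ev a x) (ev_mem a hx) m
    rw [hm] at h4
    have h5 := hN x⁻¹ (S.inv_mem (hQ hx)) _ (N.mul_mem (N.inv_mem h4) (h1 x hx))
    have e : x⁻¹ * ev a x = x⁻¹ * ((s⁻¹ * ev a x * s * (ev a x)⁻¹)⁻¹ * (s⁻¹ * ev a x * s * x⁻¹)) * x⁻¹⁻¹ := by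
      group
    rwa [e]
  refine ⟨⟨dSys_sub (mapFn_ev hQ ha), ev_image a, fun x hx => hyperfocal_le E p (hdisp x hx), ?_⟩, hdisp⟩
  -- on `R = Q ⊓ T`
  set R := Q ⊓ T
  have hRT : R ≤ T := inf_le_right
  have hRS : R ≤ S := inf_le_left.trans hQ
  have hm' : ∀ x ∈ R, ev a x ∈ R := fun x hx =>
    ⟨ev_mem a hx.1, mapFn_mem hTsc (dSys_sub (mapFn_ev hQ ha)) hx.1 hx.2⟩
  have hbr : ev a '' R = (R : Set Ω) :=
    ((dSys_sub (mapFn_ev hQ ha)).mono inf_le_left).image_eq_of_maps hRS hm' le_rfl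
  have hbi : ∀ (j : ℕ), ∀ x ∈ R, ((ev a)^[j]) x = ev (a ^ j) x := by
    intro j
    induction j with
    | zero => intro x hx; simp [ev_one hx.1]
    | succ j ih =>
      intro x hx
      rw [Function.iterate_succ_apply', ih x hx, pow_succ', ev_mul _ _ hx.1]
  have hsn : MapFn E R fun x => (s ^ n)⁻¹ * id x * s ^ n :=
    (pow_step hE hRT hs ((dSys_sub (mapFn_ev hQ ha)).mono inf_le_left) hbr h2 n).congr fun x hx => by
      rw [hbi n x hx, hn, pow_orderOf_eq_one, ev_one hx.1]; rfl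
  have hsinv : MapFn E R fun x => s⁻¹ * x * s :=
    (pow_step hE hRT (S.pow_mem hs n) (mapFn_id hRS) (Set.image_id _) hsn m).congr fun x _ => by
      rw [hm, Function.iterate_id]; rfl
  obtain ⟨R', -, hR'⟩ := hsinv.exists_image
  obtain ⟨k, hk, -, hk₁, -⟩ := hsinv.exists_inv hR'
  refine (h2.comp hk fun x hx => mem_of_image hR' (hm' x hx)).congr fun x hx => ?_
  show k (s⁻¹ * ev a x * s) = ev a x
  exact hk₁ _ (hm' x hx)

include F in
/-- The generated system contains `E`. -/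
theorem sub_dSys (hS : IsPGroup p S) (hE : E.IsWeaklyNormalIn F p) : E.IsSubsystemOf (dSys F E p) := by
  have hTsc := hE.2.2.2.1
  have := finite_of_le hTsc.1
  have hTp := hS.to_le hTsc.1
  intro P
  refine hom_subset_iff_mapFn.mpr fun f hf => ?_
  refine alperin_induction hTp hE.1 (fun P f => MapFn (dSys F E p) P f) (fun _ h e => h.congr e)
    (fun _ h hR => h.mono hR) (fun _ h _ h' hm => h.comp h' hm) ?_ ?_ P f hf
  · intro P R f g _ h hr _ hinv
    obtain ⟨k, hk, -, hk₁, -⟩ := h.exists_inv hr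
    refine hk.congr fun y hy => ?_
    obtain ⟨x, hx, rfl⟩ := exists_of_image hr hy
    rw [hk₁ x hx, hinv x hx]
  intro Q hQn hQc hQr _ f hf hfr
  have hQT := hQn.1
  have hQS := hQT.trans hTsc.1
  have hc : TCentric F T (Q ⊓ T) := by
    rw [inf_eq_left.mpr hQT]; exact tcentric_of_centric hE.2.2 hQc
  have := finite_mulAut hQS
  obtain ⟨α, hα, hαe⟩ := hf.exists_aut hfr
  obtain ⟨o, ho, q, hq, rfl⟩ := (sylIn_autS hTp hE.1 hQn).exists_opr_mul hα
  let K : Subgroup (MulAut Q) := (dSys F E p).autGroup Q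
  have hK : ∀ {a : MulAut Q}, a ∈ K → MapFn (dSys F E p) Q (ev a) := fun h => mapFn_ev hQS h
  have hKmem : ∀ {a : MulAut Q}, MapFn (dSys F E p) Q (ev a) → a ∈ K := fun h =>
    (mem_autGroup_iff_mapFn hQS).mpr ⟨_, h, ev_val _⟩
  have hoK : o ∈ K := opr_induction K (fun g hg hgp => hKmem (genMap_of_ev hE.2.2 hQS hc
    (show g ∈ bAut hE.2.2 hQS from ⟨mapFn_of_sub hE.2.2.1 (mapFn_ev hQT hg), ev_image g,
      fun x hx => T.mul_mem (T.inv_mem (hQT hx)) (hQT (ev_mem g hx)),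
      (mapFn_ev hQT hg).mono inf_le_left⟩) hgp).mapFn) ho
  have hqK : q ∈ K := autInducedBy_le_autGroup hQS (autInducedBy_mono hTsc.1 _ hq)
  refine (hK (K.mul_mem hoK hqK)).congr fun x hx => ?_
  rw [ev_coe _ hx]; exact hαe ⟨x, hx⟩

end CfsgLib.RE
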