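import Cfsg.Agent.Lib.Fusion.MeetSaturated

/-!
# Systems generated by automorphisms of order prime to `p`

For such a system and a fully normalized `X` above which every subgroup has a fully automized receptive
conjugate, every conjugate of `X` is carried onto `X` by a map on its normalizer and the automorphisms of
`X` are `O^p` times the conjugations by `S`. Full automization and receptivity of `X` reduce to a Sylow
condition on `O^p` and to the extension of its elements of order prime to `p`.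
-/

set_option autoImplicit false

namespace CfsgLib.RE

open Cfsg Cfsg.FusionSystem CfsgLib.Fusion CfsgLib.FusionNormal CfsgLib.Fusion.PPrimeRes CfsgLib.Meet
open CfsgLib.Fusion.SatCrit

variable {Ω : Type*} [Group Ω] {S : Subgroup Ω} {D : FusionSystem S} {p : ℕ}
variable {A B K X : Subgroup Ω} {f g : Ω → Ω}

/-- The system is generated by the inner maps and automorphisms of order prime to `p`. -/
def Generated (D : FusionSystem S) (p : ℕ) : Prop :=
  ∀ C : MapPred D, (∀ (R : Subgroup Ω) (f : Ω → Ω), MapFn D R f →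
      (∃ a : MulAut R, (orderOf a).Coprime p ∧ ∀ x : R, f x = ((a x : R) : Ω)) → C.pred R f) →
    ∀ (P : Subgroup Ω) (f : Ω → Ω), MapFn D P f → C.pred P f

/-- `O^p` of the automorphisms of `X` times the conjugations by `S`. -/
def jGrp (D : FusionSystem S) (p : ℕ) (X : Subgroup Ω) : Subgroup (MulAut X) :=
  opr p (D.autGroup X) ⊔ autInducedBy S X

/-- `f` is an automorphism of `X` in `jGrp`. -/
def JA (D : FusionSystem S) (p : ℕ) (X : Subgroup Ω) (f : Ω → Ω) : Prop :=
  ∃ a ∈ jGrp D p X, ∀ x ∈ X, f x = ev a x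

theorem jA_congr (h : JA D p X f) (e : ∀ x ∈ X, f x = g x) : JA D p X g := by
  obtain ⟨a, ha, hae⟩ := h
  exact ⟨a, ha, fun x hx => (e x hx).symm.trans (hae x hx)⟩

theorem JA.image (h : JA D p X f) : f '' X = (X : Set Ω) := by
  obtain ⟨a, -, hae⟩ := h
  exact (Set.image_congr hae).trans (ev_image a)

theorem jA_comp (h : JA D p X f) (h' : JA D p X g) : JA D p X (g ∘ f) := by
  obtain ⟨a, ha, hae⟩ := h
  obtain ⟨b, hb, hbe⟩ := h'
  refine ⟨b * a, Subgroup.mul_mem _ hb ha, fun x hx => ?_⟩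
  show g (f x) = _
  rw [hae x hx, hbe _ (ev_mem a hx), ev_mul _ _ hx]

theorem jA_inv (h : JA D p X f) (hg : ∀ x ∈ X, g (f x) = x) : JA D p X g := by
  obtain ⟨a, ha, hae⟩ := h
  refine ⟨a⁻¹, Subgroup.inv_mem _ ha, fun y hy => ?_⟩
  have h1 := hg _ (ev_mem a⁻¹ hy)
  rwa [hae _ (ev_mem a⁻¹ hy), ev_ev_inv a hy] at h1

theorem jA_conj {t : Ω} (ht : t ∈ normalizerIn S X) : JA D p X fun x => t * x * t⁻¹ := by
  obtain ⟨c, hc, hce⟩ := exists_autInducedBy (K := S) ht.1 ht.2
  exact ⟨c, Subgroup.mem_sup_right hc, fun x hx => (ev_conj_of hce hx).symm⟩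

theorem jA_of_coprime (hX : X ≤ S) (hf : MapFn D X f) {a : MulAut X} (ha : (orderOf a).Coprime p)
    (hae : ∀ x : X, f x = ((a x : X) : Ω)) : JA D p X f :=
  ⟨a, Subgroup.mem_sup_left (mem_opr ((mem_autGroup_iff_mapFn hX).mpr ⟨f, hf, hae⟩) ha),
    fun x hx => (hae ⟨x, hx⟩).trans (ev_coe a hx).symm⟩

theorem JA.mapFn (hX : X ≤ S) (h : JA D p X f) : MapFn D X f := by
  obtain ⟨a, ha, hae⟩ := h
  have hle : jGrp D p X ≤ D.autGroup X := sup_le opr_le (autInducedBy_le_autGroup hX)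
  exact (mapFn_ev hX (hle ha)).congr fun x hx => (hae x hx).symm

variable [Finite S] [Fact p.Prime]

/-- Carried along a map defined on the normalizer. -/
theorem JA.transport (h : JA D p A f) {θ : Ω → Ω} (hθ : MapFn D (normalizerIn S A) θ) (hA : A ≤ S)
    (hθA : θ '' A = (B : Set Ω)) (he : ∀ x ∈ A, g (θ x) = θ (f x)) : JA D p B g := by
  have hAN := le_normalizerIn (S := S) hA
  obtain ⟨φ, hφ, hφe⟩ := hθ.mono hAN
  obtain ⟨e, he'⟩ := exists_equiv hφ (Q := B) (SetLike.coe_injective (by rw [← MapFn.image_eq_range hφe, hθA]))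
  have hee : ∀ x : A, ((e x : B) : Ω) = θ x := fun x => (he' x).trans (hφe x)
  set Φ := (MulAut.congr e).toMonoidHom with hΦ
  obtain ⟨a, ha, hae⟩ := h
  refine ⟨Φ a, ?_, fun y hy => ?_⟩
  · refine (?_ : jGrp D p A ≤ (jGrp D p B).comap Φ) ha
    refine sup_le (Subgroup.map_le_iff_le_comap.mp ((map_opr_le Φ fun b hb =>
      (map_autGroup hφ he').le ⟨b, hb, rfl⟩).trans le_sup_left)) fun c hc => ?_
    obtain ⟨s, hs, hse⟩ := mem_autInducedBy.mp hc
    have hsN : s ∈ normalizerIn S A := ⟨hs, mem_normalizer_of_aut hse⟩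
    refine Subgroup.mem_sup_right (mem_autInducedBy.mpr ⟨θ s, hθ.mem_S hsN, fun y => ?_⟩)
    obtain ⟨x, rfl⟩ := e.surjective y
    rw [hee, ← hθ.map_conj hsN (hAN x.2), ← hse, ← hee]
    simp [Φ, MulAut.congr]
  · obtain ⟨x, hx, rfl⟩ := exists_of_image hθA hy
    rw [he x hx, hae x hx, ev_coe a hx, ← hee ⟨x, hx⟩, ← hee (a ⟨x, hx⟩), ev_val]
    simp [Φ, MulAut.congr]

section class_

variable (hS : IsPGroup p S) (hgen : Generated D p) (hn : D.IsFullyNormalized X) (hbig : Big D p X)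

include hS hgen hn in
/-- Induction over the maps inside a class. -/
theorem class_ind (C : Subgroup Ω → (Ω → Ω) → Prop)
    (hcongr : ∀ {A f g}, C A f → (∀ x ∈ A, f x = g x) → C A g)
    (hcomp : ∀ {A B : Subgroup Ω} {f g : Ω → Ω}, D.IsConj A X → MapFn D A f → f '' A = (B : Set Ω) → C A f →
      MapFn D B g → C B g → C A (g ∘ f))
    (hinv : ∀ {A B : Subgroup Ω} {f g : Ω → Ω}, D.IsConj A X → MapFn D A f → f '' A = (B : Set Ω) → C A f →
      MapFn D B g → (∀ x ∈ A, g (f x) = x) → C B g)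
    (hbase : ∀ {A K : Subgroup Ω} {f : Ω → Ω}, D.IsConj A X → A < K → K ≤ normalizerIn S A → MapFn D K f →
      C A f)
    (haut : ∀ {A : Subgroup Ω} {f : Ω → Ω}, D.IsConj A X → JA D p A f → C A f) :
    ∀ A f, D.IsConj A X → MapFn D A f → C A f := by
  have hbase' : ∀ {R : Subgroup Ω} {f : Ω → Ω} (A : Subgroup Ω), D.IsConj A X → A < R →
      MapFn D R f → C A f := fun {R f} A hA hlt hf =>
    hbase hA (Fusion.lt_normalizerIn hS hf.le_S hlt) (inf_le_inf_right _ hf.le_S) (hf.mono normalizerIn_le)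
  intro A f hA hf
  refine (hgen
    { pred := fun R φ => MapFn D R φ ∧ ∀ A ≤ R, D.IsConj A X → C A φ
      congr := fun ⟨hm, h⟩ e => ⟨hm.congr e, fun A hA hc => hcongr (h A hA hc) fun x hx => e x (hA hx)⟩
      conj := fun {R g} hR hg => ⟨mapFn_conj hR hg, fun A hA hc => ?_⟩
      comp := ?_
      inv := ?_ } (fun R φ hφ ⟨a, hap, hae⟩ => ⟨hφ, fun A hA hc => ?_⟩) A f hf).2 A le_rfl hA
  · rcases eq_or_lt_of_le (hA.trans hR) with rfl | hlt
    · exact haut hc (jA_conj ⟨hg, Subgroup.le_normalizer hg⟩)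
    · exact hbase' A hc hlt (mapFn_conj le_rfl hg)
  · rintro P Q u v - ⟨hu, h1⟩ - ⟨hv, h2⟩ hm
    refine ⟨hu.comp hv hm, fun A hA hc => ?_⟩
    obtain ⟨B, -, hB⟩ := (hu.mono hA).exists_image
    have hBQ : B ≤ Q := fun y hy => by
      obtain ⟨x, hx, rfl⟩ := exists_of_image hB hy
      exact hm x (hA hx)
    exact hcomp hc (hu.mono hA) hB (h1 A hA hc) (hv.mono hBQ)
      (h2 B hBQ (isConj_trans (isConj_symm ((hu.mono hA).isConj hB)) hc))
  · rintro P Q u v - ⟨hu, h1⟩ hr hv huv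
    obtain ⟨k, hk, hkr, hk₁, hk₂⟩ := hu.exists_inv hr
    refine ⟨hv, fun B hB hc => ?_⟩
    obtain ⟨A, -, hA⟩ := (hk.mono hB).exists_image
    have hAP : A ≤ P := fun y hy => by
      obtain ⟨z, hz, rfl⟩ := exists_of_image hA hy
      exact mem_of_image hkr (hB hz)
    have hAc : D.IsConj A X := isConj_trans (isConj_symm ((hk.mono hB).isConj hA)) hc
    have huA : u '' A = (B : Set Ω) := by
      rw [← hA, Set.image_image]
      exact (Set.image_congr fun y hy => hk₂ y (hB hy)).trans (Set.image_id' _)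
    exact hinv hAc (hu.mono hAP) huA (h1 A hAP hAc) (hv.mono hB) fun x hx => huv x (hAP hx)
  · rcases eq_or_lt_of_le hA with rfl | hlt
    · exact haut hc (jA_of_coprime hφ.le_S hφ hap hae)
    · exact hbase' A hc hlt hφ

include hS hgen hn hbig in
theorem reach_of_generated (hA : D.IsConj A X) : Reach D X A := by
  obtain ⟨f, hf, hfr⟩ := isConj_iff.mp hA
  refine (class_ind hS hgen hn (fun A f => ∀ B : Subgroup Ω, f '' A = (B : Set Ω) →
      (Reach D X A ↔ Reach D X B))
    (fun h e B hB => h B ((Set.image_congr e).trans hB))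
    (fun {A B f g} _ _ hB h hg h' C hC => by
      obtain ⟨C', -, hC'⟩ := hg.exists_image
      obtain rfl : C' = C := SetLike.coe_injective ((image_comp hB hC').symm.trans hC)
      exact (h B hB).trans (h' C' hC'))
    (fun {A B f g} _ _ hB h _ hgf C hC => by
      obtain rfl : C = A := SetLike.coe_injective (hC.symm.trans (by
        rw [← hB, Set.image_image]; exact (Set.image_congr fun x hx => hgf x hx).trans (Set.image_id' _)))
      exact (h B hB).symm)
    (fun {A K f} hA hlt hKN hf B hB => ?_)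
    (fun {A f} _ hf B hB => by rw [show B = A from SetLike.coe_injective (hB.symm.trans hf.image)])
    A f hA hf X hfr).mpr ⟨id, mapFn_id normalizerIn_le, Set.image_id _⟩
  refine ⟨fun hr => ?_, reach_of_edge hS hbig hn _ A B K f (Nat.lt_succ_self _) hA hlt hKN hf hB⟩
  obtain ⟨J, -, hJ⟩ := hf.exists_image
  obtain ⟨g, hg, -, hg₁, -⟩ := hf.exists_inv hJ
  have hBJ : B ≤ J := fun y hy => by
    obtain ⟨x, hx, rfl⟩ := exists_of_image hB hy
    exact mem_of_image hJ (hlt.le hx)
  have hJN : J ≤ normalizerIn S B := fun y hy => by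
    obtain ⟨x, hx, rfl⟩ := exists_of_image hJ hy
    exact maps_normalizer hlt.le hf hB hKN x hx
  have hgB : g '' B = (A : Set Ω) := by
    rw [← hB, Set.image_image]
    exact (Set.image_congr fun x hx => hg₁ x (hlt.le hx)).trans (Set.image_id' _)
  refine reach_of_edge hS hbig hn _ B A J g (Nat.lt_succ_self _)
    (isConj_trans (isConj_symm ((hf.mono hlt.le).isConj hB)) hA) (lt_of_le_of_ne hBJ fun h => ?_) hJN hg hgB hr
  have h1 := hf.card_image hJ
  have h2 := (hf.mono hlt.le).card_image hB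
  have h3 := FusionNormal.card_lt_card hf.le_S hlt
  rw [h] at h2
  omega

include hS hgen hn hbig in
/-- A map stabilizing `X` and defined on more is in `jGrp`. -/
theorem stab_edge : ∀ (n : ℕ) (K : Subgroup Ω) (k : Ω → Ω), Nat.card S - Nat.card K < n → X < K →
    K ≤ normalizerIn S X → MapFn D K k → k '' X = (X : Set Ω) → JA D p X k := by
  have hXS := hn.1
  have := finite_mulAut hXS
  have hreach : ∀ {A}, D.IsConj A X → Reach D X A := fun hA => reach_of_generated hS hgen hn hbig hA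
  intro n
  induction n with
  | zero => intro K k h; omega
  | succ n ih =>
  intro K k hlt hXK hKN hk hkX
  have hKS : K ≤ S := hKN.trans normalizerIn_le
  have hc : Nat.card X < Nat.card K := FusionNormal.card_lt_card hKS hXK
  have := finite_mulAut hKS
  let Γ : Subgroup (MulAut K) := D.autGroup K ⊓ resSet hXK.le (D.autGroup X)
  let Γ₀ : Subgroup (MulAut K) := D.autGroup K ⊓ resSet hXK.le (opr p (D.autGroup X))
  have hle : Γ₀ ≤ Γ := inf_le_inf_left _ (resSet_mono hXK.le opr_le)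
  have hnorm : ∀ a ∈ Γ, ∀ b ∈ Γ₀, a * b * a⁻¹ ∈ Γ₀ := by
    rintro a ⟨ha, o, ho, hoe⟩ b ⟨hb, o', ho', ho'e⟩
    refine ⟨Subgroup.mul_mem _ (Subgroup.mul_mem _ ha hb) (Subgroup.inv_mem _ ha), o * o' * o⁻¹,
      opr_conj_self ho ho', fun x => ?_⟩
    have h1 : (⟨x, hXK.le x.2⟩ : K) = a ⟨((o⁻¹ x : X) : Ω), hXK.le (Subtype.mem _)⟩ :=
      Subtype.ext (by rw [hoe, MulAut.apply_inv_self])
    rw [MulAut.mul_apply, MulAut.mul_apply, h1, MulAut.inv_apply_self]
    have h2 : b ⟨((o⁻¹ x : X) : Ω), hXK.le (Subtype.mem _)⟩ =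
        ⟨((o' (o⁻¹ x) : X) : Ω), hXK.le (Subtype.mem _)⟩ := Subtype.ext (ho'e _)
    rw [h2, hoe]
    rfl
  have hΓX : ∀ a ∈ Γ, ∀ x ∈ X, ev a x ∈ X := by
    rintro a ⟨-, o, -, hoe⟩ x hx
    rw [ev_coe a (hXK.le hx), hoe ⟨x, hx⟩]; exact Subtype.mem _
  have hΓmem : ∀ a ∈ D.autGroup K, (∀ x ∈ X, ev a x ∈ X) → a ∈ Γ := fun a ha h => by
    obtain ⟨γ, hγ, hγe, -⟩ := exists_restrict_aut hKS hXK.le ha h
    exact ⟨ha, γ, hγ, fun x => by rw [← ev_val a ⟨x, hXK.le x.2⟩, hγe x x.2, ev_val]⟩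
  have hpow : ∀ a ∈ Γ, ∃ l : ℕ, a ^ p ^ l ∈ Γ₀ := fun a ha => by
    refine ⟨(orderOf a).factorization p, (Γ.pow_mem ha _).1, ?_⟩
    obtain ⟨-, o, ho, hoe⟩ := Γ.pow_mem ha (p ^ (orderOf a).factorization p)
    have hord : (orderOf (a ^ p ^ (orderOf a).factorization p)).Coprime p := by
      rw [orderOf_pow_of_dvd (pow_ne_zero _ (Fact.out : p.Prime).ne_zero) (Nat.ordProj_dvd _ _)]
      exact (Nat.coprime_ordCompl Fact.out (orderOf_pos a).ne').symm
    refine ⟨o, mem_opr ho (hord.coprime_dvd_left (orderOf_dvd_of_pow_eq_one ?_)), hoe⟩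
    exact pow_eq_one_of_restrict hXK.le (fun x hx => by rw [ev_coe _ (hXK.le hx), hoe ⟨x, hx⟩, ev_coe o hx])
      (pow_orderOf_eq_one _)
  have hJA : ∀ m ∈ Γ₀, JA D p X (ev m) := by
    rintro m ⟨-, o, ho, hoe⟩
    exact ⟨o, Subgroup.mem_sup_left ho, fun x hx => by
      rw [ev_coe m (hXK.le hx), hoe ⟨x, hx⟩, ev_coe o hx]⟩
  have hconjΓ : ∀ g ∈ normalizerIn (normalizerIn S X) K, ∀ a ∈ D.autGroup K,
      (∀ x : K, ((a x : K) : Ω) = g * (x : Ω) * g⁻¹) → a ∈ Γ := fun g hg a ha hge =>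
    hΓmem a ha fun x hx => by rw [ev_conj_of hge (hXK.le hx)]; exact conj_mem_of_normalizer hg.1.2 hx
  by_cases hKeq : K = normalizerIn S X
  · have hkK : k '' K = (K : Set Ω) := hk.image_eq_of_maps hKS
      (fun y hy => hKeq.ge (maps_normalizer hXK.le hk hkX hKN y hy)) le_rfl
    obtain ⟨a, ha, hae⟩ := hk.exists_aut hkK
    have hak : ∀ x ∈ K, ev a x = k x := fun x hx => by rw [ev_coe a hx, hae]
    have haΓ : a ∈ Γ := hΓmem a ha fun x hx => by rw [hak x (hXK.le hx)]; exact mem_of_image hkX hx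
    have hinn : autInducedBy K K ≤ Γ := fun c hc => by
      obtain ⟨g, hg, hge⟩ := mem_autInducedBy.mp hc
      exact hconjΓ g ⟨hKN hg, Subgroup.le_normalizer hg⟩ c
        (autInducedBy_le_autGroup hKS (autInducedBy_mono hKS _ hc)) hge
    obtain ⟨-, -, Sy, -, hSyΓ, hSyp, -, hdec⟩ := exists_conj_into (p := p) (Γ := Γ) (Γ₀ := Γ₀)
      (B := ⊥) hle hnorm hpow hinn (isPGroup_autInducedBy (hS.to_le hKS) K) bot_le IsPGroup.of_bot
    obtain ⟨m, hm, s, hs, hms⟩ := hdec a haΓ
    obtain ⟨Q, -, φ, hφ, hφr, hφs⟩ := exists_target hbig hKS hc (hSyΓ.trans inf_le_left) hSyp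
    obtain ⟨f, hf, hfe⟩ := mapFn_of_hom hφ
    obtain ⟨r, hr, hre⟩ := hφs s hs
    have hsX := hΓX s (hSyΓ hs)
    have hre' : ∀ x ∈ K, f (ev s x) = r * f x * r⁻¹ := fun x hx => by
      have h1 := hre ⟨x, hx⟩
      rw [hfe, hfe, ← ev_val] at h1
      exact h1
    obtain ⟨V, hVS, hV⟩ := (hf.mono hXK.le).exists_image
    have hrV : r ∈ normalizerIn S V := by
      have := finite_of_le hVS
      refine ⟨hr, mem_normalizer_of_forall fun y hy => ?_⟩
      obtain ⟨x, hx, rfl⟩ := exists_of_image hV hy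
      rw [← hre' x (hXK.le hx)]
      exact mem_of_image hV (hsX x hx)
    obtain ⟨J, -, hJ⟩ := hf.exists_image
    have hJN : J ≤ normalizerIn S V := fun y hy => by
      obtain ⟨x, hx, rfl⟩ := exists_of_image hJ hy
      exact maps_normalizer hXK.le hf hV hKN x hx
    have := finite_of_le (normalizerIn_le : normalizerIn S V ≤ S)
    have hJeq : J = normalizerIn S V := by
      refine eq_of_le_of_card_le hJN ?_
      rw [hf.card_image hJ, hKeq]
      exact hn.2 V ((hf.mono hXK.le).isConj hV)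
    obtain ⟨g, hg, rfl⟩ := exists_of_image hJ (hJeq.ge hrV)
    have hsg : ∀ x ∈ K, ev s x = g * x * g⁻¹ := fun x hx => by
      refine hf.injOn (ev_mem s hx) (K.mul_mem (K.mul_mem hg hx) (K.inv_mem hg)) ?_
      rw [hre' x hx, hf.map_conj hg hx]
    refine jA_congr (jA_comp (jA_conj (hKN hg)) (hJA m hm)) fun x hx => ?_
    show ev m (g * x * g⁻¹) = k x
    rw [← hsg x (hXK.le hx), ← ev_mul _ _ (hXK.le hx), ← hms, hak x (hXK.le hx)]
  · have hKlt : K < normalizerIn S X := lt_of_le_of_ne hKN hKeq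
    obtain ⟨K', -, hK'⟩ := hk.exists_image
    have hXK' : X ≤ K' := fun y hy => by
      obtain ⟨x, hx, rfl⟩ := exists_of_image hkX hy
      exact mem_of_image hK' (hXK.le hx)
    have hK'N : K' ≤ normalizerIn S X := fun y hy => by
      obtain ⟨x, hx, rfl⟩ := exists_of_image hK' hy
      exact maps_normalizer hXK.le hk hkX hKN x hx
    have hK'lt : K' < normalizerIn S X := lt_of_le_of_ne hK'N fun h => by
      have h1 := hk.card_image hK'
      have h2 := FusionNormal.card_lt_card (normalizerIn_le (S := S) (P := X)) hKlt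
      rw [h] at h1
      omega
    set M := normalizerIn (normalizerIn S X) K with hM
    set M' := normalizerIn (normalizerIn S X) K' with hM'
    have hKM : K < M := Fusion.lt_normalizerIn hS normalizerIn_le hKlt
    have hK'M : K' < M' := Fusion.lt_normalizerIn hS normalizerIn_le hK'lt
    obtain ⟨m, hm, δ, δ', hδ, hδ', hrel⟩ := widen hS hbig hc hk hK' (Γ := Γ) (Γ₀ := Γ₀) inf_le_left
      hle hnorm hpow (M := M) (M' := M') (inf_le_inf_right _ normalizerIn_le)
      (inf_le_inf_right _ normalizerIn_le) hconjΓ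
      (fun g hg a ha hge => hΓmem a ha fun x hx => by
        obtain ⟨z, hz, hze⟩ := exists_of_image hkX (conj_mem_of_normalizer hg.1.2 (mem_of_image hkX hx))
        rw [← hge ⟨x, hXK.le hx⟩, ← ev_val] at hze
        rw [← hk.injOn (hXK.le hz) (ev_mem a (hXK.le hx)) hze]; exact hz)
    rw [sup_eq_right.mpr hKM.le] at hδ
    rw [sup_eq_right.mpr hK'M.le] at hδ'
    obtain ⟨C, hCS, hC⟩ := (hδ.mono (hXK.le.trans hKM.le)).exists_image
    have hm' := hJA m hm
    have hrelX : ∀ x ∈ X, δ' (k x) = δ (ev m x) := fun x hx => by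
      rw [hrel ⟨x, hXK.le hx⟩, ev_coe m (hXK.le hx)]
    have hδ'X : δ' '' X = (C : Set Ω) := by
      conv_lhs => rw [← hkX, Set.image_image]
      rw [← hC]
      conv_rhs => rw [← hm'.image, Set.image_image]
      exact Set.image_congr hrelX
    obtain ⟨gC, hgC, hgCC⟩ := hreach (isConj_symm ((hδ.mono (hXK.le.trans hKM.le)).isConj hC))
    have hMN : M ≤ normalizerIn S X := normalizerIn_le
    have hM'N : M' ≤ normalizerIn S X := normalizerIn_le
    have hcardM := FusionNormal.card_lt_card (hMN.trans normalizerIn_le) hKM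
    have hcardM' := FusionNormal.card_lt_card (hM'N.trans normalizerIn_le) hK'M
    have hM₁ := card_le_card_S (hMN.trans (normalizerIn_le (S := S)))
    have hM'₁ := card_le_card_S (hM'N.trans (normalizerIn_le (S := S)))
    have hcK := hk.card_image hK'
    have h₁ := ih M (gC ∘ δ) (by omega) (hXK.trans hKM) hMN
      (hδ.comp hgC (maps_normalizer (hXK.le.trans hKM.le) hδ hC hMN)) (image_comp hC hgCC)
    have h₂ := ih M' (gC ∘ δ') (by omega) (lt_of_le_of_lt hXK' hK'M) hM'N
      (hδ'.comp hgC (maps_normalizer (hXK'.trans hK'M.le) hδ' hδ'X hM'N)) (image_comp hδ'X hgCC)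
    obtain ⟨i₂, -, -, hi₂, -⟩ := (h₂.mapFn hXS).exists_inv h₂.image
    refine jA_congr (jA_comp (jA_comp hm' h₁) (jA_inv h₂ hi₂)) fun x hx => ?_
    show i₂ (gC (δ (ev m x))) = k x
    rw [← hrelX x hx]
    exact hi₂ _ (mem_of_image hkX hx)

include hS hgen hn hbig in
/-- The automorphisms of `X` are `O^p` times the conjugations by `S`. -/
theorem auto_of_generated (hf : MapFn D X f) (hfX : f '' X = (X : Set Ω)) : JA D p X f := by
  have hXS := hn.1
  by_cases hXeq : X = S
  · have hconj : ∀ {A}, D.IsConj A X → A = X := fun {A} hA => by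
      have hAS := IsConj.le_left hA
      rw [hXeq] at hA ⊢
      exact eq_of_le_of_card_le hAS (IsConj.card_eq hA).le
    refine class_ind hS hgen hn (fun A f => A = X → JA D p X f)
      (fun {A f g} h e hA => jA_congr (h hA) fun x hx => e x (hA.symm ▸ hx))
      (fun {A B f g} hA hf hB h _ h' e => jA_comp (h e)
        (h' (hconj (isConj_trans (isConj_symm (hf.isConj hB)) hA))))
      (fun {A B f g} hA _ _ h _ hgf _ => jA_inv (h (hconj hA)) fun x hx => hgf x ((hconj hA).symm ▸ hx))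
      (fun {A K f} _ hlt hK _ e => absurd (hlt.trans_le (hK.trans normalizerIn_le)) (by rw [e, hXeq]; exact lt_irrefl S))
      (fun {A f} _ h e => e ▸ h) X f (isConj_refl hXS) hf rfl
  have hXN : X ≤ normalizerIn S X := le_normalizerIn hXS
  have hreach : ∀ {A}, D.IsConj A X → Reach D X A := fun hA => reach_of_generated hS hgen hn hbig hA
  have hedge : ∀ {A K : Subgroup Ω} {f : Ω → Ω}, D.IsConj A X → A < K → K ≤ normalizerIn S A →
      MapFn D K f → ∀ (B : Subgroup Ω) (gA gB : Ω → Ω), f '' A = (B : Set Ω) →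
      MapFn D (normalizerIn S A) gA → gA '' A = (X : Set Ω) →
      MapFn D (normalizerIn S B) gB → gB '' B = (X : Set Ω) →
      ∃ e, JA D p X e ∧ ∀ x ∈ A, e (gA x) = gB (f x) := by
    intro A K f hA hlt hKN hf B gA gB hB h1 h2 h3 h4
    obtain ⟨K₁, -, hK₁⟩ := (h1.mono hKN).exists_image
    obtain ⟨gi, hgi, hgir, hgi₁, -⟩ := (h1.mono hKN).exists_inv hK₁
    have hXK₁ : X < K₁ := by
      refine lt_of_le_of_ne (fun y hy => ?_) fun h => ?_
      · obtain ⟨x, hx, rfl⟩ := exists_of_image h2 hy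
        exact mem_of_image hK₁ (hlt.le hx)
      · have h5 := (h1.mono hKN).card_image hK₁
        rw [← h, IsConj.card_eq hA] at h5
        have := FusionNormal.card_lt_card (hKN.trans normalizerIn_le) hlt
        omega
    have hK₁N : K₁ ≤ normalizerIn S X := fun y hy => by
      obtain ⟨x, hx, rfl⟩ := exists_of_image hK₁ hy
      exact maps_normalizer (le_normalizerIn (hlt.le.trans hf.le_S)) h1 h2 le_rfl x (hKN hx)
    have hmap := (hgi.comp hf fun y hy => mem_of_image hgir hy).comp h3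
      fun y hy => maps_normalizer hlt.le hf hB hKN _ (mem_of_image hgir hy)
    have hfix : (gB ∘ f ∘ gi) '' X = (X : Set Ω) := by
      conv_lhs => rw [← h2, Set.image_image]
      rw [← h4, ← hB, Set.image_image]
      exact Set.image_congr fun x hx => by
        show gB (f (gi (gA x))) = gB (f x)
        rw [hgi₁ x (hlt.le hx)]
    refine ⟨_, stab_edge hS hgen hn hbig _ K₁ _ (Nat.lt_succ_self _) hXK₁ hK₁N hmap hfix, fun x hx => ?_⟩
    show gB (f (gi (gA x))) = _
    rw [hgi₁ x (hlt.le hx)]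
  have key := class_ind hS hgen hn
    (fun A f => ∀ (B : Subgroup Ω) (gA gB : Ω → Ω), f '' A = (B : Set Ω) →
      MapFn D (normalizerIn S A) gA → gA '' A = (X : Set Ω) →
      MapFn D (normalizerIn S B) gB → gB '' B = (X : Set Ω) →
      ∃ e, JA D p X e ∧ ∀ x ∈ A, e (gA x) = gB (f x))
    (fun {A f g} h hfg B gA gB hB h1 h2 h3 h4 => by
      obtain ⟨e, he, hee⟩ := h B gA gB ((Set.image_congr hfg).trans hB) h1 h2 h3 h4
      exact ⟨e, he, fun x hx => by rw [hee x hx, hfg x hx]⟩)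
    (fun {A B f g} hA hf hB h hg h' C gA gC hC h1 h2 h3 h4 => by
      obtain ⟨gB, hgB, hgBB⟩ := hreach (isConj_trans (isConj_symm (hf.isConj hB)) hA)
      obtain ⟨C', -, hC'⟩ := hg.exists_image
      obtain rfl : C' = C := SetLike.coe_injective ((image_comp hB hC').symm.trans hC)
      obtain ⟨e, he, hee⟩ := h B gA gB hB h1 h2 hgB hgBB
      obtain ⟨e', he', he'e⟩ := h' C' gB gC hC' hgB hgBB h3 h4
      refine ⟨e' ∘ e, jA_comp he he', fun x hx => ?_⟩
      show e' (e (gA x)) = gC (g (f x))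
      rw [hee x hx, he'e _ (mem_of_image hB hx)])
    (fun {A B f g} hA _ hB h _ hgf C gB gA hC h1 h2 h3 h4 => by
      obtain rfl : C = A := SetLike.coe_injective (hC.symm.trans (by
        rw [← hB, Set.image_image]; exact (Set.image_congr fun x hx => hgf x hx).trans (Set.image_id' _)))
      obtain ⟨e, he, hee⟩ := h B gA gB hB h3 h4 h1 h2
      obtain ⟨ei, -, -, hei₁, -⟩ := (he.mapFn hXS).exists_inv he.image
      refine ⟨ei, jA_inv he hei₁, fun y hy => ?_⟩
      obtain ⟨x, hx, rfl⟩ := exists_of_image hB hy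
      rw [← hee x hx, hgf x hx, hei₁ _ (mem_of_image h4 hx)])
    (fun {A K f} hA hlt hKN hf => hedge hA hlt hKN hf)
    (fun {A f} hA hf B gA gB hB h1 h2 h3 h4 => by
      obtain rfl : B = A := SetLike.coe_injective (hB.symm.trans hf.image)
      have hBS := IsConj.le_left hA
      have hne : B ≠ S := fun h => by
        have h5 := IsConj.card_eq hA
        rw [h] at h5
        exact hXeq (eq_of_le_of_card_le hXS h5.ge)
      obtain ⟨e₁, he₁, he₁e⟩ := hedge hA (Fusion.lt_normalizerIn hS le_rfl (lt_of_le_of_ne hBS hne)) le_rfl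
        (mapFn_id normalizerIn_le) B gA gB (Set.image_id _) h1 h2 h3 h4
      obtain ⟨gi, hgi, hgir, hgi₁, -⟩ := (h1.mono (le_normalizerIn hBS)).exists_inv h2
      have h0 : JA D p X (gA ∘ f ∘ gi) := hf.transport h1 hBS h2 fun x hx => by
        show gA (f (gi (gA x))) = gA (f x)
        rw [hgi₁ x hx]
      refine ⟨e₁ ∘ gA ∘ f ∘ gi, jA_comp h0 he₁, fun x hx => ?_⟩
      show e₁ (gA (f (gi (gA x)))) = gB (f x)
      rw [hgi₁ x hx]
      exact he₁e _ (mem_of_image hf.image hx))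
    X f (isConj_refl hXS) hf X id id hfX (mapFn_id normalizerIn_le) (Set.image_id _)
    (mapFn_id normalizerIn_le) (Set.image_id _)
  obtain ⟨e, he, hee⟩ := key
  exact jA_congr he fun x hx => hee x hx

include hS hgen hn hbig in
theorem autGroup_eq_jGrp : D.autGroup X = jGrp D p X := by
  refine le_antisymm (fun a ha => ?_) (sup_le opr_le (autInducedBy_le_autGroup hn.1))
  obtain ⟨b, hb, hbe⟩ := auto_of_generated hS hgen hn hbig (mapFn_ev hn.1 ha) (ev_image a)
  rwa [aut_ext hbe]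

include hS hgen hn hbig in
/-- Full automization from the Sylow condition on `O^p`. -/
theorem sylIn_of_generated (hsyl : SylIn p (autInducedBy S X ⊓ opr p (D.autGroup X)) (opr p (D.autGroup X))) :
    SylIn p (autInducedBy S X) (D.autGroup X) := by
  have hXS := hn.1
  have := finite_mulAut hXS
  refine ⟨autInducedBy_le_autGroup hXS, isPGroup_autInducedBy hS X, fun R hle hRA hR => ?_⟩
  refine le_antisymm (fun r hr => ?_) hle
  have hr' := autGroup_eq_jGrp hS hgen hn hbig ▸ hRA hr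
  have hnorm : autInducedBy S X ≤ Subgroup.normalizer (opr p (D.autGroup X) : Set (MulAut X)) := fun s hs => by
    refine Subgroup.mem_normalizer_iff.mpr fun g => ⟨opr_conj_self (autInducedBy_le_autGroup hXS hs), fun hg => ?_⟩
    have := opr_conj_self (autInducedBy_le_autGroup hXS (Subgroup.inv_mem _ hs)) hg
    simpa [mul_assoc] using this
  rw [jGrp, ← SetLike.mem_coe, Subgroup.coe_mul_of_right_le_normalizer_left _ _ hnorm] at hr'
  obtain ⟨o, ho, s, hs, rfl⟩ := hr'
  have hoR : o ∈ R := by simpa using R.mul_mem hr (R.inv_mem (hle hs))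
  have h1 : R ⊓ opr p (D.autGroup X) = autInducedBy S X ⊓ opr p (D.autGroup X) :=
    hsyl.2.2 _ (inf_le_inf_right _ hle) inf_le_right (hR.to_le inf_le_left)
  exact Subgroup.mul_mem _ ((h1.le ⟨hoR, ho⟩ : _ ∈ _ ⊓ _).1) hs

include hS hgen hn hbig in
/-- Receptivity from the extension of the automorphisms of order prime to `p`. -/
theorem receptive_of_generated (hsyl : SylIn p (autInducedBy S X) (D.autGroup X))
    (hext : ∀ R ≤ autInducedBy S X, ∀ a ∈ D.autGroup X, (orderOf a).Coprime p →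
      (∀ r ∈ R, a * r * a⁻¹ ∈ R) → ∃ G, MapFn D (pre S X R) G ∧ ∀ y ∈ X, G y = ev a y) :
    D.IsReceptive X := by
  have hXS := hn.1
  have := finite_of_le hXS
  have := finite_mulAut hXS
  have hinn : autInducedBy X X ≤ autInducedBy S X := autInducedBy_mono hXS _
  have hcen : ∀ R : Subgroup (MulAut X), centralizerIn S X ≤ pre S X R := fun R c hc =>
    ⟨centralizerIn_le_normalizerIn hc, 1, Subgroup.one_mem _, fun x => by
      rw [MulAut.one_apply, ← (mem_centralizerIn.mp hc).2 x x.2, mul_inv_cancel_right]⟩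
  let C : Subgroup (MulAut X) → MulAut X → Prop := fun R x =>
    ∃ G, MapFn D (pre S X R) G ∧ ∀ y ∈ X, G y = ev x y
  have himg : ∀ {R R' : Subgroup (MulAut X)} {x : MulAut X} {G : Ω → Ω}, MapFn D (pre S X R) G →
      (∀ y ∈ X, G y = ev x y) → (∀ r ∈ R, x * r * x⁻¹ ∈ R') → ∀ t ∈ pre S X R, G t ∈ pre S X R' := by
    intro R R' x G hG hGe hxR t ht
    have hle := le_pre (R := R) hXS
    have hGX : G '' X = (X : Set Ω) := (Set.image_congr hGe).trans (ev_image x)
    obtain ⟨htN, r, hr, hre⟩ := id ht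
    refine ⟨⟨hG.mem_S ht, (hG.mem_normalizerIn hle hGX ht htN.2).2⟩, x * r * x⁻¹, conj_sup_inn hxR r hr, fun y => ?_⟩
    obtain ⟨z, rfl⟩ := x.surjective y
    rw [MulAut.mul_apply, MulAut.mul_apply, MulAut.inv_apply_self, ← ev_val x (r z),
      ← hGe _ (Subtype.mem _), hre, hG.map_conj ht (hle z.2), hGe _ z.2, ev_val]
  have key := SylIn.fusion_induction hsyl C
    (fun hle ⟨G, hG, hGe⟩ => ⟨G, hG.mono (pre_mono hle), hGe⟩)
    (fun {R R' x y} _ _ ⟨G, hG, hGe⟩ hxR ⟨G', hG', hG'e⟩ =>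
      ⟨G' ∘ G, hG.comp hG' (himg hG hGe hxR), fun z hz => by
        show G' (G z) = _
        rw [hGe z hz, hG'e _ (ev_mem x hz), ev_mul _ _ hz]⟩)
    (fun {R R' x} hR hR' ⟨G, hG, hGe⟩ hxR hxR' => by
      obtain ⟨J, -, hJ⟩ := hG.exists_image
      obtain ⟨k, hk, -, hk₁, -⟩ := hG.exists_inv hJ
      have hle := le_pre (R := R) hXS
      have hXJ : X ≤ J := fun y hy => by
        obtain ⟨z, hz, rfl⟩ := exists_of_image (ev_image x) hy
        rw [← hGe z hz]; exact mem_of_image hJ (hle hz)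
      have hCJ : centralizerIn S X ≤ J := by
        have hGX : G '' X = (X : Set Ω) := (Set.image_congr hGe).trans (ev_image x)
        have him : G '' centralizerIn S X = (centralizerIn S X : Set Ω) :=
          (hG.mono (hcen R)).image_eq_of_maps centralizerIn_le
            (fun c hc => hG.mem_centralizerIn hle hGX (hcen R hc) hc) le_rfl
        intro c hc
        obtain ⟨d, hd, rfl⟩ := exists_of_image him hc
        exact mem_of_image hJ (hcen R hd)
      refine ⟨k, hk.mono fun t' ht' => ?_, fun y hy => ?_⟩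
      · obtain ⟨ht'N, r', hr', hr'e⟩ := ht'
        have hr : x⁻¹ * r' * x ∈ R ⊔ autInducedBy X X := by
          have h1 := conj_sup_inn (x := x⁻¹) (R' := R) (fun r hr => by simpa using hxR' r hr) r' hr'
          simpa using h1
        obtain ⟨t, ht, hte⟩ := mem_autInducedBy.mp ((sup_le hR hinn : R ⊔ autInducedBy X X ≤ _) hr)
        have htm : t ∈ pre S X R := ⟨⟨ht, mem_normalizer_of_aut hte⟩, _, hr, hte⟩
        have hm : (G t)⁻¹ * t' ∈ centralizerIn S X := by
          refine mem_centralizerIn.mpr ⟨S.mul_mem (S.inv_mem (hG.mem_S htm)) ht'N.1, fun y hy => ?_⟩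
          obtain ⟨z, hz, rfl⟩ := exists_of_image (ev_image x) hy
          have h1 : G t * ev x z * (G t)⁻¹ = t' * ev x z * t'⁻¹ := by
            rw [← ev_conj_of hr'e (ev_mem x hz), ← hGe z hz, ← hG.map_conj htm (hle hz),
              ← ev_conj_of hte hz, hGe _ (ev_mem _ hz), hGe z hz, ev_mul _ _ hz,
              ev_mul _ _ (ev_mem x hz), ev_ev_inv x (ev_mem r' (ev_mem x hz))]
          calc ev x z * ((G t)⁻¹ * t') = (G t)⁻¹ * (G t * ev x z * (G t)⁻¹) * t' := by group
            _ = (G t)⁻¹ * t' * ev x z := by rw [h1]; group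
        have := J.mul_mem (mem_of_image hJ htm) (hCJ hm)
        rwa [mul_inv_cancel_left] at this
      · obtain ⟨z, hz, rfl⟩ := exists_of_image (ev_image x) hy
        rw [ev_inv_ev x hz, ← hGe z hz, hk₁ z (hle hz)])
    (fun R _ x hx => by
      obtain ⟨t, ht, hte⟩ := mem_autInducedBy.mp hx
      exact ⟨fun z => t * z * t⁻¹, mapFn_conj (pre_le.trans normalizerIn_le) ht,
        fun z hz => (ev_conj_of hte hz).symm⟩)
    hext
  refine ⟨hXS, fun A φ hφ hφr => ?_⟩
  obtain ⟨f, hf, hfe⟩ := mapFn_of_hom hφ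
  have hfA : f '' A = (X : Set Ω) := by rw [MapFn.image_eq_range hfe, hφr]
  have hAS := hf.le_S
  obtain ⟨g, hg, hgA⟩ := reach_of_generated hS hgen hn hbig (hf.isConj hfA)
  have hAN : A ≤ normalizerIn S A := le_normalizerIn hAS
  obtain ⟨gi, hgi, hgir, hgi₁, -⟩ := (hg.mono hAN).exists_inv hgA
  have hu : MapFn D X (f ∘ gi) := hgi.comp hf fun y hy => mem_of_image hgir hy
  obtain ⟨x, hx, hxe⟩ := hu.exists_aut (image_comp hgir hfA)
  set N := extender S A φ with hNdef
  have hNA : N ≤ normalizerIn S A := extender_le_normalizerIn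
  obtain ⟨N₁, hN₁S, hN₁⟩ := (hg.mono hNA).exists_image
  have hN₁N : N₁ ≤ normalizerIn S X := fun y hy => by
    obtain ⟨z, hz, rfl⟩ := exists_of_image hN₁ hy
    exact maps_normalizer hAN hg hgA le_rfl z (hNA hz)
  obtain ⟨G, hG, hGe⟩ := key (autInducedBy N₁ X) (autInducedBy_mono hN₁S _) x hx fun r hr => by
    obtain ⟨t, ht, hte⟩ := mem_autInducedBy.mp hr
    obtain ⟨u, huN, rfl⟩ := exists_of_image hN₁ ht
    obtain ⟨-, huA, s, hs, hse⟩ := mem_extender.mp huN
    refine mem_autInducedBy.mpr ⟨s, hs, fun y => ?_⟩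
    obtain ⟨z, rfl⟩ := x.surjective y
    obtain ⟨w, hw, hwz⟩ := exists_of_image hgA z.2
    have hm := conj_mem_of_normalizer huA hw
    rw [MulAut.mul_apply, MulAut.mul_apply, MulAut.inv_apply_self, hxe, hxe, hte, ← hwz,
      ← hg.map_conj (hNA huN) (hAN hw)]
    show f (gi (g (u * w * u⁻¹))) = s * f (gi (g w)) * s⁻¹
    rw [hgi₁ _ hm, hgi₁ w hw, ← hfe ⟨_, hm⟩, ← hfe ⟨w, hw⟩, hse ⟨w, hw⟩ hm]
  obtain ⟨ψ, hψ, hψe⟩ := (hg.mono hNA).comp hG fun z hz => by
    obtain ⟨c, hc, hce⟩ := exists_autInducedBy (K := N₁) (mem_of_image hN₁ hz) (hN₁N (mem_of_image hN₁ hz)).2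
    exact ⟨hN₁N (mem_of_image hN₁ hz), c, Subgroup.mem_sup_left hc, hce⟩
  refine ⟨ψ, hψ, fun z hz hzN => ?_⟩
  rw [hψe]
  show G (g z) = _
  rw [hGe _ (mem_of_image hgA hz), ev_coe x (mem_of_image hgA hz), hxe]
  show f (gi (g z)) = _
  rw [hgi₁ z hz]
  exact (hfe ⟨z, hz⟩).symm

end class_

end CfsgLib.RE
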