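import Cfsg.Agent.Lib.Fusion.RE.Basic
import Cfsg.Agent.Lib.Fusion.EBalance.Frattini

/-!
# The product of a normal subsystem with the whole `p`-group, II: lifting automorphisms

Fix `U ≤ T`, centric in `T` and fully normalized in `F`. For `U ≤ K ≤ N_S(U)` the group `hatGrp K` consists
of the automorphisms of `(U C_S(U)) ⊔ K` stabilizing `K`, trivial modulo `T` and controlled on `U C_S(U)`.
Its elements of order prime to `p` extend to larger subgroups, and every generating automorphism of `K` with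
`K ⊓ T = U` is a restriction of one of them.
-/

set_option autoImplicit false
set_option linter.unusedSectionVars false

namespace CfsgLib.RE

open Cfsg Cfsg.FusionSystem CfsgLib.Fusion CfsgLib.FusionNormal CfsgLib.Fusion.PPrimeRes CfsgLib.Meet

variable {Ω : Type*} [Group Ω] {S T : Subgroup Ω} {F : FusionSystem S} {E : FusionSystem T} {p : ℕ}
variable {P Q K H U : Subgroup Ω} [Finite S] [Fact p.Prime]

section general

/-- An element of `S` normalizes `T`. -/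
theorem conj_mem_T (hT : F.StronglyClosed T) {s x : Ω} (hs : s ∈ S) (hx : x ∈ T) : s * x * s⁻¹ ∈ T :=
  conj_mem_of_normalizer (StronglyClosed.le_normalizer hT hs) hx

/-- The elements of `H` moved within `T` by a map form a subgroup. -/
def dispSub (hT : F.StronglyClosed T) {f : Ω → Ω} (hf : MapFn F H f) : Subgroup Ω where
  carrier := {h | h ∈ H ∧ h⁻¹ * f h ∈ T}
  one_mem' := ⟨H.one_mem, by simp [hf.map_one, T.one_mem]⟩
  mul_mem' := by
    rintro a b ⟨ha, ha'⟩ ⟨hb, hb'⟩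
    refine ⟨H.mul_mem ha hb, ?_⟩
    have h1 := T.mul_mem (conj_mem_T hT (S.inv_mem (hf.le_S hb)) ha') hb'
    have e : (a * b)⁻¹ * f (a * b) = b⁻¹ * (a⁻¹ * f a) * b⁻¹⁻¹ * (b⁻¹ * f b) := by
      rw [hf.map_mul ha hb]; group
    rwa [e]
  inv_mem' := by
    rintro a ⟨ha, ha'⟩
    refine ⟨H.inv_mem ha, ?_⟩
    have h1 := conj_mem_T hT (hf.le_S ha) (T.inv_mem ha')
    have e : a⁻¹⁻¹ * f a⁻¹ = a * (a⁻¹ * f a)⁻¹ * a⁻¹ := by rw [hf.map_inv ha]; group
    rwa [e]

end general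

variable (hS : IsPGroup p S) (hE : E.IsNormalIn F p) (hUc : TCentric F T U)
  (hUn : F.IsFullyNormalized U)

/-- The automorphisms of `(U C_S(U)) ⊔ K` stabilizing `K`, trivial modulo `T` and controlled on `U C_S(U)`. -/
def Hat (K : Subgroup Ω) (b : MulAut ↥(W S U ⊔ K)) : Prop :=
  b ∈ F.autGroup (W S U ⊔ K) ∧ (∀ x ∈ K, ev b x ∈ K) ∧ (∀ h ∈ W S U ⊔ K, h⁻¹ * ev b h ∈ T) ∧
    ∃ e ∈ jW (single hE) hUc.le, ∀ x ∈ W S U, ev b x = ev e x

/-- The group of these automorphisms. -/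
def hatGrp (hK : K ≤ S) : Subgroup (MulAut ↥(W S U ⊔ K)) where
  carrier := {b | Hat hE hUc K b}
  one_mem' := ⟨Subgroup.one_mem _, fun x hx => by rw [ev_one (Subgroup.mem_sup_right hx)]; exact hx,
    fun h hh => by simp [ev_one hh, T.one_mem],
    1, Subgroup.one_mem _, fun x hx => by rw [ev_one hx, ev_one (Subgroup.mem_sup_left hx)]⟩
  mul_mem' := by
    rintro a b ⟨ha, haK, haT, ea, hea, haW⟩ ⟨hb, hbK, hbT, eb, heb, hbW⟩
    refine ⟨Subgroup.mul_mem _ ha hb, fun x hx => ?_, fun h hh => ?_, ea * eb, Subgroup.mul_mem _ hea heb,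
      fun x hx => ?_⟩
    · rw [ev_mul _ _ (Subgroup.mem_sup_right hx)]; exact haK _ (hbK x hx)
    · have h1 := T.mul_mem (hbT h hh) (haT _ (ev_mem b hh))
      rw [ev_mul _ _ hh]
      simpa [mul_assoc] using h1
    · rw [ev_mul _ _ (Subgroup.mem_sup_left hx), ev_mul _ _ hx, hbW x hx, haW _ (ev_mem eb hx)]
  inv_mem' := by
    rintro a ⟨ha, haK, haT, ea, hea, haW⟩
    have hH : W S U ⊔ K ≤ S := sup_le (W_le (hUc.le.trans hE.1.2.2.2.1.1)) hK
    have hKim : ev a '' K = (K : Set Ω) :=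
      ((mapFn_ev hH ha).mono le_sup_right).image_eq_of_maps hK haK le_rfl
    refine ⟨Subgroup.inv_mem _ ha, fun y hy => ?_, fun h hh => ?_, ea⁻¹, Subgroup.inv_mem _ hea, fun x hx => ?_⟩
    · obtain ⟨x, hx, rfl⟩ := exists_of_image hKim hy
      rw [ev_inv_ev a (Subgroup.mem_sup_right hx)]; exact hx
    · have h1 := T.inv_mem (haT _ (ev_mem a⁻¹ hh))
      rw [ev_ev_inv a hh] at h1
      simpa using h1
    · conv_lhs => rw [← ev_ev_inv ea hx, ← haW _ (ev_mem _ hx)]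
      exact ev_inv_ev a (Subgroup.mem_sup_left (ev_mem _ hx))

theorem mem_hatGrp {hK : K ≤ S} {b : MulAut ↥(W S U ⊔ K)} : b ∈ hatGrp hE hUc hK ↔ Hat hE hUc K b :=
  Iff.rfl

include hE hUc in
theorem U_le_S : U ≤ S := hUc.le.trans hE.1.2.2.2.1.1

include hS hE hUc hUn in
theorem isCentric_WU : F.IsCentric (W S U) :=
  isCentric_W (isFullyCentralized_of_fullyNormalized hS hE.1.2.1 hUn)

include hS hE hUc hUn in
/-- An automorphism of order prime to `p` in `E` is a restriction from `jW`. -/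
theorem exists_jW {n : MulAut U} (hn : (orderOf n).Coprime p) (hnE : MapFn E U (ev n)) :
    ∃ e ∈ jW (single hE) hUc.le, (orderOf e).Coprime p ∧ ∀ x ∈ U, ev e x = ev n x := by
  have hF := hE.1.2.1
  have hj : JMap (single hE) U (ev n) := (jSys_main (single hE) hS hF).2 U hUc _
    (normal_le_single hS hF hE hnE) (ev_image n)
  obtain ⟨a, ha, hae⟩ := (jMap_iff (single hE) hS hF hUc.le hUn).mp hj
  obtain ⟨e, he, hep, hee⟩ := exists_coprime_lift (W_le (U_le_S hE hUc)) le_W ha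
    (fun x hx => (hae x hx).symm) hn
  exact ⟨e, he, hep, hee⟩

/-- Elements of `jW` act in `E` on `U`. -/
theorem jW_onT {e : MulAut (W S U)} (he : e ∈ jW (single hE) hUc.le) : MapFn E U (ev e) :=
  (((extFn_ev (single hE) (jW_le_extGrp (single hE) hUc.le he)).2.2.2 ()).mono le_W : _)

theorem jW_mem_U {e : MulAut (W S U)} (he : e ∈ jW (single hE) hUc.le) {x : Ω} (hx : x ∈ U) : ev e x ∈ U :=
  (extFn_ev (single hE) (jW_le_extGrp (single hE) hUc.le he)).2.1 x hx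

include hS hE hUc hUn in
/-- Rigidity: elements of `jW` agreeing on `U` are equal. -/
theorem jW_eq {a b : MulAut (W S U)} (ha : a ∈ jW (single hE) hUc.le) (hb : b ∈ jW (single hE) hUc.le)
    (h : ∀ x ∈ U, ev a x = ev b x) : a = b := by
  refine (inv_mul_eq_one.mp (eq_one_of_fix (single hE) hS hE.1.2.1 hUc.le hUc hUn
    (Subgroup.mul_mem _ (Subgroup.inv_mem _ ha) hb) fun x hx => ?_))
  rw [ev_mul _ _ (le_W hx), ← h x hx, ev_inv_ev a (le_W hx)]

include hS hE hUc hUn in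
/-- Two maps of `(U C_S(U)) ⊔ K` controlled on `U C_S(U)` with equal restriction to `K` are equal. -/
theorem hat_eq (hKU : U ≤ K) {a b : MulAut ↥(W S U ⊔ K)} (hKS : K ≤ S) (ha : Hat hE hUc K a) (hb : Hat hE hUc K b)
    (h : ∀ x ∈ K, ev a x = ev b x) : a = b := by
  obtain ⟨haF, -, -, ea, hea, haW⟩ := ha
  obtain ⟨hbF, -, -, eb, heb, hbW⟩ := hb
  have hH : W S U ⊔ K ≤ S := sup_le (W_le (U_le_S hE hUc)) hKS
  have he : ea = eb := jW_eq hS hE hUc hUn hea heb fun x hx => by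
    rw [← haW x (le_W hx), h x (hKU hx), hbW x (le_W hx)]
  exact aut_ext fun x hx => MapFn.eq_on_sup (mapFn_ev hH haF) (mapFn_ev hH hbF)
    (fun y hy => by rw [haW y hy, hbW y hy, he]) h x hx

include hS hE hUc hUn in
/-- Controlled automorphisms of order prime to `p` restrict to generating automorphisms. -/
theorem disp_of_hat (hUK : U ≤ K) (hK : K ≤ normalizerIn S U) {b : MulAut ↥(W S U ⊔ K)}
    (hb : Hat hE hUc K b) (hbp : (orderOf b).Coprime p) : Disp F E K (ev b) := by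
  obtain ⟨hbF, hbK, hbT, e, he, hbW⟩ := hb
  have hTsc := hE.1.2.2.2.1
  have hKS : K ≤ S := hK.trans normalizerIn_le
  have hH : W S U ⊔ K ≤ S := sup_le (W_le (U_le_S hE hUc)) hKS
  have hbm := mapFn_ev hH hbF
  refine ⟨hbm.mono le_sup_right, (hbm.mono le_sup_right).image_eq_of_maps hKS hbK le_rfl,
    fun x hx => hbT x (Subgroup.mem_sup_right hx), ?_⟩
  obtain ⟨β, hβ, hβe, hβd⟩ := exists_restrict_aut hH ((inf_le_left).trans le_sup_right : K ⊓ T ≤ W S U ⊔ K) hbF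
    fun x hx => ⟨hbK x hx.1, mapFn_mem hTsc hbm (Subgroup.mem_sup_right hx.1) hx.2⟩
  have hUc' : E.IsCentric U := ⟨hUc.le, fun V hV => hUc.2 V (by
    obtain ⟨χ, hχ, hχV⟩ := isConj_iff.mp hV
    exact (mapFn_of_sub hE.1.2.2.1 hχ).isConj hχV)⟩
  have hUKT : U ≤ K ⊓ T := le_inf hUK hUc.le
  have hres : ∀ x ∈ U, ev β x = ev e x := fun x hx => by rw [← hβe x (hUKT hx), hbW x (le_W hx)]
  have := mem_autGroup_of_centric hS hE.1.1 hE.1.2.2 hUKT (fun x hx => ⟨hx.2, (hK hx.1).2⟩) hUc' hβ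
    (hbp.coprime_dvd_left hβd) (fun x hx => by rw [hres x hx]; exact jW_mem_U hE hUc he hx)
    ((jW_onT hE hUc he).congr fun x hx => (hres x hx).symm)
  exact (mapFn_ev inf_le_right this).congr fun x hx => (hβe x hx).symm

include hS hE hUc hUn in
/-- Extension to a larger subgroup of `N_S(U)`. -/
theorem exists_lift (hUQ : U ≤ Q) (hQK : Q ≤ K) (hKU : K ≤ normalizerIn S U) (hKQ : K ≤ normalizerIn S Q)
    {b : MulAut ↥(W S U ⊔ Q)} (hb : Hat hE hUc Q b) (hbp : (orderOf b).Coprime p)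
    (hcomp : ∀ x ∈ K, ∃ y ∈ K, y * x⁻¹ ∈ T ∧ ∀ u ∈ Q, ev b (x * u * x⁻¹) = y * ev b u * y⁻¹) :
    ∃ b' : MulAut ↥(W S U ⊔ K), Hat hE hUc K b' ∧ (orderOf b').Coprime p ∧
      ∀ h ∈ W S U ⊔ Q, ev b' h = ev b h := by
  revert hb hbp hcomp b
  set H := W S U ⊔ Q with hHdef
  set H' := W S U ⊔ K with hH'def
  intro b hb hbp hcomp
  obtain ⟨hbF, hbQ, hbT, e, he, hbW⟩ := hb
  have hF := hE.1.2.1
  have hTsc := hE.1.2.2.2.1
  have hUS := U_le_S hE hUc
  have hWS := W_le (S := S) hUS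
  have hKS : K ≤ S := hKU.trans normalizerIn_le
  have hQS : Q ≤ S := hQK.trans hKS
  have hH : H ≤ S := sup_le hWS hQS
  have hH' : H' ≤ S := sup_le hWS hKS
  have hHH' : H ≤ H' := sup_le_sup_left hQK _
  have hbm := mapFn_ev hH hbF
  have hest := jW_le_stabW (single hE) hUc.le he
  -- on `U C_S(U)`
  have hWeq : ∀ x ∈ K, ∀ y ∈ K, y * x⁻¹ ∈ T → (∀ u ∈ U, ev e (x * u * x⁻¹) = y * ev e u * y⁻¹) →
      ∀ w ∈ W S U, ev e (x * w * x⁻¹) = y * ev e w * y⁻¹ := by
    intro x hx y hy hyx hU w hw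
    set t := y * x⁻¹ with ht
    have hxN : x ∈ normalizerIn S U := hKU hx
    have htN : t ∈ normalizerIn T U :=
      ⟨hyx, Subgroup.mul_mem _ (hKU hy).2 (Subgroup.inv_mem _ hxN.2)⟩
    obtain ⟨cx, hcx, hcxe⟩ := exists_autInducedBy (K := normalizerIn S U) hxN (normalizer_W hUS hxN)
    obtain ⟨ct, hct, hcte⟩ := exists_autInducedBy (K := normalizerIn T U) htN
      (normalizer_W hUS ⟨hTsc.1 htN.1, htN.2⟩)
    have hcxs := autS_le_stabW (F := F) hUS hcx
    have hcomm : cx * e⁻¹ * cx⁻¹ ∈ jW (single hE) hUc.le :=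
      conj_jW (single hE) hS hF hUc.le hUn hcxs (Subgroup.inv_mem _ he)
    have heq : e * (cx * e⁻¹ * cx⁻¹) = ct := by
      refine jW_eq hS hE hUc hUn (Subgroup.mul_mem _ he hcomm) (auT_le_jW (single hE) hUc.le hct) fun u hu => ?_
      have hu' := le_W (S := S) hu
      set v := x⁻¹ * u * x with hv
      have hvU : v ∈ U := (Subgroup.mem_normalizer_iff''.mp hxN.2 u).mp hu
      have hev : ev cx⁻¹ u = v := by
        have h1 := ev_conj_of hcxe (le_W (S := S) hvU)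
        rw [show x * v * x⁻¹ = u by rw [hv]; group] at h1
        rw [← h1, ev_inv_ev cx (le_W hvU)]
      rw [ev_mul _ _ hu', ev_mul _ _ hu', ev_mul _ _ (ev_mem _ hu'), hev,
        ev_conj_of hcxe (ev_mem _ (le_W hvU)), ev_conj_of hcte hu']
      have hz : ev e⁻¹ v ∈ U := jW_mem_U hE hUc (Subgroup.inv_mem _ he) hvU
      rw [hU _ hz, ev_ev_inv e (le_W hvU), ht, hv]
      group
    have h2 : e * cx = ct * cx * e := by rw [← heq]; group
    have h3 := congrArg (fun a => ev a w) h2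
    rw [ev_mul _ _ hw, ev_conj_of hcxe hw, ev_mul _ _ hw, ev_mul _ _ (ev_mem e hw),
      ev_conj_of hcxe (ev_mem e hw)] at h3
    rw [h3, ev_conj_of hcte (by
      rw [← ev_conj_of hcxe (ev_mem e hw)]; exact ev_mem _ (ev_mem e hw)), ht]
    group
  -- on `H`
  have hind : ∀ x ∈ K, ∃ y ∈ K, y * x⁻¹ ∈ T ∧ ∀ h ∈ H, ev b (x * h * x⁻¹) = y * ev b h * y⁻¹ := by
    intro x hx
    obtain ⟨y, hy, hyx, hye⟩ := hcomp x hx
    refine ⟨y, hy, hyx, ?_⟩
    have hW := hWeq x hx y hy hyx fun u hu => by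
      rw [← hbW _ (le_W (conj_mem_of_normalizer (hKU hx).2 hu)), ← hbW _ (le_W hu)]
      exact hye u (hUQ hu)
    have hxW : ∀ w ∈ W S U, x * w * x⁻¹ ∈ W S U := fun w hw =>
      conj_mem_of_normalizer (normalizer_W hUS (hKU hx)) hw
    have hxH : ∀ h ∈ H, x * h * x⁻¹ ∈ H :=
      (mapFn_conj (F := F) hH (hKS hx)).maps_sup (fun w hw => Subgroup.mem_sup_left (hxW w hw))
        fun q hq => Subgroup.mem_sup_right (conj_mem_of_normalizer (hKQ hx).2 hq)
    have hf₁ : MapFn F H (fun h => ev b (x * h * x⁻¹)) := (mapFn_conj hH (hKS hx)).comp hbm hxH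
    have hf₂ : MapFn F H (fun h => y * ev b h * y⁻¹) := hbm.conj_comp (hKS hy)
    refine fun h hh => MapFn.eq_on_sup hf₁ hf₂ (fun w hw => ?_) (fun q hq => hye q hq) h hh
    show ev b (x * w * x⁻¹) = y * ev b w * y⁻¹
    rw [hbW _ (hxW w hw), hbW w hw]
    exact hW w hw
  have hKH : K ≤ normalizerIn S H := fun x hx => ⟨hKS hx, by
    have := finite_of_le hH
    exact mem_normalizer_of_forall fun h hh =>
      (mapFn_conj (F := F) hH (hKS hx)).maps_sup (fun w hw => Subgroup.mem_sup_left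
        (conj_mem_of_normalizer (normalizer_W hUS (hKU hx)) hw))
        (fun q hq => Subgroup.mem_sup_right (conj_mem_of_normalizer (hKQ hx).2 hq)) h hh⟩
  have hHc : F.IsCentric H := IsCentric.of_le (isCentric_WU hS hE hUc hUn) le_sup_left hH
  obtain ⟨G₀, hG₀, hG₀e⟩ := exists_extension_sup
    (receptive_of_fullyCentralized hS hF (isFullyCentralized_of_centric hHc)) hbm (ev_image b) hKH
    fun x hx => by
      obtain ⟨y, hy, -, hye⟩ := hind x hx
      exact ⟨y, hKS hy, hye⟩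
  have hG : MapFn F H' G₀ := hG₀.mono (sup_le (le_sup_left.trans le_sup_left) le_sup_right)
  -- images of the elements of `K`
  have hGK : ∀ x ∈ K, ∃ y ∈ K, y * x⁻¹ ∈ T ∧ y⁻¹ * G₀ x ∈ H := by
    intro x hx
    obtain ⟨y, hy, hyx, hye⟩ := hind x hx
    have hxH' : x ∈ H ⊔ K := Subgroup.mem_sup_right hx
    refine ⟨y, hy, hyx, IsCentric.centralizerIn_le' hHc (mem_centralizerIn.mpr
      ⟨S.mul_mem (S.inv_mem (hKS hy)) (hG₀.mem_S hxH'), fun z hz => ?_⟩)⟩
    obtain ⟨h, hh, rfl⟩ := exists_of_image (ev_image b) hz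
    have hxh : x * h * x⁻¹ ∈ H := conj_mem_of_normalizer (hKH hx).2 hh
    have h1 := hG₀.map_conj hxH' (Subgroup.mem_sup_left hh)
    rw [hG₀e _ hxh, hye h hh, hG₀e h hh] at h1
    calc ev b h * (y⁻¹ * G₀ x) = y⁻¹ * (y * ev b h * y⁻¹) * G₀ x := by group
      _ = y⁻¹ * G₀ x * ev b h := by rw [h1]; group
  have hGm : ∀ h ∈ H', G₀ h ∈ H' := hG.maps_sup (fun w hw => by
      rw [hG₀e w (Subgroup.mem_sup_left hw)]; exact hHH' (ev_mem b (Subgroup.mem_sup_left hw)))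
    fun x hx => by
      obtain ⟨y, hy, -, hz⟩ := hGK x hx
      have := H'.mul_mem (Subgroup.mem_sup_right hy : y ∈ H') (hHH' hz)
      rwa [mul_inv_cancel_left] at this
  obtain ⟨b₀, hb₀, hb₀e⟩ := hG.exists_aut (hG.image_eq_of_maps hH' hGm le_rfl)
  have hb₀G : ∀ h ∈ H', ev b₀ h = G₀ h := fun h hh => by rw [ev_coe b₀ hh, hb₀e]
  have := finite_mulAut hH'
  obtain ⟨m, hm, hmb⟩ := exists_coprime_power (p := p) b₀
  have hb₀H : ∀ h ∈ H, ev b₀ h = ev b h := fun h hh => by rw [hb₀G h (hHH' hh), hG₀e h hh]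
  set a := b₀ ^ m with ha
  have haH : ∀ h ∈ H, ev a h = ev b h := fun h hh => by
    rw [ha, ev_pow_restrict hHH' hb₀H m h hh, hmb b (fun j hj => pow_eq_one_of_restrict hHH' hb₀H hj) hbp]
  have haF : a ∈ F.autGroup H' := Subgroup.pow_mem _ hb₀ m
  have ham := mapFn_ev hH' haF
  -- modulo `T`
  set Lt := (T ⊔ H) ⊓ H' with hLt
  have hHLt : H ≤ Lt := le_inf le_sup_right hHH'
  have hb₀disp : ∀ h ∈ H', h⁻¹ * ev b₀ h ∈ Lt := by
    have hsub : ∀ h ∈ H', h⁻¹ * ev b₀ h ∈ T ⊔ H := by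
      have hNn : ∀ {s z : Ω}, s ∈ H' → z ∈ T ⊔ H → s * z * s⁻¹ ∈ T ⊔ H := by
        intro s z hs hz
        refine (mapFn_conj (F := F) (sup_le hTsc.1 hH) (hH' hs)).maps_sup
          (fun t ht => Subgroup.mem_sup_left (conj_mem_T hTsc (hH' hs) ht))
          (fun q hq => Subgroup.mem_sup_right ?_) z hz
        refine conj_mem_of_normalizer ((sup_le (fun w hw => ?_) (fun x hx => (hKH hx).2) :
          H' ≤ Subgroup.normalizer (H : Set Ω)) hs) hq
        exact Subgroup.le_normalizer (Subgroup.mem_sup_left hw)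
      let J : Subgroup Ω :=
        { carrier := {h | h ∈ H' ∧ h⁻¹ * ev b₀ h ∈ T ⊔ H}
          one_mem' := ⟨H'.one_mem, by simp [(mapFn_ev hH' hb₀).map_one]⟩
          mul_mem' := by
            rintro x y ⟨hx, hx'⟩ ⟨hy, hy'⟩
            refine ⟨H'.mul_mem hx hy, ?_⟩
            have h1 := Subgroup.mul_mem _ (hNn (H'.inv_mem hy) hx') hy'
            have e : (x * y)⁻¹ * ev b₀ (x * y) = y⁻¹ * (x⁻¹ * ev b₀ x) * y⁻¹⁻¹ * (y⁻¹ * ev b₀ y) := by
              rw [(mapFn_ev hH' hb₀).map_mul hx hy]; group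
            rwa [e]
          inv_mem' := by
            rintro x ⟨hx, hx'⟩
            refine ⟨H'.inv_mem hx, ?_⟩
            have h1 := hNn hx (Subgroup.inv_mem _ hx')
            have e : x⁻¹⁻¹ * ev b₀ x⁻¹ = x * (x⁻¹ * ev b₀ x)⁻¹ * x⁻¹ := by
              rw [(mapFn_ev hH' hb₀).map_inv hx]; group
            rwa [e] }
      have hle : H' ≤ J := sup_le (fun w hw => ⟨Subgroup.mem_sup_left hw, Subgroup.mem_sup_right (by
          rw [hb₀H w (Subgroup.mem_sup_left hw)]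
          exact H.mul_mem (H.inv_mem (Subgroup.mem_sup_left hw)) (ev_mem b (Subgroup.mem_sup_left hw)))⟩)
        fun x hx => ⟨Subgroup.mem_sup_right hx, by
          obtain ⟨y, hy, hyx, hz⟩ := hGK x hx
          have h1 := conj_mem_T hTsc (S.inv_mem (hKS hx)) hyx
          have h2 := Subgroup.mul_mem (T ⊔ H) (Subgroup.mem_sup_left h1) (Subgroup.mem_sup_right hz)
          rw [hb₀G x (Subgroup.mem_sup_right hx)]
          have e : x⁻¹ * G₀ x = x⁻¹ * (y * x⁻¹) * x⁻¹⁻¹ * (y⁻¹ * G₀ x) := by group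
          rwa [e]⟩
      exact fun h hh => (hle hh).2
    exact fun h hh => ⟨hsub h hh, H'.mul_mem (H'.inv_mem hh) (ev_mem b₀ hh)⟩
  have hdispA : ∀ h ∈ H', h⁻¹ * ev a h ∈ Lt := fun h hh => by
    have key : ∀ j : ℕ, h⁻¹ * ev (b₀ ^ j) h ∈ Lt := by
      intro j
      induction j with
      | zero => rw [pow_zero, ev_one hh, inv_mul_cancel]; exact Lt.one_mem
      | succ j ih =>
        have h1 := Lt.mul_mem ih (hb₀disp _ (ev_mem (b₀ ^ j) hh))
        rw [pow_succ', ev_mul _ _ hh]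
        simpa [mul_assoc] using h1
    exact key m
  have hfix : Lt ≤ dispSub hTsc ham := by
    rintro z ⟨hz, hzH'⟩
    have hn : H ≤ Subgroup.normalizer (T : Set Ω) := fun s hs => StronglyClosed.le_normalizer hTsc (hH hs)
    have hz : z ∈ ((T ⊔ H : Subgroup Ω) : Set Ω) := hz
    rw [Subgroup.coe_mul_of_right_le_normalizer_left T H hn] at hz
    obtain ⟨t, ht, w, hw, rfl⟩ := hz
    have htH' : t ∈ H' := by simpa using H'.mul_mem hzH' (H'.inv_mem (hHH' hw))
    refine Subgroup.mul_mem _ ⟨htH', T.mul_mem (T.inv_mem ht) (mapFn_mem hTsc ham htH' ht)⟩ ⟨hHH' hw, ?_⟩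
    rw [haH w hw]
    exact hbT w hw
  have haT : ∀ h ∈ H', h⁻¹ * ev a h ∈ T := by
    intro h hh
    have h2 := CfsgLib.FusionLayer.mem_of_coprime_stabilize hS hH' (fun s hs u hu => conj_mem_T hTsc hs hu) hm
      (pow_orderOf_eq_one a)
      (fun w hw => by rw [← ev_val]; exact mapFn_mem hTsc ham w.2 hw) ⟨h, hh⟩ (by
        rw [Subgroup.mem_subgroupOf]
        have h3 := (hfix (hdispA h hh)).2
        have e : (⟨h⁻¹ * ev a h, H'.mul_mem (H'.inv_mem hh) (ev_mem a hh)⟩ : H') = ⟨h, hh⟩⁻¹ * a ⟨h, hh⟩ :=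
          Subtype.ext (by simp [ev_coe a hh])
        rw [ev_coe a (H'.mul_mem (H'.inv_mem hh) (ev_mem a hh)), e, ev_coe a hh] at h3
        exact h3)
    simpa [ev_coe a hh] using h2
  -- `K` is kept
  have haK : ∀ x ∈ K, ev a x ∈ K := by
    intro x hx
    have hxH' : x ∈ H' := Subgroup.mem_sup_right hx
    obtain ⟨y, hy, hyx, hye⟩ := hind x hx
    have hm : y⁻¹ * ev a x ∈ centralizerIn T U := by
      refine mem_centralizerIn.mpr ⟨?_, fun u hu => ?_⟩
      · have h1 := T.mul_mem (conj_mem_T hTsc (S.inv_mem (hKS hx)) (T.inv_mem hyx)) (haT x hxH')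
        have e : y⁻¹ * ev a x = x⁻¹ * (y * x⁻¹)⁻¹ * x⁻¹⁻¹ * (x⁻¹ * ev a x) := by group
        rwa [e]
      · obtain ⟨v, hv, rfl⟩ := exists_of_image (stabW_image hUS hest) hu
        have hxv : x * v * x⁻¹ ∈ U := conj_mem_of_normalizer (hKU hx).2 hv
        have hUH : U ≤ H := le_W.trans le_sup_left
        have h1 := ham.map_conj hxH' (hHH' (hUH hv))
        rw [haH _ (hUH hxv), hye v (hUH hv), haH v (hUH hv)] at h1
        rw [← hbW v (le_W hv)]
        calc ev b v * (y⁻¹ * ev a x) = y⁻¹ * (y * ev b v * y⁻¹) * ev a x := by group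
          _ = y⁻¹ * ev a x * ev b v := by rw [h1]; group
    have := K.mul_mem hy (hQK (hUQ (TCentric.centralizer_le hTsc.1 hUc hm)))
    rwa [mul_inv_cancel_left] at this
  exact ⟨a, ⟨haF, haK, haT, e, he, fun w hw => by rw [haH w (Subgroup.mem_sup_left hw), hbW w hw]⟩, hm, haH⟩

include hS hE hUc hUn in
/-- An automorphism in `E` of order prime to `p` and a compatible family give a controlled automorphism. -/
theorem exists_hat_base {n : MulAut U} (hn : (orderOf n).Coprime p) (hnE : MapFn E U (ev n)) (hUK : U ≤ K)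
    (hKU : K ≤ normalizerIn S U)
    (hcomp : ∀ x ∈ K, ∃ y ∈ K, y * x⁻¹ ∈ T ∧ ∀ u ∈ U, ev n (x * u * x⁻¹) = y * ev n u * y⁻¹) :
    ∃ b : MulAut ↥(W S U ⊔ K), Hat hE hUc K b ∧ (orderOf b).Coprime p ∧ ∀ u ∈ U, ev b u = ev n u := by
  have hTsc := hE.1.2.2.2.1
  have hUS := U_le_S hE hUc
  have hWS := W_le (S := S) hUS
  obtain ⟨e, he, hep, hee⟩ := exists_jW hS hE hUc hUn hn hnE
  have hle : W S U ⊔ U ≤ W S U := sup_le le_rfl le_W
  have hem := mapFn_ev hWS (jW_le_stabW (single hE) hUc.le he).1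
  obtain ⟨b, hb, hbe⟩ := (hem.mono hle).exists_aut ((hem.mono hle).image_eq_of_maps (hle.trans hWS)
    (fun x hx => Subgroup.mem_sup_left (ev_mem e (hle hx))) le_rfl)
  have hbev : ∀ x ∈ W S U ⊔ U, ev b x = ev e x := fun x hx => by rw [ev_coe b hx, hbe]
  have hg := extFn_ev (single hE) (jW_le_extGrp (single hE) hUc.le he)
  have hdisp : W S U ≤ dispSub hTsc hem := sup_le (fun x hx => ⟨le_W hx,
    T.mul_mem (T.inv_mem (hUc.le hx)) (hUc.le (hg.2.1 x hx))⟩) fun c hc => ⟨cen_le_W hc, hg.2.2.1 c hc⟩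
  have hbhat : Hat hE hUc U b := ⟨hb, fun x hx => by
      rw [hbev x (Subgroup.mem_sup_right hx)]; exact jW_mem_U hE hUc he hx,
    fun h hh => by rw [hbev h hh]; exact (hdisp (hle hh)).2, e, he,
    fun x hx => hbev x (Subgroup.mem_sup_left hx)⟩
  have hbp : (orderOf b).Coprime p := hep.coprime_dvd_left (orderOf_dvd_of_pow_eq_one
    (pow_eq_one_of_restrict (a := e) hle (fun x hx => (hbev x hx).symm) (pow_orderOf_eq_one e)))
  obtain ⟨b', hb', hb'p, hb'e⟩ := exists_lift hS hE hUc hUn le_rfl hUK hKU hKU hbhat hbp fun x hx => by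
    obtain ⟨y, hy, hyx, hye⟩ := hcomp x hx
    refine ⟨y, hy, hyx, fun u hu => ?_⟩
    have hu' := conj_mem_of_normalizer (hKU hx).2 hu
    rw [hbev _ (Subgroup.mem_sup_right hu'), hbev u (Subgroup.mem_sup_right hu), hee _ hu', hee u hu]
    exact hye u hu
  exact ⟨b', hb', hb'p, fun u hu => by
    rw [hb'e u (Subgroup.mem_sup_right hu), hbev u (Subgroup.mem_sup_right hu), hee u hu]⟩

end CfsgLib.RE
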