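import Cfsg.Agent.Lib.Fusion.RE.Basic

/-!
# The product of a normal subsystem with the whole `p`-group, III: transport of the local data

Automorphism groups are carried along maps of the whole system. `cen U Q` consists of the automorphisms of
`U` commuting modulo inner automorphisms with the conjugations by `Q`; `Cond` says that the conjugations by
`T` among them form a largest `p`-group of such maps in `E`, and `SylT` that the conjugations by `T` give a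
Sylow subgroup of `O^p` of the group of generating automorphisms.
-/

set_option autoImplicit false
set_option linter.unusedSectionVars false

namespace CfsgLib.RE

open Cfsg Cfsg.FusionSystem CfsgLib.Fusion CfsgLib.FusionNormal CfsgLib.Fusion.PPrimeRes CfsgLib.Meet

variable {Ω : Type*} [Group Ω] {S T : Subgroup Ω} {F : FusionSystem S} {E : FusionSystem T} {p : ℕ}
variable {P Q X K M U V H : Subgroup Ω} {θ : Ω → Ω}

/-! ### Groups -/

/-- A Sylow subgroup of a subgroup is carried to one by a homomorphism injective on the latter. -/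
theorem sylIn_image {G G' : Type*} [Group G] [Group G'] {A K : Subgroup G} {B L : Subgroup G'}
    (h : SylIn p A K) (f : G →* G') (hf : ∀ x ∈ K, f x = 1 → x = 1) (hL : L ≤ K.map f) (hBL : B ≤ L)
    (hB : IsPGroup p B) (hA : ∀ a ∈ A, f a ∈ B) : SylIn p B L := by
  refine ⟨hBL, hB, fun R hle hRL hR => le_antisymm (fun r hr => ?_) hle⟩
  have hp : IsPGroup p ↥(R.comap f ⊓ K) := by
    rintro ⟨x, hxR, hxK⟩
    obtain ⟨k, hk⟩ := hR ⟨f x, hxR⟩
    refine ⟨k, Subtype.ext (hf (x ^ p ^ k) (K.pow_mem hxK _) ?_)⟩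
    have h1 := congrArg Subtype.val hk
    rw [Subgroup.coe_pow] at h1
    rw [map_pow]
    exact h1
  have heq := h.2.2 _ (le_inf (fun a ha => hle (hA a ha)) h.1) inf_le_right hp
  obtain ⟨x, hx, rfl⟩ := hL (hRL hr)
  exact hA x (heq.le ⟨hr, hx⟩)

/-- An invariant subgroup gives an element of the stabilizer. -/
theorem mem_stabAut [Finite S] (hH : H ≤ S) (hVH : V ≤ H) {a : MulAut H} (ha : a ∈ F.autGroup H)
    (hm : ∀ x ∈ V, ev a x ∈ V) : a ∈ stabAut H V := by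
  refine fun x => ⟨fun hx => by rw [← ev_val]; exact hm _ hx, fun hx => ?_⟩
  obtain ⟨y, hy, hye⟩ := exists_of_image
    (((mapFn_ev hH ha).mono hVH).image_eq_of_maps (hVH.trans hH) hm le_rfl) hx
  rw [ev_coe a (hVH hy)] at hye
  rw [← a.injective (Subtype.ext hye : a ⟨y, hVH hy⟩ = a x)]
  exact hy

/-- Restriction to an invariant subgroup, as a homomorphism. -/
noncomputable def resHom {G : Subgroup (MulAut H)} (hVH : V ≤ H) (hm : ∀ a ∈ G, ∀ x ∈ V, ev a x ∈ V) :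
    G →* MulAut V where
  toFun a :=
    { toFun := fun x => ⟨ev (a : MulAut H) x, hm a a.2 x x.2⟩
      invFun := fun x => ⟨ev (a : MulAut H)⁻¹ x, hm _ (G.inv_mem a.2) x x.2⟩
      left_inv := fun x => Subtype.ext (ev_inv_ev _ (hVH x.2))
      right_inv := fun x => Subtype.ext (ev_ev_inv _ (hVH x.2))
      map_mul' := fun x y => Subtype.ext (by
        show ev (a : MulAut H) ((x : Ω) * y) = ev (a : MulAut H) x * ev (a : MulAut H) y
        rw [ev_coe _ (hVH x.2), ev_coe _ (hVH y.2)]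
        exact (ev_val (a : MulAut H) (⟨x, hVH x.2⟩ * ⟨y, hVH y.2⟩)).trans (by rw [map_mul, Subgroup.coe_mul])) }
  map_one' := MulEquiv.ext fun x => Subtype.ext (ev_one (hVH x.2))
  map_mul' a b := MulEquiv.ext fun x => Subtype.ext (ev_mul _ _ (hVH x.2))

theorem ev_resHom {G : Subgroup (MulAut H)} {hVH : V ≤ H} {hm : ∀ a ∈ G, ∀ x ∈ V, ev a x ∈ V} (a : G) {x : Ω}
    (hx : x ∈ V) : ev (resHom hVH hm a) x = ev (a : MulAut H) x :=
  ev_coe (resHom hVH hm a) hx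

/-- Conjugation by an element of the normalizer, as an automorphism. -/
theorem exists_conjAut (hM : ∀ m ∈ M, m ∈ Subgroup.normalizer (Q : Set Ω)) {m : Ω} (hm : m ∈ M) :
    ∃ c ∈ autInducedBy M Q, ∀ x ∈ Q, ev c x = m * x * m⁻¹ := by
  obtain ⟨c, hc, hce⟩ := exists_autInducedBy (K := M) hm (hM m hm)
  exact ⟨c, hc, fun x hx => ev_conj_of hce hx⟩

theorem exists_induced_ev {c : MulAut Q} (hc : c ∈ autInducedBy M Q) :
    ∃ m ∈ M, m ∈ Subgroup.normalizer (Q : Set Ω) ∧ ∀ x ∈ Q, ev c x = m * x * m⁻¹ := by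
  obtain ⟨m, hm, hme⟩ := mem_autInducedBy.mp hc
  exact ⟨m, hm, mem_normalizer_of_aut hme, fun x hx => ev_conj_of hme hx⟩

theorem mem_induced_of_ev {c : MulAut Q} {m : Ω} (hm : m ∈ M) (h : ∀ x ∈ Q, ev c x = m * x * m⁻¹) :
    c ∈ autInducedBy M Q :=
  mem_autInducedBy.mpr ⟨m, hm, fun x => (ev_val c x).symm.trans (h x x.2)⟩

/-! ### Transport -/

variable [Finite S]

/-- A map induces an isomorphism of automorphism groups. -/
theorem exists_congr (hθ : MapFn F Q θ) (hX : θ '' Q = (X : Set Ω)) :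
    ∃ Φ : MulAut Q ≃* MulAut X, ∀ a, ∀ x ∈ Q, ev (Φ a) (θ x) = θ (ev a x) := by
  obtain ⟨φ, hφ, hφe⟩ := id hθ
  obtain ⟨e, he⟩ := exists_equiv hφ (Q := X) (SetLike.coe_injective (by rw [← MapFn.image_eq_range hφe, hX]))
  have hee : ∀ x : Q, ((e x : X) : Ω) = θ x := fun x => (he x).trans (hφe x)
  refine ⟨MulAut.congr e, fun a x hx => ?_⟩
  rw [ev_coe a hx, ← hee (a ⟨x, hx⟩), ← hee ⟨x, hx⟩, ev_val]
  simp [MulAut.congr]

variable {Φ : MulAut Q ≃* MulAut X}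

theorem congr_symm_spec (hX : θ '' Q = (X : Set Ω)) (hΦ : ∀ a, ∀ x ∈ Q, ev (Φ a) (θ x) = θ (ev a x))
    {k : Ω → Ω} (hk : ∀ x ∈ Q, k (θ x) = x) (a : MulAut X) :
    ∀ y ∈ X, ev (Φ.symm a) (k y) = k (ev a y) := by
  intro y hy
  obtain ⟨x, hx, rfl⟩ := exists_of_image hX hy
  have h := hΦ (Φ.symm a) x hx
  rw [MulEquiv.apply_symm_apply] at h
  rw [h, hk x hx, hk _ (ev_mem _ hx)]

theorem congr_autF (hθ : MapFn F Q θ) (hX : θ '' Q = (X : Set Ω))
    (hΦ : ∀ a, ∀ x ∈ Q, ev (Φ a) (θ x) = θ (ev a x)) {a : MulAut Q} (ha : a ∈ F.autGroup Q) :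
    Φ a ∈ F.autGroup X := by
  obtain ⟨b, hb, -, hbe⟩ := exists_transport_aut hθ hX ha
  have : Φ a = b := aut_ext fun y hy => by
    obtain ⟨x, hx, rfl⟩ := exists_of_image hX hy
    rw [hΦ a x hx, hbe x hx]
  rwa [this]

theorem congr_bAut (hE : E.IsInvariantIn F) (hQ : Q ≤ S) (hXS : X ≤ S) (hθ : MapFn F Q θ)
    (hX : θ '' Q = (X : Set Ω)) (hΦ : ∀ a, ∀ x ∈ Q, ev (Φ a) (θ x) = θ (ev a x)) {a : MulAut Q}
    (ha : a ∈ bAut hE hQ) : Φ a ∈ bAut hE hXS :=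
  Disp.transport hE ha hθ hX fun x hx => hΦ a x hx

theorem congr_autE (hE : E.IsInvariantIn F) (hQ : Q ≤ T) (hXT : X ≤ T) (hθ : MapFn F Q θ)
    (hX : θ '' Q = (X : Set Ω)) (hΦ : ∀ a, ∀ x ∈ Q, ev (Φ a) (θ x) = θ (ev a x)) {a : MulAut Q}
    (ha : a ∈ E.autGroup Q) : Φ a ∈ E.autGroup X := by
  obtain ⟨k, hk, hkr, hk₁, -⟩ := hθ.exists_inv hX
  have h := CfsgLib.Fusion.mapFn_transport hE hQ (mapFn_ev hQ ha) (fun _ hx => ev_mem a hx) hθ hX hk₁
  refine (mem_autGroup_iff_mapFn hXT).mpr ⟨_, h.congr fun y hy => ?_, ev_val (Φ a)⟩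
  obtain ⟨x, hx, rfl⟩ := exists_of_image hX hy
  rw [hΦ a x hx]
  show θ (ev a (k (θ x))) = _
  rw [hk₁ x hx]

theorem congr_induced {L N : Subgroup Ω} (hθ : MapFn F L θ) (hQL : Q ≤ L) (hX : θ '' Q = (X : Set Ω))
    (hΦ : ∀ a, ∀ x ∈ Q, ev (Φ a) (θ x) = θ (ev a x)) {a : MulAut Q} {m : Ω} (hm : m ∈ L)
    (ha : ∀ x ∈ Q, ev a x = m * x * m⁻¹) (hN : θ m ∈ N) : Φ a ∈ autInducedBy N X := by
  refine mem_induced_of_ev hN fun y hy => ?_
  obtain ⟨x, hx, rfl⟩ := exists_of_image hX hy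
  rw [hΦ a x hx, ha x hx, hθ.map_conj hm (hQL hx)]

/-! ### `cen` -/

theorem inn_normal {c : MulAut U} (hc : c ∈ autInducedBy U U) (a : MulAut U) :
    a * c * a⁻¹ ∈ autInducedBy U U := inn_conj hc

/-- The automorphisms of `U` commuting modulo inner ones with the conjugations by `Q`. -/
def cen (U Q : Subgroup Ω) : Subgroup (MulAut U) where
  carrier := {a | ∀ c ∈ autInducedBy Q U, a * c * a⁻¹ * c⁻¹ ∈ autInducedBy U U}
  one_mem' c _ := by simp
  mul_mem' {a b} ha hb c hc := by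
    have h := Subgroup.mul_mem _ (inn_normal (hb c hc) a) (ha c hc)
    have e : a * b * c * (a * b)⁻¹ * c⁻¹ = a * (b * c * b⁻¹ * c⁻¹) * a⁻¹ * (a * c * a⁻¹ * c⁻¹) := by group
    rwa [e]
  inv_mem' {a} ha c hc := by
    have h := inn_normal (Subgroup.inv_mem _ (ha c hc)) a⁻¹
    have e : a⁻¹ * c * a⁻¹⁻¹ * c⁻¹ = a⁻¹ * (a * c * a⁻¹ * c⁻¹)⁻¹ * a⁻¹⁻¹ := by group
    rwa [e]

theorem inn_le_cen : autInducedBy U U ≤ cen U Q := fun a ha c _ => by
  have h := Subgroup.mul_mem _ ha (inn_normal (Subgroup.inv_mem _ ha) c)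
  simpa [mul_assoc] using h

theorem congr_cen {Q' U' : Subgroup Ω} {Φ : MulAut U ≃* MulAut U'} (hθ : MapFn F K θ) (hQK : Q ≤ K)
    (hUK : U ≤ K) (hQ' : θ '' Q = (Q' : Set Ω)) (hU' : θ '' U = (U' : Set Ω))
    (hQU : ∀ q ∈ Q, q ∈ Subgroup.normalizer (U : Set Ω))
    (hΦ : ∀ a, ∀ x ∈ U, ev (Φ a) (θ x) = θ (ev a x)) {a : MulAut U} (ha : a ∈ cen U Q) :
    Φ a ∈ cen U' Q' := by
  intro c' hc'
  obtain ⟨m', hm', -, hc'e⟩ := exists_induced_ev hc'
  obtain ⟨m, hm, rfl⟩ := exists_of_image hQ' hm'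
  obtain ⟨c, hc, hce⟩ := exists_conjAut hQU hm
  have hcc : c' = Φ c := aut_ext fun y hy => by
    obtain ⟨x, hx, rfl⟩ := exists_of_image hU' hy
    rw [hc'e _ hy, hΦ c x hx, hce x hx, hθ.map_conj (hQK hm) (hUK hx)]
  rw [hcc, ← map_inv, ← map_inv, ← map_mul, ← map_mul, ← map_mul]
  obtain ⟨u, hu, -, hue⟩ := exists_induced_ev (ha c hc)
  exact congr_induced hθ hUK hU' hΦ (hUK hu) hue (mem_of_image hU' hu)

/-- An element of `T` inducing an element of `cen` normalizes `Q`. -/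
theorem mem_normalizer_of_cen (hT : F.StronglyClosed T) (hUc : TCentric F T U) (hQS : Q ≤ S) (hQT : Q ⊓ T = U)
    {t : Ω} (ht : t ∈ T) {c : MulAut U} (hce : ∀ x ∈ U, ev c x = t * x * t⁻¹) (hc : c ∈ cen U Q) :
    t ∈ Subgroup.normalizer (Q : Set Ω) := by
  have := finite_of_le hQS
  have hUQ : U ≤ Q := hQT ▸ inf_le_left
  refine mem_normalizer_of_forall fun x hx => ?_
  have hxU : x ∈ Subgroup.normalizer (U : Set Ω) := by
    have := finite_of_le (hUc.le.trans hT.1)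
    refine mem_normalizer_of_forall fun v hv => ?_
    rw [← hQT] at hv ⊢
    exact ⟨Q.mul_mem (Q.mul_mem hx hv.1) (Q.inv_mem hx),
      conj_mem_of_normalizer (StronglyClosed.le_normalizer hT (hQS hx)) hv.2⟩
  obtain ⟨cx, hcx, hcxe⟩ := exists_autInducedBy (K := Q) hx hxU
  obtain ⟨u, hu, -, hue⟩ := exists_induced_ev (hc cx hcx)
  set k := u⁻¹ * (t * x * t⁻¹ * x⁻¹) with hk
  have hkT : k ∈ T := T.mul_mem (T.inv_mem (hUc.le hu)) (by
    have h1 := conj_mem_of_normalizer (StronglyClosed.le_normalizer hT (hQS hx)) (T.inv_mem ht)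
    simpa [mul_assoc] using T.mul_mem ht h1)
  have hkC : k ∈ centralizerIn T U := by
    refine mem_centralizerIn.mpr ⟨hkT, fun v hv => ?_⟩
    have h1 := hue v hv
    have hx' : x⁻¹ * v * x ∈ U := (Subgroup.mem_normalizer_iff''.mp hxU v).mp hv
    have hcx' : ev cx⁻¹ v = x⁻¹ * v * x := by
      have h2 := ev_conj_of hcxe hx'
      rw [show x * (x⁻¹ * v * x) * x⁻¹ = v by group] at h2
      conv_lhs => rw [← h2]
      exact ev_inv_ev cx hx'
    have hct : ev c⁻¹ (x⁻¹ * v * x) = t⁻¹ * (x⁻¹ * v * x) * t := by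
      have h3 := hce _ (ev_mem c⁻¹ hx')
      rw [ev_ev_inv c hx'] at h3
      calc ev c⁻¹ (x⁻¹ * v * x) = t⁻¹ * (t * ev c⁻¹ (x⁻¹ * v * x) * t⁻¹) * t := by group
        _ = _ := by rw [← h3]
    have hm : x * ev c⁻¹ (x⁻¹ * v * x) * x⁻¹ ∈ U := conj_mem_of_normalizer hxU (ev_mem _ hx')
    rw [ev_mul _ _ hv, ev_mul _ _ (ev_mem _ hv), ev_mul _ _ (ev_mem _ (ev_mem _ hv)), hcx',
      ev_conj_of hcxe (ev_mem _ hx'), hce _ hm, hct] at h1
    calc v * k = u⁻¹ * (u * v * u⁻¹) * (t * x * t⁻¹ * x⁻¹) := by rw [hk]; group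
      _ = k * v := by rw [← h1, hk]; group
  have h := Q.mul_mem (hUQ (U.mul_mem hu (TCentric.centralizer_le hT.1 hUc hkC))) hx
  rw [hk, mul_inv_cancel_left, inv_mul_cancel_right] at h
  exact h

/-! ### `Cond` and `SylT` -/

/-- The conjugations by `T` in `cen U Q` are a largest `p`-group in `E.autGroup U ⊓ cen U Q`. -/
def Cond (E : FusionSystem T) (p : ℕ) (U Q : Subgroup Ω) : Prop :=
  ∀ R ≤ E.autGroup U ⊓ cen U Q, IsPGroup p R → Nat.card R ≤ Nat.card ↥(autInducedBy T U ⊓ cen U Q)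

/-- The conjugations by `T` are a Sylow subgroup of `O^p` of the generating automorphisms. -/
def SylT (p : ℕ) (hE : E.IsInvariantIn F) (hQ : Q ≤ S) : Prop :=
  SylIn p (autInducedBy T Q ⊓ opr p (bAut hE hQ)) (opr p (bAut hE hQ))

theorem congr_opr (hE : E.IsInvariantIn F) (hQ : Q ≤ S) (hXS : X ≤ S) (hθ : MapFn F Q θ)
    (hX : θ '' Q = (X : Set Ω)) (hΦ : ∀ a, ∀ x ∈ Q, ev (Φ a) (θ x) = θ (ev a x)) :
    (opr p (bAut hE hQ)).map Φ.toMonoidHom = opr p (bAut hE hXS) := by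
  refine le_antisymm (map_opr_le _ fun a ha => congr_bAut hE hQ hXS hθ hX hΦ ha) fun b hb => ?_
  obtain ⟨k, hk, hkr, hk₁, -⟩ := hθ.exists_inv hX
  refine ⟨Φ.symm b, map_opr_le Φ.symm.toMonoidHom
    (fun a ha => congr_bAut hE hXS hQ hk hkr (congr_symm_spec hX hΦ hk₁) ha) ⟨b, hb, rfl⟩, ?_⟩
  exact MulEquiv.apply_symm_apply Φ b

/-- `SylT` passes along maps defined on `N_T(Q)`. -/
theorem SylT.transport (hS : IsPGroup p S) (hE : E.IsInvariantIn F) {hQ : Q ≤ S} (hXS : X ≤ S)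
    (h : SylT p hE hQ) (hθ : MapFn F K θ) (hQK : Q ≤ K) (hNK : normalizerIn T Q ≤ K)
    (hX : θ '' Q = (X : Set Ω)) : SylT p hE hXS := by
  obtain ⟨Φ, hΦ⟩ := exists_congr (hθ.mono hQK) hX
  have heq := congr_opr (p := p) hE hQ hXS (hθ.mono hQK) hX hΦ
  refine sylIn_image h Φ.toMonoidHom (fun x _ hx => (map_eq_one_iff Φ Φ.injective).mp hx) heq.ge inf_le_right
    ((isPGroup_autInducedBy (hS.to_le hE.2.1.1) X).to_le inf_le_left) ?_
  rintro a ⟨ha, ha'⟩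
  obtain ⟨t, ht, htn, hte⟩ := exists_induced_ev ha
  exact ⟨congr_induced hθ hQK hX hΦ (hNK ⟨ht, htn⟩) hte (mapFn_mem hE.2.1 hθ (hNK ⟨ht, htn⟩) ht),
    heq.le ⟨a, ha', rfl⟩⟩

end CfsgLib.RE
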