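import Cfsg.Agent.Lib.Fusion.RE.Lift
import Cfsg.Agent.Lib.Fusion.RE.Transfer

/-!
# The product of a normal subsystem with the whole `p`-group, IV: the local Sylow condition

Let `Q` and `U = Q ⊓ T` be fully normalized, `U` centric in `T`. Every generating automorphism of `Q` lifts to
a controlled automorphism of `U C_S(U) ⊔ Q`; under `Cond` the conjugations by `T` in `O^p` of the generating
automorphisms of `Q` are a Sylow subgroup of it.
-/

set_option autoImplicit false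
set_option linter.unusedSectionVars false

namespace CfsgLib.RE

open Cfsg Cfsg.FusionSystem CfsgLib.Fusion CfsgLib.FusionNormal CfsgLib.Fusion.PPrimeRes CfsgLib.Meet
open scoped commutatorElement

variable {Ω : Type*} [Group Ω] {S T : Subgroup Ω} {F : FusionSystem S} {E : FusionSystem T} {p : ℕ}
variable {Q U : Subgroup Ω} [Finite S] [Fact p.Prime]

theorem le_normalizer_inter (hT : F.StronglyClosed T) (hQ : Q ≤ S) : Q ≤ normalizerIn S (Q ⊓ T) :=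
  fun q hq => ⟨hQ hq, by
    have := finite_of_le (inf_le_left.trans hQ : Q ⊓ T ≤ S)
    exact mem_normalizer_of_forall fun x hx =>
      ⟨Q.mul_mem (Q.mul_mem hq hx.1) (Q.inv_mem hq), conj_mem_T hT (hQ hq) hx.2⟩⟩

variable (hS : IsPGroup p S) (hE : E.IsNormalIn F p) (hUc : TCentric F T U)
  (hUn : F.IsFullyNormalized U) (hQT : Q ⊓ T = U)

include hQT in
theorem U_le_Q : U ≤ Q := hQT ▸ inf_le_left

include hE hQT in
theorem Q_le_NU (hQS : Q ≤ S) : Q ≤ normalizerIn S U := hQT ▸ le_normalizer_inter hE.1.2.2.2.1 hQS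

include hS hE hUc hUn hQT in
/-- The automorphisms of `H` stabilizing `Q` and `U` normalize the controlled ones. -/
theorem conj_hat (hQS : Q ≤ S) {g b : MulAut ↥(W S U ⊔ Q)} (hg : g ∈ F.autGroup (W S U ⊔ Q))
    (hgQ : g ∈ stabAut (W S U ⊔ Q) Q) (hgU : g ∈ stabAut (W S U ⊔ Q) U) (hb : Hat hE hUc Q b) :
    Hat hE hUc Q (g * b * g⁻¹) := by
  obtain ⟨hbF, hbQ, hbT, e, he, hbW⟩ := hb
  have hTsc := hE.1.2.2.2.1
  have hF := hE.1.2.1
  have hUS := U_le_S hE hUc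
  have hWS := W_le (S := S) hUS
  have hH : W S U ⊔ Q ≤ S := sup_le hWS hQS
  have hgm := mapFn_ev hH hg
  have hQ' : ∀ {a : MulAut ↥(W S U ⊔ Q)}, a ∈ stabAut (W S U ⊔ Q) Q → ∀ x ∈ Q, ev a x ∈ Q :=
    fun {a} ha x hx => by
      rw [ev_coe a (Subgroup.mem_sup_right hx)]; exact (ha ⟨x, Subgroup.mem_sup_right hx⟩).mp hx
  have hgU' : ∀ x ∈ U, ev g x ∈ U := fun x hx => by
    have hx' : x ∈ W S U ⊔ Q := Subgroup.mem_sup_left (le_W hx)
    rw [ev_coe g hx']; exact (hgU ⟨x, hx'⟩).mp hx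
  have hgW : ev g '' W S U = (W S U : Set Ω) := mapFn_W hUS (hgm.mono le_sup_left) hgU'
  obtain ⟨g₁, hg₁, hg₁e⟩ := (hgm.mono le_sup_left).exists_aut hgW
  have hg₁ev : ∀ x ∈ W S U, ev g₁ x = ev g x := fun x hx => by rw [ev_coe g₁ hx, hg₁e]
  have hg₁s : g₁ ∈ stabW F U := ⟨hg₁, mem_stabAut hWS le_W hg₁ fun x hx => by
    rw [hg₁ev x (le_W hx)]; exact hgU' x hx⟩
  refine ⟨Subgroup.mul_mem _ (Subgroup.mul_mem _ hg hbF) (Subgroup.inv_mem _ hg), fun x hx => ?_,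
    fun h hh => ?_, g₁ * e * g₁⁻¹, conj_jW (single hE) hS hF hUc.le hUn hg₁s he, fun x hx => ?_⟩
  · have hx' : x ∈ W S U ⊔ Q := Subgroup.mem_sup_right hx
    rw [ev_mul _ _ hx', ev_mul _ _ (ev_mem _ hx')]
    exact hQ' hgQ _ (hbQ _ (hQ' (Subgroup.inv_mem _ hgQ) x hx))
  · have hk := ev_mem g⁻¹ hh
    rw [ev_mul _ _ hh, ev_mul _ _ hk]
    have h1 := mapFn_mem hTsc hgm (Subgroup.mul_mem _ (Subgroup.inv_mem _ hk) (ev_mem b hk)) (hbT _ hk)
    rw [hgm.map_mul (Subgroup.inv_mem _ hk) (ev_mem b hk), hgm.map_inv hk, ev_ev_inv g hh] at h1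
    exact h1
  · have hx' : x ∈ W S U ⊔ Q := Subgroup.mem_sup_left hx
    have hi : ev g⁻¹ x = ev g₁⁻¹ x := by
      conv_lhs => rw [← ev_ev_inv g₁ hx, hg₁ev _ (ev_mem _ hx)]
      exact ev_inv_ev g (Subgroup.mem_sup_left (ev_mem _ hx))
    rw [ev_mul _ _ hx', ev_mul _ _ (ev_mem _ hx'), hi, hbW _ (ev_mem _ hx), ev_mul _ _ hx,
      ev_mul _ _ (ev_mem _ hx), hg₁ev _ (ev_mem _ (ev_mem _ hx))]

include hS hE hUc hUn hQT in
/-- Generating automorphisms of order prime to `p` lift. -/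
theorem exists_hat_lift (hQn : F.IsFullyNormalized Q) {α : MulAut Q} (hα : α ∈ bAut hE.1.2.2 hQn.1)
    (hαp : (orderOf α).Coprime p) :
    ∃ b : MulAut ↥(W S U ⊔ Q), Hat hE hUc Q b ∧ (orderOf b).Coprime p ∧ ∀ x ∈ Q, ev b x = ev α x := by
  have hTsc := hE.1.2.2.2.1
  have hF := hE.1.2.1
  have hUS := U_le_S hE hUc
  have hWS := W_le (S := S) hUS
  have hQS := hQn.1
  have hH : W S U ⊔ Q ≤ S := sup_le hWS hQS
  have hUQ := U_le_Q hQT
  have hQN := Q_le_NU hE hQT hQS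
  have hαm : MapFn F Q (ev α) := hα.map
  have hαU : ∀ x ∈ U, ev α x ∈ U := fun x hx => by
    rw [← hQT] at hx ⊢
    exact ⟨ev_mem α hx.1, mapFn_mem hTsc hαm hx.1 hx.2⟩
  obtain ⟨n, -, hne, hnd⟩ := exists_restrict_aut hQS hUQ (bAut_le hE.1.2.2 hQS hα) hαU
  have hαE : MapFn E U (ev α) := hQT ▸ hα.onT
  obtain ⟨b₀, hb₀, -, hb₀e⟩ := exists_hat_base hS hE hUc hUn (K := Q) (hαp.coprime_dvd_left hnd)
    (hαE.congr hne) hUQ hQN fun x hx => by
      refine ⟨ev α x, ev_mem α hx, ?_, fun u hu => ?_⟩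
      · have h1 := conj_mem_T hTsc (hQS hx) (hα.disp x hx)
        simpa [mul_assoc] using h1
      · rw [← hne _ (conj_mem_of_normalizer (hQN hx).2 hu), ← hne u hu, hαm.map_conj hx (hUQ hu)]
  obtain ⟨hb₀F, hb₀Q, hb₀T, -⟩ := id hb₀
  obtain ⟨β, hβ, hβe, -⟩ := exists_restrict_aut hH le_sup_right hb₀F hb₀Q
  set δ := β⁻¹ * α with hδ
  have hδfix : ∀ x ∈ U, ev δ x = x := fun x hx => by
    rw [hδ, ev_mul _ _ (hUQ hx)]
    have h1 : ev α x = ev β x := by rw [← hβe x (hUQ hx), hb₀e x hx, hne x hx]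
    rw [h1, ev_inv_ev β (hUQ hx)]
  obtain ⟨s, hs, hsn, hse⟩ := CfsgLib.EBalance.stab_mem hS hE hF hQn
    ⟨δ, Subgroup.mul_mem _ (Subgroup.inv_mem _ hβ) (bAut_le hE.1.2.2 hQS hα)⟩
    (fun x hx => Subtype.ext (by rw [hQT] at hx; rw [← ev_val]; exact hδfix _ hx))
    fun x => by
      rw [← ev_val]
      refine ⟨Q.mul_mem (Q.inv_mem x.2) (ev_mem _ x.2), ?_⟩
      have hy := ev_mem δ x.2
      have h1 := hb₀T _ (Subgroup.mem_sup_right hy)
      have h2 : ev β (ev δ x) = ev α x := by rw [hδ, ev_mul _ _ x.2, ev_ev_inv β (ev_mem α x.2)]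
      rw [hβe _ hy, h2] at h1
      have h3 := T.mul_mem (hα.disp x x.2) (T.inv_mem h1)
      simpa [mul_assoc] using h3
  have hsC : s ∈ centralizerIn S U := mem_centralizerIn.mpr ⟨hs, fun u hu => by
    have h1 := hse ⟨u, hUQ hu⟩
    rw [← ev_val, hδfix u hu] at h1
    calc u * s = s * u * s⁻¹ * s := by rw [← h1]
      _ = s * u := inv_mul_cancel_right _ _⟩
  have hsH : s ∈ W S U ⊔ Q := Subgroup.mem_sup_left (cen_le_W hsC)
  obtain ⟨d, hd, hde⟩ := exists_autInducedBy (K := W S U ⊔ Q) hsH (Subgroup.le_normalizer hsH)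
  have := finite_mulAut hH
  obtain ⟨k, hk⟩ := (isPGroup_autInducedBy (hS.to_le hH) (W S U ⊔ Q)) ⟨d, hd⟩
  have hk' : d ^ p ^ k = 1 := congrArg Subtype.val hk
  let Γ : Subgroup (MulAut ↥(W S U ⊔ Q)) :=
    F.autGroup (W S U ⊔ Q) ⊓ stabAut (W S U ⊔ Q) Q ⊓ stabAut (W S U ⊔ Q) U
  have hhatΓ : ∀ {b}, Hat hE hUc Q b → b ∈ Γ := fun {b} hb => by
    obtain ⟨hbF, hbQ, -, e, he, hbW⟩ := hb
    exact ⟨⟨hbF, mem_stabAut hH le_sup_right hbF hbQ⟩, mem_stabAut hH (le_W.trans le_sup_left) hbF fun x hx => by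
      rw [hbW x (le_W hx)]; exact jW_mem_U hE hUc he hx⟩
  have hdF : d ∈ F.autGroup (W S U ⊔ Q) := autInducedBy_le_autGroup hH (autInducedBy_mono hH _ hd)
  have hdΓ : d ∈ Γ := ⟨⟨hdF, mem_stabAut hH le_sup_right hdF fun x hx => by
      rw [ev_conj_of hde (Subgroup.mem_sup_right hx)]; exact conj_mem_of_normalizer hsn hx⟩,
    mem_stabAut hH (le_W.trans le_sup_left) hdF fun x hx => by
      rw [ev_conj_of hde (Subgroup.mem_sup_left (le_W hx)), ← (mem_centralizerIn.mp hsC).2 x hx,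
        mul_inv_cancel_right]; exact hx⟩
  have hnorm : ∀ a ∈ Γ, ∀ b ∈ hatGrp hE hUc hQS, a * b * a⁻¹ ∈ hatGrp hE hUc hQS := fun a ha b hb =>
    conj_hat hS hE hUc hUn hQT hQS ha.1.1 ha.1.2 ha.2 hb
  set a := b₀ * d with ha
  have haQ : ∀ x ∈ Q, ev a x = ev α x := fun x hx => by
    rw [ha, ev_mul _ _ (Subgroup.mem_sup_right hx), ev_conj_of hde (Subgroup.mem_sup_right hx)]
    have h1 := hse ⟨x, hx⟩
    rw [← ev_val] at h1
    rw [← h1, hβe _ (ev_mem δ hx), hδ, ev_mul _ _ hx, ev_ev_inv β (ev_mem α hx)]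
  obtain ⟨m, hm, hmb⟩ := exists_coprime_power (p := p) a
  have haΓ : a ∈ Γ := Γ.mul_mem (hhatΓ hb₀) hdΓ
  have hquot : ∀ j : ℕ, a ^ j * (d ^ j)⁻¹ ∈ hatGrp hE hUc hQS := by
    intro j
    induction j with
    | zero => simp [Subgroup.one_mem]
    | succ j ih =>
      have h1 := Subgroup.mul_mem (hatGrp hE hUc hQS) hb₀ (hnorm d hdΓ _ ih)
      have e : a ^ (j + 1) * (d ^ (j + 1))⁻¹ = b₀ * (d * (a ^ j * (d ^ j)⁻¹) * d⁻¹) := by
        rw [pow_succ' a, pow_succ' d, ha]; group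
      rwa [e]
  have hdm : ((d ^ m)⁻¹) ^ p ^ k = 1 := by
    rw [inv_pow, ← pow_mul, mul_comm, pow_mul, hk', one_pow, inv_one]
  refine ⟨a ^ m, mem_of_mul_pElement hnorm (Γ.pow_mem haΓ m) (Γ.inv_mem (Γ.pow_mem hdΓ m)) hdm hm
    (pow_orderOf_eq_one _) (hquot m), hm, fun x hx => ?_⟩
  rw [ev_pow_restrict le_sup_right haQ m x hx,
    hmb α (fun j hj => pow_eq_one_of_restrict le_sup_right haQ hj) hαp]

include hS hE hUc hUn hQT in
/-- A controlled automorphism fixing `U` is conjugation by an element of `U C_S(U)`. -/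
theorem hat_fixed (hQS : Q ≤ S) {b : MulAut ↥(W S U ⊔ Q)} (hb : Hat hE hUc Q b) (hfix : ∀ x ∈ U, ev b x = x) :
    ∃ z ∈ W S U, ∀ h ∈ W S U ⊔ Q, ev b h = z * h * z⁻¹ := by
  obtain ⟨hbF, -, -, e, he, hbW⟩ := hb
  have hUS := U_le_S hE hUc
  have hWS := W_le (S := S) hUS
  have hH : W S U ⊔ Q ≤ S := sup_le hWS hQS
  have he1 : e = 1 := jW_eq hS hE hUc hUn he (Subgroup.one_mem _) fun x hx => by
    rw [← hbW x (le_W hx), hfix x hx, ev_one (le_W hx)]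
  exact exists_conj_of_fixed hS hE.1.2.1 (isCentric_WU hS hE hUc hUn) le_sup_left
    (sup_le (Fusion.le_normalizerIn hWS) fun q hq => ⟨hQS hq, normalizer_W hUS (Q_le_NU hE hQT hQS hq)⟩)
    (mapFn_ev hH hbF) fun x hx => by rw [hbW x hx, he1, ev_one hx]

include hS hE hUc hUn hQT in
/-- Conjugations by `N_T(Q)` are controlled. -/
theorem hat_conj (hQS : Q ≤ S) {t : Ω} (ht : t ∈ normalizerIn T Q) :
    ∃ c : MulAut ↥(W S U ⊔ Q), Hat hE hUc Q c ∧ c ∈ autInducedBy S (W S U ⊔ Q) ∧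
      ∀ h ∈ W S U ⊔ Q, ev c h = t * h * t⁻¹ := by
  have hTsc := hE.1.2.2.2.1
  have hUS := U_le_S hE hUc
  have hWS := W_le (S := S) hUS
  have hH : W S U ⊔ Q ≤ S := sup_le hWS hQS
  have htS := hTsc.1 ht.1
  have := finite_of_le hUS
  have htU : t ∈ normalizerIn T U := ⟨ht.1, mem_normalizer_of_forall fun x hx => by
    rw [← hQT] at hx ⊢
    exact ⟨conj_mem_of_normalizer ht.2 hx.1, conj_mem_T hTsc htS hx.2⟩⟩
  have htW := normalizer_W hUS (⟨htS, htU.2⟩ : t ∈ normalizerIn S U)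
  have := finite_of_le hH
  have htH : t ∈ Subgroup.normalizer ((W S U ⊔ Q : Subgroup Ω) : Set Ω) :=
    mem_normalizer_of_forall fun h hh => (mapFn_conj (F := F) hH htS).maps_sup
      (fun w hw => Subgroup.mem_sup_left (conj_mem_of_normalizer htW hw))
      (fun q hq => Subgroup.mem_sup_right (conj_mem_of_normalizer ht.2 hq)) h hh
  obtain ⟨c, hc, hce⟩ := exists_autInducedBy (K := S) htS htH
  obtain ⟨e, he, hee⟩ := exists_autInducedBy (K := normalizerIn T U) htU htW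
  have hce' : ∀ h ∈ W S U ⊔ Q, ev c h = t * h * t⁻¹ := fun h hh => ev_conj_of hce hh
  refine ⟨c, ⟨autInducedBy_le_autGroup hH hc, fun x hx => ?_, fun h hh => ?_, e, auT_le_jW (single hE) hUc.le he,
    fun x hx => ?_⟩, hc, hce'⟩
  · rw [hce' x (Subgroup.mem_sup_right hx)]; exact conj_mem_of_normalizer ht.2 hx
  · rw [hce' h hh]
    have h1 := T.mul_mem (conj_mem_T hTsc (S.inv_mem (hH hh)) ht.1) (T.inv_mem ht.1)
    simpa [mul_assoc] using h1
  · rw [hce' x (Subgroup.mem_sup_left hx), ev_conj_of hee hx]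

include hS hE hUc hUn hQT in
/-- Under `Cond` the controlled `p`-automorphisms are conjugations by `N_T(Q) (U C_S(U))`. -/
theorem hat_decomp (hQS : Q ≤ S) (hcond : Cond E p U Q) {R : Subgroup (MulAut ↥(W S U ⊔ Q))}
    (hR : R ≤ hatGrp hE hUc hQS) (hRp : IsPGroup p R)
    (hτ : ∀ c, Hat hE hUc Q c → c ∈ autInducedBy S (W S U ⊔ Q) → c ∈ R) {r : MulAut ↥(W S U ⊔ Q)} (hr : r ∈ R) :
    ∃ t ∈ normalizerIn T Q, ∃ z ∈ W S U, ∀ h ∈ W S U ⊔ Q, ev r h = t * z * h * (t * z)⁻¹ := by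
  have hTsc := hE.1.2.2.2.1
  have hUS := U_le_S hE hUc
  have hUQ := U_le_Q hQT
  have hQN := Q_le_NU hE hQT hQS
  have hUH : U ≤ W S U ⊔ Q := le_W.trans le_sup_left
  have hm : ∀ a ∈ hatGrp hE hUc hQS, ∀ x ∈ U, ev a x ∈ U := fun a ha x hx => by
    obtain ⟨-, -, -, e, he, hW⟩ := ha
    rw [hW x (le_W hx)]; exact jW_mem_U hE hUc he hx
  set π := resHom hUH hm with hπ
  set R' := (R.subgroupOf (hatGrp hE hUc hQS)).map π with hR'
  have hR'le : R' ≤ E.autGroup U ⊓ cen U Q := by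
    rintro _ ⟨a, -, rfl⟩
    obtain ⟨haF, haQ, haT, e, he, haW⟩ := a.2
    refine ⟨(mem_autGroup_iff_mapFn hUc.le).mpr ⟨_, (jW_onT hE hUc he).congr fun x hx => ?_, ev_val _⟩, ?_⟩
    · rw [ev_resHom a hx, haW x (le_W hx)]
    intro c hc
    obtain ⟨q, hq, -, hce⟩ := exists_induced_ev hc
    have hqH : q ∈ W S U ⊔ Q := Subgroup.mem_sup_right hq
    have hu : ev (a : MulAut _) q * q⁻¹ ∈ U := hQT.le ⟨Q.mul_mem (haQ q hq) (Q.inv_mem hq), by
      simpa [mul_assoc] using conj_mem_T hTsc (hQS hq) (haT q hqH)⟩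
    refine mem_induced_of_ev hu fun v hv => ?_
    have hci : ev c⁻¹ v = q⁻¹ * v * q := by
      have hv' : q⁻¹ * v * q ∈ U := (Subgroup.mem_normalizer_iff''.mp (hQN hq).2 v).mp hv
      have h1 := hce _ hv'
      rw [show q * (q⁻¹ * v * q) * q⁻¹ = v by group] at h1
      conv_lhs => rw [← h1]
      exact ev_inv_ev c hv'
    have h2 := ev_mem c⁻¹ hv
    rw [ev_mul _ _ hv, ev_mul _ _ h2, ev_mul _ _ (ev_mem _ h2)]
    set w := ev (π a)⁻¹ (ev c⁻¹ v) with hw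
    have hwU : w ∈ U := ev_mem _ h2
    have hcw : ev c w ∈ U := ev_mem _ hwU
    rw [ev_resHom a hcw, hce w hwU, (mapFn_ev (sup_le (W_le hUS) hQS) haF).map_conj hqH (hUH hwU),
      ← ev_resHom (hVH := hUH) (hm := hm) a hwU, hw, ev_ev_inv _ h2, hci]
    group
  have hR'p : IsPGroup p R' := hRp.comap_subtype.map π
  have := finite_mulAut hUS
  have hsub : autInducedBy T U ⊓ cen U Q ≤ R' := by
    rintro c ⟨hc, hcc⟩
    obtain ⟨t, ht, -, hte⟩ := exists_induced_ev hc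
    obtain ⟨d, hd, hd', hde⟩ := hat_conj hS hE hUc hUn hQT hQS
      ⟨ht, mem_normalizer_of_cen hTsc hUc hQS hQT ht hte hcc⟩
    exact ⟨⟨d, hd⟩, hτ d hd hd', aut_ext fun x hx => by rw [ev_resHom _ hx, hde x (hUH hx), hte x hx]⟩
  have heq := Subgroup.eq_of_le_of_card_ge hsub (hcond R' hR'le hR'p)
  obtain ⟨hc, hcc⟩ := heq.ge (show π ⟨r, hR hr⟩ ∈ R' from ⟨_, hr, rfl⟩)
  obtain ⟨t, ht, -, hte⟩ := exists_induced_ev hc
  have htN : t ∈ normalizerIn T Q := ⟨ht, mem_normalizer_of_cen hTsc hUc hQS hQT ht hte hcc⟩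
  obtain ⟨d, hd, -, hde⟩ := hat_conj hS hE hUc hUn hQT hQS htN
  obtain ⟨z, hz, hze⟩ := hat_fixed hS hE hUc hUn hQT hQS
    ((hatGrp hE hUc hQS).mul_mem ((hatGrp hE hUc hQS).inv_mem hd) (hR hr)) fun x hx => by
    have h1 := hte x hx
    rw [ev_resHom (⟨r, hR hr⟩ : hatGrp hE hUc hQS) hx, ← hde x (hUH hx)] at h1
    rw [ev_mul _ _ (hUH hx), h1, ev_inv_ev d (hUH hx)]
  refine ⟨t, htN, z, hz, fun h hh => ?_⟩
  have h1 := congrArg (ev d) (hze h hh)
  rw [ev_mul _ _ hh, ev_ev_inv d (ev_mem r hh)] at h1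
  rw [h1, hde _ (Subgroup.mul_mem _ (Subgroup.mul_mem _ (Subgroup.mem_sup_left hz) hh)
    (Subgroup.inv_mem _ (Subgroup.mem_sup_left hz)))]
  group

include hS hE hUc hUn hQT in
/-- The Sylow condition. -/
theorem sylT_of_cond (hQn : F.IsFullyNormalized Q) (hcond : Cond E p U Q) : SylT p hE.1.2.2 hQn.1 := by
  have hTsc := hE.1.2.2.2.1
  have hF := hE.1.2.1
  have hQS := hQn.1
  have hUS := U_le_S hE hUc
  have hWS := W_le (S := S) hUS
  have hH : W S U ⊔ Q ≤ S := sup_le hWS hQS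
  have := finite_mulAut hH
  have := finite_mulAut hQS
  set G := hatGrp hE hUc hQS with hG
  set V := G ⊓ autInducedBy S (W S U ⊔ Q) with hV
  have hVp : IsPGroup p V := (isPGroup_autInducedBy hS _).to_le inf_le_right
  have hsylV : SylIn p V G := ⟨inf_le_left, hVp, fun R hle hRG hR => le_antisymm (fun r hr => ⟨hRG hr, by
    obtain ⟨t, ht, z, hz, hre⟩ := hat_decomp hS hE hUc hUn hQT hQS hcond hRG hR
      (fun c hc hc' => hle ⟨hc, hc'⟩) hr
    exact mem_induced_of_ev (S.mul_mem (hTsc.1 ht.1) (hWS hz)) hre⟩) hle⟩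
  -- the focal subgroup comes from `T`
  set τ := autInducedBy (normalizerIn T Q) (W S U ⊔ Q) with hτ
  have hfocal : ∀ a ∈ G, ∀ b ∈ V, a * b * a⁻¹ ∈ V → b⁻¹ * (a * b * a⁻¹) ∈ τ := by
    intro a ha b hb hab
    obtain ⟨t, ht, z, hz, hbe⟩ := hat_decomp hS hE hUc hUn hQT hQS hcond (inf_le_left : V ≤ G) hVp
      (fun c hc hc' => ⟨hc, hc'⟩) hb
    obtain ⟨s', hs', -, habe⟩ := exists_induced_ev hab.2
    obtain ⟨haF, haQ, haT, -⟩ := id ha
    have hzH : z ∈ W S U ⊔ Q := Subgroup.mem_sup_left hz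
    have hsS : t * z ∈ S := S.mul_mem (hTsc.1 ht.1) (hH hzH)
    have hsN : t * z ∈ normalizerIn S (W S U ⊔ Q) := ⟨hsS, by
      have := finite_of_le hH
      exact mem_normalizer_of_forall fun h hh => by rw [← hbe h hh]; exact ev_mem b hh⟩
    have hwc : F.IsFullyCentralized (W S U ⊔ Q) := isFullyCentralized_of_centric
      (IsCentric.of_le (isCentric_WU hS hE hUc hUn) le_sup_left hH)
    have ham := mapFn_ev hH haF
    obtain ⟨φ, hφ, hφe⟩ := id ham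
    have hle : W S U ⊔ Q ⊔ Subgroup.zpowers (t * z) ≤ extender S (W S U ⊔ Q) φ := by
      refine sup_le (le_extender hH (apply_mem_S hφ)) (Subgroup.zpowers_le.mpr (mem_extender.mpr
        ⟨hsS, hsN.2, s', hs', fun x hx => ?_⟩))
      rw [hφe, hφe]
      show ev a (t * z * (x : Ω) * (t * z)⁻¹) = s' * ev a x * s'⁻¹
      rw [← habe _ (ev_mem a x.2), ← hbe x x.2, ev_mul _ _ (ev_mem a x.2), ev_inv_ev a x.2, ev_mul _ _ x.2]
    obtain ⟨Gx, hGx, hGxe⟩ := ham.exists_extension (receptive_of_fullyCentralized hS hF hwc) (ev_image a)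
      (le_sup_left : W S U ⊔ Q ≤ W S U ⊔ Q ⊔ Subgroup.zpowers (t * z))
      (sup_le (Fusion.le_normalizerIn hH) (Subgroup.zpowers_le.mpr hsN))
      (fun n hn => by
        obtain ⟨-, hnN, u, hu, he⟩ := mem_extender.mp (hle hn)
        refine ⟨u, hu, fun x hx => ?_⟩
        have h1 := he ⟨x, hx⟩ (conj_mem_of_normalizer hnN hx)
        rwa [hφe, hφe] at h1)
    have hsM : t * z ∈ W S U ⊔ Q ⊔ Subgroup.zpowers (t * z) :=
      Subgroup.mem_sup_right (Subgroup.mem_zpowers _)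
    have hzM : z ∈ W S U ⊔ Q ⊔ Subgroup.zpowers (t * z) := Subgroup.mem_sup_left hzH
    have htM : t ∈ W S U ⊔ Q ⊔ Subgroup.zpowers (t * z) := by
      simpa using Subgroup.mul_mem _ hsM (Subgroup.inv_mem _ hzM)
    set u := (t * z)⁻¹ * Gx (t * z) with hu
    have huT : u ∈ T := by
      have h1 := T.mul_mem (conj_mem_T hTsc (S.inv_mem (hH hzH))
        (T.mul_mem (T.inv_mem ht.1) (mapFn_mem hTsc hGx htM ht.1))) (haT z hzH)
      rw [hu, hGx.map_mul htM hzM, hGxe z hzH]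
      simpa [mul_assoc] using h1
    have huev : ∀ h ∈ W S U ⊔ Q, ev (b⁻¹ * (a * b * a⁻¹)) h = u * h * u⁻¹ := by
      intro h hh
      obtain ⟨y, hy, rfl⟩ := exists_of_image (ev_image a) hh
      have h1 : ev (a * b * a⁻¹) (ev a y) = Gx (t * z) * ev a y * (Gx (t * z))⁻¹ := by
        rw [ev_mul _ _ (ev_mem a hy), ev_inv_ev a hy, ev_mul _ _ hy, hbe y hy, ← hGxe _ (by
          rw [← hbe y hy]; exact ev_mem b hy), hGx.map_conj hsM (Subgroup.mem_sup_left hy), hGxe y hy]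
      rw [ev_mul _ _ (ev_mem a hy)]
      have hm := ev_mem (a * b * a⁻¹) (ev_mem a hy)
      set w := ev (a * b * a⁻¹) (ev a y) with hw
      have h2 := hbe _ (ev_mem b⁻¹ hm)
      rw [ev_ev_inv b hm] at h2
      have h1' : w = Gx (t * z) * ev a y * (Gx (t * z))⁻¹ := h1
      calc ev b⁻¹ w = (t * z)⁻¹ * (t * z * ev b⁻¹ w * (t * z)⁻¹) * (t * z) := by group
        _ = u * ev a y * u⁻¹ := by rw [← h2, h1', hu]; group
    refine mem_induced_of_ev ⟨huT, ?_⟩ huev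
    have := finite_of_le hQS
    refine mem_normalizer_of_forall fun x hx => ?_
    rw [← huev x (Subgroup.mem_sup_right hx)]
    exact (G.mul_mem (G.inv_mem hb.1) (G.mul_mem (G.mul_mem ha hb.1) (G.inv_mem ha))).2.1 x hx
  have hopr : V ⊓ opr p G ≤ τ := by
    obtain ⟨U₁, hU₁⟩ := hsylV.exists_sylow
    rintro x ⟨hxV, y, hy, rfl⟩
    have hyU : y ∈ (U₁ : Subgroup G) := hU₁.ge hxV
    have h1 := CfsgLib.Transfer.inf_pResidual_le_focal U₁ ⟨hyU, hy⟩
    refine Subgroup.mem_comap.mp ((?_ : Subgroup.focalSubgroup (U₁ : Subgroup G) ≤ τ.comap G.subtype) h1)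
    rw [Subgroup.focalSubgroup_def, Subgroup.closure_le]
    rintro g ⟨hg, b₀, hb₀, a, rfl⟩
    have hb : ((b₀⁻¹ : G) : MulAut ↥(W S U ⊔ Q)) ∈ V := hU₁.le (Subgroup.inv_mem _ hb₀)
    have hab : ((a * b₀⁻¹ * a⁻¹ : G) : MulAut ↥(W S U ⊔ Q)) ∈ V := by
      have h2 := hU₁.le (Subgroup.mul_mem _ (Subgroup.inv_mem _ hb₀) hg)
      have e : b₀⁻¹ * ⁅b₀, a⁆ = a * b₀⁻¹ * a⁻¹ := by rw [commutatorElement_def]; group
      rw [e] at h2
      exact h2
    have h3 := hfocal a a.2 _ hb hab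
    show ((⁅b₀, a⁆ : G) : MulAut ↥(W S U ⊔ Q)) ∈ τ
    simpa [commutatorElement_def, mul_assoc] using h3
  -- restriction to `Q`
  have hmQ : ∀ a ∈ G, ∀ x ∈ Q, ev a x ∈ Q := fun a ha => (show Hat hE hUc Q a from ha).2.1
  set r := resHom (le_sup_right : Q ≤ W S U ⊔ Q) hmQ with hr
  have hrev : ∀ (a : G), ∀ x ∈ Q, ev (r a) x = ev (a : MulAut ↥(W S U ⊔ Q)) x := fun a x hx => ev_resHom a hx
  have hrinj : ∀ a : G, r a = 1 → a = 1 := fun a ha => Subtype.ext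
    (hat_eq hS hE hUc hUn (U_le_Q hQT) hQS a.2 (Subgroup.one_mem G) fun x hx => by
      rw [← hrev a x hx, ha, ev_one hx]
      exact (ev_one (Subgroup.mem_sup_right hx)).symm)
  have hoG : opr p G ≤ G := opr_le
  have hrA : ∀ y ∈ (opr p G).subgroupOf G, r y ∈ opr p (bAut hE.1.2.2 hQS) := by
    let C : Subgroup (MulAut ↥(W S U ⊔ Q)) := ((opr p (bAut hE.1.2.2 hQS)).comap r).map G.subtype
    have hC : opr p G ≤ C := opr_induction C fun g hg hgp => by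
      refine ⟨⟨g, hg⟩, Subgroup.mem_comap.mpr (mem_opr ?_ ?_), rfl⟩
      · exact (disp_of_hat hS hE hUc hUn (U_le_Q hQT) (Q_le_NU hE hQT hQS) hg hgp).congr fun x hx => by
          rw [hrev _ x hx]
      · exact (show (orderOf (⟨g, hg⟩ : G)).Coprime p by rwa [← Subgroup.orderOf_coe]).coprime_dvd_left
          (orderOf_map_dvd r _)
    rintro y hy
    obtain ⟨y', hy', he⟩ := hC hy
    obtain rfl : y' = y := Subtype.ext he
    exact hy'
  have hA : opr p (bAut hE.1.2.2 hQS) ≤ ((opr p G).subgroupOf G).map r := opr_induction _ fun α hα hαp => by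
    obtain ⟨b, hb, hbp, hbe⟩ := exists_hat_lift hS hE hUc hUn hQT hQn hα hαp
    exact ⟨⟨b, hb⟩, mem_opr (K := G) hb hbp, aut_ext fun x hx => by rw [hrev _ x hx, hbe x hx]⟩
  have hsylO : SylIn p ((V ⊓ opr p G).subgroupOf G) ((opr p G).subgroupOf G) := by
    have h1 : SylIn p (V ⊓ opr p G) (opr p G) :=
      hsylV.inf_normal hoG fun a ha b hb => opr_conj_self ha hb
    refine ⟨fun x hx => h1.1 hx, h1.2.1.comap_subtype, fun R hle hRK hR => le_antisymm (fun x hx => ?_) hle⟩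
    have h2 := h1.2.2 (R.map G.subtype) (fun z hz => ⟨⟨z, hoG hz.2⟩, hle hz, rfl⟩)
      (by rintro _ ⟨z, hz, rfl⟩; exact hRK hz) (hR.map _)
    exact h2.le ⟨x, hx, rfl⟩
  refine sylIn_image hsylO r (fun x _ => hrinj x) hA inf_le_right
    ((isPGroup_autInducedBy (hS.to_le hTsc.1) Q).to_le inf_le_left) fun x hx => ⟨?_, hrA x hx.2⟩
  obtain ⟨t, ht, -, hte⟩ := exists_induced_ev (show (x : MulAut ↥(W S U ⊔ Q)) ∈ τ from hopr hx)
  exact mem_induced_of_ev ht.1 fun y hy => by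
    rw [hrev _ y hy, hte y (Subgroup.mem_sup_right hy)]

end CfsgLib.RE
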