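import Cfsg.Agent.Lib.Fusion.RE.Saturated

/-!
# The product of a normal subsystem with a subgroup of `S`

The residual `E₁` of `E` is normal in `F`. The system generated from `E₁` over `S`, cut down by `p`-power
index to `R`, is the only saturated system over `R` in `F` with the hyperfocal subgroup and residual of `E`.
-/

set_option autoImplicit false
set_option linter.unusedSectionVars false

namespace CfsgLib.RE

open Cfsg Cfsg.FusionSystem CfsgLib.Fusion CfsgLib.FusionNormal CfsgLib.Fusion.PPrimeRes CfsgLib.Meet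

variable {Ω : Type*} [Group Ω] {S T R U W : Subgroup Ω} {F : FusionSystem S} {E : FusionSystem T} {p : ℕ}
variable {P Q : Subgroup Ω} [Fact p.Prime]

/-- A saturated system whose automorphisms of order prime to `p` of fully normalized centric radical
subgroups lie in `Y` is contained in `Y`. -/
theorem sub_of_coprime {Z : FusionSystem W} {Y : FusionSystem U} [Finite W] (hW : IsPGroup p W)
    (hZ : Z.IsSaturated p) (hWU : W ≤ U)
    (h : ∀ Q, Z.IsFullyNormalized Q → Z.IsCentric Q → Z.IsRadical p Q →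
      (∀ (P : Subgroup Ω) (f : Ω → Ω), MapFn Z P f → Nat.card Q < Nat.card P → MapFn Y P f) →
      ∀ β ∈ Z.autGroup Q, (orderOf β).Coprime p → MapFn Y Q (ev β)) : Z.IsSubsystemOf Y := by
  intro P
  refine hom_subset_iff_mapFn.mpr fun f hf => ?_
  refine alperin_induction hW hZ (fun P f => MapFn Y P f) (fun _ h e => h.congr e) (fun _ h hR => h.mono hR)
    (fun _ h _ h' hm => h.comp h' hm) (fun {P R f g} _ h hr _ hinv => ?_) (fun Q hn hc hr IH f hf hfQ => ?_) P f hf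
  · obtain ⟨k, hk, -, hk₁, -⟩ := h.exists_inv hr
    refine hk.congr fun y hy => ?_
    obtain ⟨x, hx, rfl⟩ := exists_of_image hr hy
    rw [hk₁ x hx, hinv x hx]
  have hQW := hn.1
  have := finite_mulAut hQW
  obtain ⟨α, hα, hαe⟩ := hf.exists_aut hfQ
  obtain ⟨o, ho, q, hq, rfl⟩ := (sylIn_autS hW hZ hn).exists_opr_mul hα
  have hQU := hQW.trans hWU
  have hK : ∀ {a : MulAut Q}, MapFn Y Q (ev a) → a ∈ Y.autGroup Q := fun h =>
    (mem_autGroup_iff_mapFn hQU).mpr ⟨_, h, ev_val _⟩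
  have hoK : o ∈ Y.autGroup Q := opr_induction _ (fun β hβ hβp => hK (h Q hn hc hr IH β hβ hβp)) ho
  have hqK : q ∈ Y.autGroup Q := autInducedBy_le_autGroup hQU (autInducedBy_mono hWU _ hq)
  exact (mapFn_ev hQU (Subgroup.mul_mem _ hoK hqK)).congr fun x hx => by rw [ev_coe _ hx]; exact hαe ⟨x, hx⟩

/-- Bounding the hyperfocal subgroup by the elements of order prime to `p`. -/
theorem hyperfocal_le_of {N : Subgroup Ω}
    (h : ∀ P ≤ S, ∀ β ∈ F.autGroup P, (orderOf β).Coprime p → ∀ x ∈ P, x⁻¹ * ev β x ∈ N) :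
    F.hyperfocalSubgroup p ≤ N := by
  rw [FusionSystem.hyperfocalSubgroup, Subgroup.closure_le]
  rintro _ ⟨P, α, x, hP, hα, rfl⟩
  let K : Subgroup (F.autGroup P) :=
    { carrier := {β | ∀ x : P, (x : Ω)⁻¹ * ((β : MulAut P) x : P) ∈ N}
      one_mem' := fun x => by simp
      mul_mem' := fun {a b} ha hb x => by
        have h1 := N.mul_mem (hb x) (ha ((b : MulAut P) x))
        simpa [mul_assoc] using h1
      inv_mem' := fun {a} ha x => by
        have h1 := N.inv_mem (ha ((a : MulAut P)⁻¹ x))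
        rw [MulAut.apply_inv_self] at h1
        simpa using h1 }
  refine (CfsgLib.Transfer.pResidual_le_iff.mpr fun β hβ => (show β ∈ K from fun y => ?_)) hα x
  have h1 := h P hP β β.2 (by rwa [Subgroup.orderOf_coe]) y y.2
  rwa [ev_val] at h1

variable [Finite S]

/-- Automorphisms stabilizing `1 ≤ Q ⊓ T ≤ Q` of a fully normalized subgroup are induced by the group. -/
theorem stab_induced (hS : IsPGroup p S) (hF : F.IsSaturated p) (hT : F.StronglyClosed T)
    (hQ : F.IsFullyNormalized Q) {a : MulAut Q} (ha : a ∈ F.autGroup Q) (h1 : ∀ x ∈ Q ⊓ T, ev a x = x)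
    (h2 : ∀ x ∈ Q, x⁻¹ * ev a x ∈ Q ⊓ T) : a ∈ autInducedBy S Q := by
  have hQS := hQ.1
  have := finite_mulAut hQS
  have := finite_of_le hQS
  have hTm : ∀ {γ : MulAut Q}, γ ∈ F.autGroup Q → ∀ x ∈ Q, x ∈ T → ev γ x ∈ T := fun hγ x hx hxT =>
    mapFn_mem hT (mapFn_ev hQS hγ) hx hxT
  let A : Subgroup (MulAut Q) :=
    { carrier := {γ | γ ∈ F.autGroup Q ∧ (∀ x ∈ Q ⊓ T, ev γ x = x) ∧ ∀ x ∈ Q, x⁻¹ * ev γ x ∈ Q ⊓ T}
      one_mem' := ⟨Subgroup.one_mem _, fun x hx => ev_one hx.1, fun x hx => by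
        rw [ev_one hx, inv_mul_cancel]; exact Subgroup.one_mem _⟩
      mul_mem' := fun {a b} ha hb => ⟨Subgroup.mul_mem _ ha.1 hb.1,
        fun x hx => by rw [ev_mul _ _ hx.1, hb.2.1 x hx, ha.2.1 x hx],
        fun x hx => by
          have := (Q ⊓ T).mul_mem (hb.2.2 x hx) (ha.2.2 _ (ev_mem b hx))
          rw [ev_mul _ _ hx]
          simpa [mul_assoc] using this⟩
      inv_mem' := fun {a} ha => ⟨Subgroup.inv_mem _ ha.1,
        fun x hx => by
          conv_lhs => rw [← ha.2.1 x hx]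
          exact ev_inv_ev _ hx.1,
        fun x hx => by
          have := (Q ⊓ T).inv_mem (ha.2.2 _ (ev_mem a⁻¹ hx))
          rw [ev_ev_inv _ hx] at this
          simpa using this⟩ }
  have hAn : ∀ g ∈ F.autGroup Q, ∀ γ ∈ A, g * γ * g⁻¹ ∈ A := by
    rintro g hg γ ⟨hγ, hγ1, hγ2⟩
    refine ⟨Subgroup.mul_mem _ (Subgroup.mul_mem _ hg hγ) (Subgroup.inv_mem _ hg), fun x hx => ?_, fun x hx => ?_⟩
    · rw [ev_mul _ _ hx.1, ev_mul _ _ (ev_mem _ hx.1),
        hγ1 _ ⟨ev_mem _ hx.1, hTm (Subgroup.inv_mem _ hg) x hx.1 hx.2⟩, ev_ev_inv _ hx.1]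
    · rw [ev_mul _ _ hx, ev_mul _ _ (ev_mem _ hx)]
      refine ⟨Q.mul_mem (Q.inv_mem hx) (ev_mem _ (ev_mem _ (ev_mem _ hx))), ?_⟩
      set y := ev g⁻¹ x with hy
      have hyQ : y ∈ Q := ev_mem _ hx
      have h1 := hγ2 y hyQ
      have h2 := hTm hg _ h1.1 h1.2
      rw [(mapFn_ev hQS hg).map_mul (Q.inv_mem hyQ) (ev_mem _ hyQ), (mapFn_ev hQS hg).map_inv hyQ, hy,
        ev_ev_inv _ hx] at h2
      exact h2
  have hAp : IsPGroup p A := by
    rintro ⟨γ, -, hγ1, hγ2⟩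
    obtain ⟨k, hk⟩ := exists_pow_eq_one_of_stabilizes (hS.to_le hQS) (n := 1)
      (fun i => if i = 0 then (Q ⊓ T).subgroupOf Q else ⊤) (α := γ) (fun i hi => by
        obtain rfl : i = 0 := by omega
        simp) rfl ⟨0, fun x hx => by
        rw [if_pos rfl, Subgroup.mem_subgroupOf] at hx
        rw [pow_zero, pow_one]
        exact Subtype.ext ((ev_val _ x).symm.trans (hγ1 x hx))⟩ fun i hi x _ => by
        obtain rfl : i = 0 := by omega
        rw [if_pos rfl, Subgroup.mem_subgroupOf, Subgroup.coe_mul, Subgroup.coe_inv, ← ev_val]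
        exact hγ2 x x.2
    exact ⟨k, Subtype.ext hk⟩
  have hsyl := sylIn_autS hS hF hQ
  obtain ⟨b, hb, hbA⟩ := hsyl.exists_conj hAp fun γ hγ => hγ.1
  have h := hbA _ (hAn b⁻¹ (Subgroup.inv_mem _ hb) a ⟨ha, h1, h2⟩)
  simpa [mul_assoc] using h

/-- The whole group of a strongly closed subgroup is fully centralized. -/
theorem fullyCentralized_sc (hT : F.StronglyClosed T) : F.IsFullyCentralized T := by
  refine ⟨hT.1, fun V hV => ?_⟩
  obtain ⟨φ, hφ, rfl⟩ := hV
  rw [range_eq_of_card_le hφ hT.1 (fun x => StronglyClosed.apply_mem hT hφ x x.2) le_rfl]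

variable (hS : IsPGroup p S) (hE : E.IsNormalIn F p)

include hS hE in
/-- The residual of `E` is normal in `F`, with the same hyperfocal subgroup. -/
theorem exists_normal_residual : ∃ E₁ : FusionSystem (E.hyperfocalSubgroup p), E.IsPResidual p E₁ ∧
    E₁.IsNormalIn F p ∧ E₁.hyperfocalSubgroup p = E.hyperfocalSubgroup p := by
  have hex := CfsgLib.EBalance.exists_residual hS hE
  have hTS : T ≤ S := hE.1.2.2.2.1.1
  have := finite_of_le hTS
  have hTp := hS.to_le hTS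
  set N := E.hyperfocalSubgroup p with hNdef
  obtain ⟨E₁, hE₁, hw⟩ := hex
  have hNT : N ≤ T := hyperfocal_le E p
  have hNn : (N.subgroupOf T).Normal :=
    ⟨fun x hx g => Subgroup.mem_subgroupOf.mpr (hyperfocal_conj_mem g.2 hx)⟩
  refine ⟨E₁, hE₁, ⟨hw, fun α hα => ?_⟩,
    CfsgLib.EBalance.hyperfocal_pIndex hTp hE.1.1 hNT hNn hE₁.1 hE₁.2⟩
  have hsc := hw.2.2.2.1
  have hNS := hsc.1
  have := finite_of_le hNS
  have := finite_mulAut hNS
  rw [← mem_extSub hsc]
  have hfNN := finite_of_le (normalizerIn_le.trans hNS : normalizerIn N N ≤ S)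
  have hnN : E₁.IsFullyNormalized N := ⟨le_rfl, fun V hV => Subgroup.card_le_of_le
    (normalizerIn_le.trans (le_normalizerIn le_rfl))⟩
  obtain ⟨o, ho, q, hq, rfl⟩ := (sylIn_autS (hS.to_le hNS) hw.1 hnN).exists_opr_mul hα
  have hU : N ⊔ centralizerIn S N ≤ S := sup_le hNS centralizerIn_le
  refine Subgroup.mul_mem _ (opr_induction _ (fun a ha hap => (mem_extSub hsc).mpr ?_) ho)
    ((mem_extSub hsc).mpr ?_)
  swap
  · obtain ⟨g, hg, hge⟩ := mem_autInducedBy.mp hq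
    obtain ⟨c, hc, hce⟩ := exists_autInducedBy (P := N ⊔ centralizerIn S N) (hNS hg)
      (Subgroup.le_normalizer (Subgroup.mem_sup_left hg))
    refine ⟨c, autInducedBy_le_autGroup hU hc, fun x => (hce _).trans (hge x).symm, fun y hy => ?_⟩
    rw [hce, (mem_centralizerIn.mp hy).2 g hg]
    simp [Subgroup.one_mem]
  -- through the system generated by `E`
  set D := dSys F E p
  have hDs : D.IsSaturated p := dSys_saturated hS hE
  have hscD : D.StronglyClosed N := ⟨hNS, fun P hP φ hφ => hsc.2 P hP φ (dSys_isSubsystemOf P hφ)⟩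
  have haD : MapFn D N (ev a) := mapFn_of_sub (sub_dSys hS hE.1) (mapFn_of_sub hE₁.2.1 (mapFn_ev le_rfl ha))
  obtain ⟨g, hg, hge⟩ := haD.extend_centralizer hS hDs (fullyCentralized_sc hscD) (ev_image a)
  have hgN : g '' N = (N : Set Ω) := (Set.image_congr hge).trans (ev_image a)
  have hgU : g '' (N ⊔ centralizerIn S N : Subgroup Ω) = ((N ⊔ centralizerIn S N : Subgroup Ω) : Set Ω) :=
    hg.image_eq_of_maps hU (hg.maps_sup (fun x hx => Subgroup.mem_sup_left (mem_of_image hgN hx))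
      fun x hx => Subgroup.mem_sup_right
        (hg.mem_centralizerIn le_sup_left hgN (Subgroup.mem_sup_right hx) hx)) le_rfl
  obtain ⟨β₀, hβ₀, hβ₀e⟩ := hg.exists_aut hgU
  obtain ⟨β, hβ, hβp, hβe⟩ := exists_coprime_lift hU le_sup_left hβ₀ (γ := a) (fun x hx => by
    rw [ev_coe β₀ (Subgroup.mem_sup_left hx), hβ₀e]; exact hge x hx) hap
  have hβm := mapFn_ev hU hβ
  refine ⟨β, (mem_autGroup_iff_mapFn hU).mpr ⟨_, dSys_sub hβm, ev_val β⟩, fun x => ?_, fun c hc => ?_⟩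
  · exact (ev_val β _).symm.trans ((hβe x x.2).trans (ev_val a x))
  have hcU := c.2
  rw [← ev_val]
  refine ⟨(disp_of_coprime hS hE.1.2.2 hU hβ hβp).2 c hcU, ?_⟩
  have hC := (centralizerIn S N).mul_mem ((centralizerIn S N).inv_mem hc)
    (hβm.mem_centralizerIn le_sup_left ((Set.image_congr hβe).trans (ev_image a)) hcU hc)
  exact hC.2

include hS in
/-- Properties of the generated system of `E₁`. -/
theorem dSys_props {N : Subgroup Ω} {E₁ : FusionSystem N} (hN : E₁.IsNormalIn F p)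
    (hh : E₁.hyperfocalSubgroup p = N) :
    (dSys F E₁ p).hyperfocalSubgroup p = N ∧ E₁.IsSubsystemOf (dSys F E₁ p) ∧
      ∀ (W : Subgroup Ω) (Z : FusionSystem W), W ≤ N → Z.IsSaturated p →
        Z.IsSubsystemOf (dSys F E₁ p) → Z.IsSubsystemOf E₁ := by
  have hsub := sub_dSys hS hN.1
  refine ⟨le_antisymm (hyperfocal_le_of fun P hP β hβ hβp x hx => ?_) (hh.ge.trans (hyperfocal_mono hsub)),
    hsub, fun W Z hW hZ hZD => ?_⟩
  · exact hh.le ((disp_of_coprime hS hN.1.2.2 hP hβ hβp).2 x hx)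
  have hNS := hN.1.2.2.2.1.1
  have := finite_of_le (hW.trans hNS)
  refine sub_of_coprime (hS.to_le (hW.trans hNS)) hZ hW fun Q hn _ _ _ β hβ hβp => ?_
  have hQS := (hn.1.trans hW).trans hNS
  have hβD : β ∈ (dSys F E₁ p).autGroup Q :=
    (mem_autGroup_iff_mapFn hQS).mpr ⟨_, mapFn_of_sub hZD (mapFn_ev hn.1 hβ), ev_val β⟩
  have h := ((disp_of_coprime hS hN.1.2.2 hQS hβD hβp).1).onT
  rwa [inf_eq_left.mpr (hn.1.trans hW)] at h

variable {N : Subgroup Ω} {E₁ : FusionSystem N} {D D' : FusionSystem R}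

include hS in
/-- A system with residual `E₁` lies in the generated system. -/
theorem sub_dSys_of_residual (hN : E₁.IsNormalIn F p) (hRS : R ≤ S) (hNR : N ≤ R) (hD' : D'.IsSaturated p)
    (hD'F : D'.IsSubsystemOf F) (hh : D'.hyperfocalSubgroup p ≤ N) (hsub : E₁.IsSubsystemOf D')
    (hres : ∀ P ≤ N, ∀ β ∈ D'.autGroup P, (orderOf β).Coprime p → MapFn E₁ P (ev β)) :
    D'.IsSubsystemOf (dSys F E₁ p) := by
  have hTsc := hN.1.2.2.2.1
  have := finite_of_le hRS
  have hRp := hS.to_le hRS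
  refine sub_of_coprime hRp hD' hRS fun Q hn hc hr _ β hβ hβp => ?_
  have hQR := hn.1
  have hQS := hQR.trans hRS
  have hβF := mapFn_of_sub hD'F (mapFn_ev hQR hβ)
  have hscD : D'.StronglyClosed N := ⟨hNR, fun P hP φ hφ => hTsc.2 P hP φ (hD'F P hφ)⟩
  have hc' := tcentric_inf_of_radical hRp hD' hscD hc hr
  have hcE : E₁.IsCentric (Q ⊓ N) := ⟨inf_le_right, fun V hV => hc'.2 V (by
    obtain ⟨χ, hχ, hχV⟩ := isConj_iff.mp hV
    exact (mapFn_of_sub hsub hχ).isConj hχV)⟩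
  refine (GenMap.mapFn (E := E₁) ⟨tcentric_of_centric hN.1.2.2 hcE, ⟨hβF, ev_image β, fun x hx => ?_, ?_⟩,
    β, hβp, ev_val β⟩ : _)
  · have h1 := mem_hyperfocal hQR (CfsgLib.Transfer.mem_pResidual (g := (⟨β, hβ⟩ : D'.autGroup Q))
      (by rwa [← Subgroup.orderOf_coe])) ⟨x, hx⟩
    rw [ev_coe β hx]
    exact hh h1
  · obtain ⟨γ, hγ, hγe, hγd⟩ := exists_restrict_aut (F := D') hQR (inf_le_left : Q ⊓ N ≤ Q) hβ fun x hx =>
      ⟨ev_mem β hx.1, mapFn_mem hscD (mapFn_ev hQR hβ) hx.1 hx.2⟩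
    exact (hres _ inf_le_right γ hγ (hβp.coprime_dvd_left hγd)).congr fun x hx => (hγe x hx).symm

include hS in
/-- A system with residual `E₁` contains every system in the generated one over the same group. -/
theorem sub_of_dSys (hN : E₁.IsNormalIn F p) (hh : E₁.hyperfocalSubgroup p = N) (hRS : R ≤ S) (hNR : N ≤ R)
    (hD : D.IsSaturated p) (hDS : D.IsSubsystemOf (dSys F E₁ p)) (hD' : D'.IsSaturated p)
    (hD'D : D'.IsSubsystemOf D) (hsub : E₁.IsSubsystemOf D') : D.IsSubsystemOf D' := by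
  have hTsc := hN.1.2.2.2.1
  have := finite_of_le hRS
  have hRp := hS.to_le hRS
  have hDF : ∀ {P : Subgroup Ω} {f : Ω → Ω}, MapFn D P f → MapFn F P f := fun h =>
    dSys_sub (mapFn_of_sub hDS h)
  have hscD : D.StronglyClosed N := ⟨hNR, fun P hP φ hφ => hTsc.2 P hP φ (dSys_isSubsystemOf P (hDS P hφ))⟩
  have hdisp : ∀ {Q : Subgroup Ω} {β : MulAut Q}, Q ≤ R → β ∈ D.autGroup Q → (orderOf β).Coprime p →
      (∀ x ∈ Q, x⁻¹ * ev β x ∈ N) ∧ MapFn E₁ (Q ⊓ N) (ev β) := fun {Q β} hQ hβ hβp => by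
    have h := disp_of_coprime hS hN.1.2.2 (hQ.trans hRS)
      ((mem_autGroup_iff_mapFn (hQ.trans hRS)).mpr ⟨_, mapFn_of_sub hDS (mapFn_ev hQ hβ), ev_val β⟩) hβp
    exact ⟨fun x hx => hh.le (h.2 x hx), h.1.onT⟩
  -- the case of a fully centralized intersection
  have key : ∀ (Q : Subgroup Ω), D.IsFullyNormalized Q → TCentric D N (Q ⊓ N) →
      D.IsFullyCentralized (Q ⊓ N) → ∀ β ∈ D.autGroup Q, (orderOf β).Coprime p → MapFn D' Q (ev β) := by
    intro Q hn hc hfc β hβ hβp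
    have hQR := hn.1
    set V := Q ⊓ N with hV
    have hVQ : V ≤ Q := inf_le_left
    have hVR := hVQ.trans hQR
    have hfc' : D'.IsFullyCentralized V := ⟨hVR, fun P hP => hfc.2 P (by
      obtain ⟨χ, hχ, hχP⟩ := isConj_iff.mp hP
      exact (mapFn_of_sub hD'D hχ).isConj hχP)⟩
    obtain ⟨hβd, hβE⟩ := hdisp hQR hβ hβp
    have hβm := mapFn_ev hQR hβ
    have hβV : ∀ x ∈ V, ev β x ∈ V := fun x hx => ⟨ev_mem β hx.1, mapFn_mem hscD hβm hx.1 hx.2⟩
    have hβD' : MapFn D' V (ev β) := mapFn_of_sub hsub hβE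
    have hQN : Q ≤ normalizerIn R V := le_normalizer_inter hscD hQR
    set M := Q ⊔ centralizerIn R V with hM
    have hMR : M ≤ R := sup_le hQR centralizerIn_le
    have hVim : ev β '' V = (V : Set Ω) := (hβm.mono hVQ).image_eq_of_maps hVR hβV le_rfl
    obtain ⟨G, hG, hGe⟩ := exists_extension_sup (receptive_of_fullyCentralized hRp hD' hfc') hβD' hVim
      (sup_le hQN centralizerIn_le_normalizerIn : M ≤ normalizerIn R V) fun g hg => by
        have hle : M ≤ extender R V (hβm.mono hVQ).choose := by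
          obtain ⟨hφ, hφe⟩ := (hβm.mono hVQ).choose_spec
          refine sup_le (fun q hq => mem_extender.mpr ⟨hQR hq, (hQN hq).2, ev β q, hQR (ev_mem β hq),
            fun x hx => ?_⟩) centralizerIn_le_extender
          rw [hφe, hφe]
          exact hβm.map_conj hq (hVQ x.2)
        obtain ⟨hφ, hφe⟩ := (hβm.mono hVQ).choose_spec
        obtain ⟨-, hgN, s, hs, hse⟩ := mem_extender.mp (hle hg)
        refine ⟨s, hs, fun x hx => ?_⟩
        have h1 := hse ⟨x, hx⟩ (conj_mem_of_normalizer hgN hx)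
        rwa [hφe, hφe] at h1
    rw [sup_eq_right.mpr (hVQ.trans le_sup_left)] at hG
    have hGV : G '' V = (V : Set Ω) := (Set.image_congr hGe).trans hVim
    have hVM : V ≤ M := hVQ.trans le_sup_left
    have hC : ∀ (k : Ω → Ω), MapFn D' M k → (∀ x ∈ V, k x = ev β x) → ∀ q ∈ Q,
        (ev β q)⁻¹ * k q ∈ centralizerIn R V := fun k hk hke q hq => by
      have hqM : q ∈ M := Subgroup.mem_sup_left hq
      refine mem_centralizerIn.mpr ⟨R.mul_mem (R.inv_mem (hQR (ev_mem β hq))) (hk.mem_S hqM), fun y hy => ?_⟩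
      obtain ⟨x, hx, rfl⟩ := exists_of_image hVim hy
      have hcx : q * x * q⁻¹ ∈ V := conj_mem_of_normalizer (hQN hq).2 hx
      have h1 : ev β q * ev β x * (ev β q)⁻¹ = k q * ev β x * (k q)⁻¹ := by
        rw [← hβm.map_conj hq (hVQ hx), ← hke _ hcx, hk.map_conj hqM (hVM hx), hke x hx]
      calc ev β x * ((ev β q)⁻¹ * k q) = (ev β q)⁻¹ * (ev β q * ev β x * (ev β q)⁻¹) * k q := by group
        _ = (ev β q)⁻¹ * k q * ev β x := by rw [h1]; group
    have hGM : G '' M = (M : Set Ω) := hG.image_eq_of_maps hMR (hG.maps_sup (fun q hq => by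
        have h1 := M.mul_mem (Subgroup.mem_sup_left (ev_mem β hq)) (Subgroup.mem_sup_right (hC G hG hGe q hq))
        rwa [mul_inv_cancel_left] at h1)
      fun c hc => Subgroup.mem_sup_right (hG.mem_centralizerIn hVM hGV (Subgroup.mem_sup_right hc) hc)) le_rfl
    obtain ⟨δ₀, hδ₀, hδ₀e⟩ := hG.exists_aut hGM
    obtain ⟨n, hn', hne, hnd⟩ := exists_restrict_aut (F := D) hQR hVQ hβ hβV
    obtain ⟨δ, hδ, hδp, hδe⟩ := exists_coprime_lift hMR hVM hδ₀ (γ := n) (fun x hx => by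
      rw [ev_coe δ₀ (hVM hx), hδ₀e, ← hne x hx]; exact hGe x hx) (hβp.coprime_dvd_left hnd)
    have hδm := mapFn_ev hMR hδ
    have hδD : δ ∈ D.autGroup M :=
      (mem_autGroup_iff_mapFn hMR).mpr ⟨_, mapFn_of_sub hD'D hδm, ev_val δ⟩
    obtain ⟨hδd, -⟩ := hdisp hMR hδD hδp
    have hδQ : ∀ q ∈ Q, ev δ q ∈ Q := fun q hq => by
      have hu : (ev β q)⁻¹ * ev δ q ∈ centralizerIn N V := ⟨by
        have h1 := N.mul_mem (N.inv_mem (hβd q hq)) (hδd q (Subgroup.mem_sup_left hq))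
        simpa [mul_assoc] using h1, (hC _ hδm (fun x hx => by rw [hδe x hx, ← hne x hx]) q hq).2⟩
      have h2 := Q.mul_mem (ev_mem β hq) (hVQ (TCentric.centralizer_le hNR hc hu))
      rwa [mul_inv_cancel_left] at h2
    obtain ⟨γ, hγ, hγe, -⟩ := exists_restrict_aut (F := D') hMR le_sup_left hδ hδQ
    have hγD : γ ∈ D.autGroup Q :=
      (mem_autGroup_iff_mapFn hQR).mpr ⟨_, mapFn_of_sub hD'D (mapFn_ev hQR hγ), ev_val γ⟩
    have ha : γ⁻¹ * β ∈ autInducedBy R Q := by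
      refine stab_induced hRp hD hscD hn (Subgroup.mul_mem _ (Subgroup.inv_mem _ hγD) hβ) (fun x hx => ?_)
        fun x hx => ?_
      · rw [ev_mul _ _ hx.1]
        have h1 : ev β x = ev γ x := by rw [← hγe x hx.1, hδe x hx, hne x hx]
        rw [h1, ev_inv_ev γ hx.1]
      · rw [ev_mul _ _ hx]
        have hw := ev_mem β hx
        set y := ev γ⁻¹ (ev β x) with hy
        have hyQ : y ∈ Q := ev_mem _ hw
        refine ⟨Q.mul_mem (Q.inv_mem hx) hyQ, ?_⟩
        have h1 := hδd y (Subgroup.mem_sup_left hyQ)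
        rw [hγe y hyQ, hy, ev_ev_inv γ hw, ← hy] at h1
        have h2 := N.mul_mem (hβd x hx) (N.inv_mem h1)
        simpa [mul_assoc] using h2
    have h3 := Subgroup.mul_mem _ hγ (autInducedBy_le_autGroup (F := D') hQR ha)
    rw [mul_inv_cancel_left] at h3
    exact mapFn_ev hQR h3
  refine sub_of_coprime hRp hD le_rfl fun Q hn hc hr IH β hβ hβp => ?_
  have hQR := hn.1
  have hc' := tcentric_inf_of_radical hRp hD hscD hc hr
  have hV : Q ⊓ N ≤ R := inf_le_left.trans hQR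
  by_cases hQ : Q = R
  · refine key Q hn hc' ?_ β hβ hβp
    rw [hQ, inf_eq_right.mpr hNR]
    exact fullyCentralized_sc hscD
  obtain ⟨V₀, h, hV₀, hh, hhV, hhN⟩ := exists_fullyNormalized_mapFn hRp hD hV
  have hQN : Q ≤ normalizerIn R (Q ⊓ N) := le_normalizer_inter hscD hQR
  have hNQ : normalizerIn R Q ≤ normalizerIn R (Q ⊓ N) := fun g hg => ⟨hg.1, by
    have := finite_of_le hV
    exact mem_normalizer_of_forall fun x hx =>
      ⟨conj_mem_of_normalizer hg.2 hx.1, conj_mem_T hscD hg.1 hx.2⟩⟩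
  have hlt : Nat.card Q < Nat.card (normalizerIn R (Q ⊓ N)) :=
    FusionNormal.card_lt_card (normalizerIn_le : normalizerIn R (Q ⊓ N) ≤ R)
      ((lt_normalizerIn' hRp hQR hQ).trans_le hNQ)
  have hh' : MapFn D' (normalizerIn R (Q ⊓ N)) h := IH _ h hh hlt
  obtain ⟨Q₀, -, hQ₀⟩ := (hh.mono hQN).exists_image
  have hint := image_inter hscD hh hQN hQ₀
  rw [hhV] at hint
  obtain rfl : V₀ = Q₀ ⊓ N := SetLike.coe_injective hint
  have hQ₀n : D.IsFullyNormalized Q₀ := by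
    refine ⟨fun y hy => ?_, fun V hV' => ?_⟩
    · obtain ⟨x, hx, rfl⟩ := exists_of_image hQ₀ hy
      exact hh.mem_S (hQN hx)
    refine (hn.2 V (isConj_trans ((hh.mono hQN).isConj hQ₀) hV')).trans ?_
    obtain ⟨φ, hφ, hφe⟩ := hh.mono hNQ
    refine card_le_of_map hφ normalizerIn_le fun g => ?_
    rw [hφe]
    exact CfsgLib.Fusion.SatCrit.maps_normalizer (le_normalizerIn hQR) (hh.mono hNQ) hQ₀ le_rfl g g.2
  have hVN : Q ⊓ N ≤ normalizerIn R (Q ⊓ N) := inf_le_left.trans hQN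
  obtain ⟨Φ, hΦ⟩ := exists_congr (hh.mono hQN) hQ₀
  have h1 := key Q₀ hQ₀n (tcentric_map hc' hscD (hh.mono hVN) hhV)
    (isFullyCentralized_of_fullyNormalized hRp hD hV₀) (Φ β) (congr_autF (hh.mono hQN) hQ₀ hΦ hβ)
    (by rwa [Φ.orderOf_eq])
  obtain ⟨k, hk, hkr, hk₁, -⟩ := (hh'.mono hQN).exists_inv hQ₀
  have h2 := ((hh'.mono hQN).comp h1 fun x hx => mem_of_image hQ₀ hx).comp hk
    fun x hx => ev_mem _ (mem_of_image hQ₀ hx)
  refine h2.congr fun x hx => ?_
  show k (ev (Φ β) (h x)) = _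
  rw [hΦ β x hx, hk₁ _ (ev_mem β hx)]

include hS hE in
/-- Existence and uniqueness of the system over `R`. -/
theorem hasRE : CfsgLib.EBalance.HasRE F E p := by
  intro R hTR hRS
  obtain ⟨E₁, hE₁, hN, hh⟩ := exists_normal_residual hS hE
  have hNR : E.hyperfocalSubgroup p ≤ R := (hyperfocal_le E p).trans hTR
  have := finite_of_le hRS
  have hDs : (dSys F E₁ p).IsSaturated p := dSys_saturated hS hN
  obtain ⟨hhD, hsub, hW⟩ := dSys_props hS hN hh
  obtain ⟨D, hD, hDi⟩ := exists_pIndex hS hDs hRS (hhD.le.trans hNR)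
  have hNS := hN.1.2.2.2.1.1
  have := finite_of_le hNS
  have hsubD : E₁.IsSubsystemOf D := ResLimit.sub_of_pIndex (hS.to_le hNS) hN.1.1 hsub hDi hNR
  refine ⟨D, CfsgLib.EBalance.isRE_of hS hE hRS hD (fun P => (hDi.1 P).trans (dSys_isSubsystemOf P))
    (le_antisymm ((hyperfocal_mono hDi.1).trans hhD.le) (hh.ge.trans (hyperfocal_mono hsubD))) hE₁ hsubD
    fun W Z h1 h2 h3 => hW W Z h1 h2 fun P => (h3 P).trans (hDi.1 P), fun D' hD' => ?_⟩
  have := finite_of_le hRS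
  obtain ⟨D₁, h1, h2⟩ := exists_pIndex (hS.to_le hRS) hD'.1 (hyperfocal_le D' p) le_rfl
  have hsub' := hD'.residual_sub hS hRS hE₁
  have hres : ∀ P ≤ E.hyperfocalSubgroup p, ∀ β ∈ D'.autGroup P, (orderOf β).Coprime p →
      MapFn E₁ P (ev β) := fun P hP β hβ hβp => by
    have hP' : P ≤ D'.hyperfocalSubgroup p := hD'.2.2.1.symm ▸ hP
    have h3 := mem_autGroup_of_residual h2 hP' (a := ⟨β, hβ⟩)
      (CfsgLib.Transfer.mem_pResidual (by rwa [← Subgroup.orderOf_coe]))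
    exact hom_subset_iff_mapFn.mp (hD'.2.2.2 D₁ E₁ ⟨h1, h2⟩ hE₁ P).le _ (mapFn_ev hP' h3)
  have hS' := sub_dSys_of_residual hS hN hRS hNR hD'.1 hD'.2.1 hD'.2.2.1.le hsub' hres
  have hD'D : D'.IsSubsystemOf D := ResLimit.sub_of_pIndex (hS.to_le hRS) hD'.1 hS' hDi le_rfl
  exact fun P => Set.Subset.antisymm (hD'D P)
    (sub_of_dSys hS hN hh hRS hNR hD hDi.1 hD'.1 hD'D hsub' P)

end CfsgLib.RE
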