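import Cfsg.Agent.Lib.Fusion.RE.Local
import Cfsg.Agent.Lib.Fusion.RE.GenAuto

/-!
# The product of a normal subsystem with the whole `p`-group, V: moving inside the generated system

Call `U ≤ T` maximal when its normalizer in `T` is as large as possible among its conjugates in `F`. In the
generated system every subgroup of `T` is carried, by a map on its normalizer in `S`, to a maximal one, and
every `X` with `X ⊓ T` centric in `T` has a conjugate with the local Sylow condition.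
-/

set_option autoImplicit false
set_option linter.unusedSectionVars false

namespace CfsgLib.RE

open Cfsg Cfsg.FusionSystem CfsgLib.Fusion CfsgLib.FusionNormal CfsgLib.Fusion.PPrimeRes CfsgLib.Meet

variable {Ω : Type*} [Group Ω] {S T : Subgroup Ω} {F : FusionSystem S} {E : FusionSystem T} {p : ℕ}
variable {P Q X U R K : Subgroup Ω} {θ : Ω → Ω}

/-- The normalizer in `T` is as large as possible in the class. -/
def Max (F : FusionSystem S) (T U : Subgroup Ω) : Prop :=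
  U ≤ T ∧ ∀ V, F.IsConj U V → Nat.card (normalizerIn T V) ≤ Nat.card (normalizerIn T U)

/-- The automorphisms in `E` and the conjugations by `S`. -/
def kAut (E : FusionSystem T) (S R : Subgroup Ω) : Subgroup (MulAut R) := E.autGroup R ⊔ autInducedBy S R

variable [Finite S]

/-- Images of intersections with `T`. -/
theorem image_inter (hT : F.StronglyClosed T) (hθ : MapFn F K θ) (hQK : Q ≤ K) (hX : θ '' Q = (X : Set Ω)) :
    θ '' (Q ⊓ T : Subgroup Ω) = ((X ⊓ T : Subgroup Ω) : Set Ω) := by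
  ext y
  constructor
  · rintro ⟨x, hx, rfl⟩; exact ⟨mem_of_image hX hx.1, mapFn_mem hT hθ (hQK hx.1) hx.2⟩
  · intro hy
    obtain ⟨x, hx, rfl⟩ := exists_of_image hX hy.1
    exact ⟨x, ⟨hx, (mapFn_mem_iff hT hθ (hQK hx)).mp hy.2⟩, rfl⟩

theorem normalizerIn_mono_T (hT : F.StronglyClosed T) : normalizerIn T U ≤ normalizerIn S U :=
  inf_le_inf_right _ hT.1

/-- A conjugation by `N_T(Q)` lies in `cen`. -/
theorem mem_cen_of_normalizer (hT : F.StronglyClosed T) (hQS : Q ≤ S) (hQT : Q ⊓ T = U) {t : Ω}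
    (ht : t ∈ normalizerIn T Q) {c : MulAut U} (hce : ∀ x ∈ U, ev c x = t * x * t⁻¹) : c ∈ cen U Q := by
  intro d hd
  obtain ⟨q, hq, hqU, hde⟩ := exists_induced_ev hd
  have hu : t * q * t⁻¹ * q⁻¹ ∈ U := hQT.le ⟨Q.mul_mem (conj_mem_of_normalizer ht.2 hq) (Q.inv_mem hq), by
    simpa [mul_assoc] using T.mul_mem ht.1 (conj_mem_T hT (hQS hq) (T.inv_mem ht.1))⟩
  refine mem_induced_of_ev hu fun v hv => ?_
  have hci : ∀ {a : MulAut U} {g : Ω}, (∀ x ∈ U, ev a x = g * x * g⁻¹) → ∀ x ∈ U, ev a⁻¹ x = g⁻¹ * x * g := by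
    intro a g h x hx
    have h1 := h _ (ev_mem a⁻¹ hx)
    rw [ev_ev_inv a hx] at h1
    calc ev a⁻¹ x = g⁻¹ * (g * ev a⁻¹ x * g⁻¹) * g := by group
      _ = _ := by rw [← h1]
  rw [ev_mul _ _ hv, ev_mul _ _ (ev_mem _ hv), ev_mul _ _ (ev_mem _ (ev_mem _ hv)),
    hce _ (ev_mem _ (ev_mem _ (ev_mem _ hv))), hde _ (ev_mem _ (ev_mem _ hv)), hci hce _ (ev_mem _ hv),
    hci hde v hv]
  group

variable [Fact p.Prime]

theorem exists_norm_map (hS : IsPGroup p S) (hF : F.IsSaturated p) (hT : F.StronglyClosed T) (hX : X ≤ S) :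
    ∃ (X₀ : Subgroup Ω) (φ : Ω → Ω), MapFn F (normalizerIn S X) φ ∧ φ '' X = (X₀ : Set Ω) ∧
      F.IsFullyNormalized X₀ ∧ F.IsFullyNormalized (X₀ ⊓ T) ∧
      (∀ g ∈ normalizerIn S X, φ g ∈ normalizerIn S X₀) := by
  obtain ⟨X', h, hn', hh, hhX, hhN⟩ := exists_fullyNormalized_mapFn hS hF hX
  have hX'S := hn'.1
  obtain ⟨U₁, f, hU₁, hf, hfU, hfN⟩ :=
    exists_fullyNormalized_mapFn hS hF (inf_le_left.trans hX'S : X' ⊓ T ≤ S)
  have hN : normalizerIn S X' ≤ normalizerIn S (X' ⊓ T) := fun g hg => ⟨hg.1, by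
    have := finite_of_le (inf_le_left.trans hX'S : X' ⊓ T ≤ S)
    exact mem_normalizer_of_forall fun x hx =>
      ⟨conj_mem_of_normalizer hg.2 hx.1, conj_mem_T hT hg.1 hx.2⟩⟩
  have hX'N : X' ≤ normalizerIn S X' := le_normalizerIn hX'S
  have hfm := hf.mono hN
  obtain ⟨X₀, hX₀S, hX₀⟩ := (hfm.mono hX'N).exists_image
  have hfm' := CfsgLib.Fusion.SatCrit.maps_normalizer hX'N hfm hX₀ le_rfl
  refine ⟨X₀, f ∘ h, hh.comp hfm hhN, image_comp hhX hX₀, ⟨hX₀S, fun V hV => ?_⟩, ?_, fun g hg => hfm' _ (hhN g hg)⟩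
  · obtain ⟨ψ, hψ, hψe⟩ := hfm
    refine (hn'.2 V (isConj_trans (((hf.mono hN).mono hX'N).isConj hX₀) hV)).trans ?_
    exact card_le_of_map hψ normalizerIn_le fun x => by rw [hψe]; exact hfm' x x.2
  · have := image_inter hT hfm hX'N hX₀
    rw [hfU] at this
    rwa [← SetLike.coe_injective this]

variable (hS : IsPGroup p S) (hE : E.IsNormalIn F p)

include hS hE in
theorem max_of_fn (hUT : U ≤ T) (hU : F.IsFullyNormalized U) : Max F T U := by
  have hTsc := hE.1.2.2.2.1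
  refine ⟨hUT, fun V hV => ?_⟩
  obtain ⟨f, hf, hfV, hfN⟩ := exists_normalizer_mapFn hS hE.1.2.1 hU (isConj_symm hV)
  have hle : normalizerIn T V ≤ normalizerIn S V := normalizerIn_mono_T hTsc
  obtain ⟨φ, hφ, hφe⟩ := hf.mono hle
  refine card_le_of_map hφ (normalizerIn_le.trans hTsc.1) fun t => ?_
  rw [hφe]
  exact ⟨mapFn_mem hTsc hf (hle t.2) t.2.1, (hfN _ (hle t.2)).2⟩

include hS hE in
/-- A maximal subgroup that is not centric in `T` does not contain its centralizer. -/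
theorem cen_not_le (hU : Max F T U) (hc : ¬ TCentric F T U) : ¬ centralizerIn T U ≤ U := by
  intro hle
  have hTsc := hE.1.2.2.2.1
  have hF := hE.1.2.1
  refine hc ⟨hU.1, fun V hV c hc => ?_⟩
  have hUS := hU.1.trans hTsc.1
  obtain ⟨U₀, ψ, hU₀, hψ, hψU, hψN⟩ := exists_fullyNormalized_mapFn hS hF hUS
  obtain ⟨f, hf, hfV, hfN⟩ := exists_normalizer_mapFn hS hF hU₀
    (isConj_trans (isConj_symm hV) ((hψ.mono (le_normalizerIn hUS)).isConj hψU))
  have hUN := le_normalizerIn (S := S) hUS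
  obtain ⟨J, -, hJ⟩ := (hψ.mono (normalizerIn_mono_T (U := U) hTsc)).exists_image
  have := finite_of_le (normalizerIn_le.trans hTsc.1 : normalizerIn T U₀ ≤ S)
  have hJeq : J = normalizerIn T U₀ := by
    refine eq_of_le_of_card_le (fun y hy => ?_) ?_
    · obtain ⟨x, hx, rfl⟩ := exists_of_image hJ hy
      exact ⟨mapFn_mem hTsc hψ (normalizerIn_mono_T hTsc hx) hx.1, (hψN _ (normalizerIn_mono_T hTsc hx)).2⟩
    · rw [(hψ.mono (normalizerIn_mono_T (U := U) hTsc)).card_image hJ]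
      exact hU.2 U₀ ((hψ.mono hUN).isConj hψU)
  have hVS := IsConj.le_right hV
  have hVN := le_normalizerIn (S := S) hVS
  have hcN : c ∈ normalizerIn S V := centralizerIn_le_normalizerIn ⟨hTsc.1 hc.1, hc.2⟩
  obtain ⟨hfcS, hfcC⟩ := mem_centralizerIn.mp
    (hf.mem_centralizerIn hVN hfV hcN ⟨hTsc.1 hc.1, hc.2⟩)
  obtain ⟨d, hd, hde⟩ := exists_of_image hJ
    (hJeq.ge ⟨mapFn_mem hTsc hf hcN hc.1, (hfN c hcN).2⟩)
  have hdU : d ∈ U := hle (mem_centralizerIn.mpr ⟨hd.1, fun u hu => by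
    have hu' : u ∈ normalizerIn S U := hUN hu
    have hd' := normalizerIn_mono_T hTsc hd
    refine hψ.injOn (Subgroup.mul_mem _ hu' hd') (Subgroup.mul_mem _ hd' hu') ?_
    rw [hψ.map_mul hu' hd', hψ.map_mul hd' hu', hde]
    exact hfcC _ (mem_of_image hψU hu)⟩)
  have h1 := mem_of_image hψU hdU
  rw [hde] at h1
  obtain ⟨v, hv, hve⟩ := exists_of_image hfV h1
  rw [← hf.injOn (hVN hv) hcN hve]
  exact hv

include hS hE in
theorem sylIn_autT (hR : Max F T R) : SylIn p (autInducedBy T R) (E.autGroup R) := by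
  have := finite_of_le hE.1.2.2.2.1.1
  refine sylIn_autS (hS.to_le hE.1.2.2.2.1.1) hE.1.1 ⟨hR.1, fun V hV => hR.2 V ?_⟩
  obtain ⟨χ, hχ, hχV⟩ := isConj_iff.mp hV
  exact (mapFn_of_sub hE.1.2.2.1 hχ).isConj hχV

include hE in
theorem autS_conj_autE (hRT : R ≤ T) {a b : MulAut R} (ha : a ∈ kAut E S R) (hb : b ∈ E.autGroup R) :
    a * b * a⁻¹ ∈ E.autGroup R :=
  autGroup_conj hE.1.2.2 hRT hb ((sup_le (autGroup_sub hE.1.2.2.1 hRT (hRT.trans hE.1.2.2.2.1.1))
    (autInducedBy_le_autGroup (hRT.trans hE.1.2.2.2.1.1))) ha)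

include hE in
theorem exists_kAut_mul (hRT : R ≤ T) {a : MulAut R} (ha : a ∈ kAut E S R) :
    ∃ e ∈ E.autGroup R, ∃ s ∈ autInducedBy S R, a = e * s := by
  have hn : autInducedBy S R ≤ Subgroup.normalizer (E.autGroup R : Set (MulAut R)) := fun s hs => by
    refine Subgroup.mem_normalizer_iff.mpr fun g => ⟨autS_conj_autE hE hRT (Subgroup.mem_sup_right hs), fun h => ?_⟩
    have := autS_conj_autE hE hRT (Subgroup.inv_mem _ (Subgroup.mem_sup_right hs)) h
    simpa [mul_assoc] using this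
  rw [kAut, ← SetLike.mem_coe, Subgroup.coe_mul_of_right_le_normalizer_left _ _ hn] at ha
  obtain ⟨e, he, s, hs, rfl⟩ := ha
  exact ⟨e, he, s, hs, rfl⟩

include hS hE in
theorem autS_inf_autE (hR : Max F T R) : autInducedBy S R ⊓ E.autGroup R = autInducedBy T R :=
  (sylIn_autT hS hE hR).2.2 _
    (le_inf (autInducedBy_mono hE.1.2.2.2.1.1 _) (sylIn_autT hS hE hR).1) inf_le_right
    ((isPGroup_autInducedBy hS R).to_le inf_le_left)

include hS hE in
theorem sylIn_kAut (hR : Max F T R) : SylIn p (autInducedBy S R) (kAut E S R) := by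
  have := finite_mulAut (hR.1.trans hE.1.2.2.2.1.1)
  refine ⟨le_sup_right, isPGroup_autInducedBy hS R, fun L hle hLK hL => le_antisymm (fun a ha => ?_) hle⟩
  obtain ⟨e, he, s, hs, rfl⟩ := exists_kAut_mul hE hR.1 (hLK ha)
  have heL : e ∈ L := by simpa using L.mul_mem ha (L.inv_mem (hle hs))
  have h1 := (sylIn_autT hS hE hR).2.2 (L ⊓ E.autGroup R)
    (le_inf ((autInducedBy_mono hE.1.2.2.2.1.1 _).trans hle) (sylIn_autT hS hE hR).1) inf_le_right
    (hL.to_le inf_le_left)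
  exact Subgroup.mul_mem _ (autInducedBy_mono hE.1.2.2.2.1.1 _ (h1.le ⟨heL, he⟩)) hs

include hS hE in
/-- The extension of an automorphism of order prime to `p`. -/
theorem exists_L_cop (hR : Max F T R) (hRc : TCentric F T R) {A : Subgroup (MulAut R)} (hA : A ≤ autInducedBy S R)
    {n : MulAut R} (hn : n ∈ kAut E S R) (hnp : (orderOf n).Coprime p) (hnA : ∀ a ∈ A, n * a * n⁻¹ ∈ A) :
    ∃ G, MapFn (dSys F E p) (pre S R A) G ∧ ∀ y ∈ R, G y = ev n y := by
  have hTsc := hE.1.2.2.2.1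
  have hF := hE.1.2.1
  have hRS := hR.1.trans hTsc.1
  have := finite_mulAut hRS
  -- `n` lies in `E`
  have hnE : n ∈ E.autGroup R := by
    obtain ⟨e, he, s, hs, hes⟩ := exists_kAut_mul hE hR.1 hn
    obtain ⟨k, hk⟩ := (isPGroup_autInducedBy hS R) ⟨s, hs⟩
    refine mem_of_mul_pElement (K := kAut E S R) (fun a ha b hb => autS_conj_autE hE hR.1 ha hb) hn
      (Subgroup.inv_mem _ (Subgroup.mem_sup_right hs)) (k := k) ?_ hnp (pow_orderOf_eq_one n) ?_
    · rw [inv_pow, show s ^ p ^ k = 1 from congrArg Subtype.val hk, inv_one]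
    · rw [hes, mul_inv_cancel_right]; exact he
  obtain ⟨R₀, ψ, hn₀, hψ, hψR, hψN⟩ := exists_fullyNormalized_mapFn hS hF hRS
  have hRN := le_normalizerIn (S := S) hRS
  have hR₀c : TCentric F T R₀ := tcentric_map hRc hTsc (hψ.mono hRN) hψR
  obtain ⟨Φ, hΦ⟩ := exists_congr (hψ.mono hRN) hψR
  have hPN : pre S R A ≤ normalizerIn S R := pre_le
  obtain ⟨K₀, hK₀S, hK₀⟩ := (hψ.mono hPN).exists_image
  have hRP : R ≤ pre S R A := le_pre hRS
  have hR₀K : R₀ ≤ K₀ := fun y hy => by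
    obtain ⟨x, hx, rfl⟩ := exists_of_image hψR hy
    exact mem_of_image hK₀ (hRP hx)
  have hK₀N : K₀ ≤ normalizerIn S R₀ := fun y hy => by
    obtain ⟨x, hx, rfl⟩ := exists_of_image hK₀ hy
    exact hψN x (hPN hx)
  have hnE₀ := congr_autE hE.1.2.2 hR.1 hR₀c.le (hψ.mono hRN) hψR hΦ hnE
  obtain ⟨b, hb, hbp, hbe⟩ := exists_hat_base hS hE hR₀c hn₀ (K := K₀) (n := Φ n)
    (by rwa [Φ.orderOf_eq]) (mapFn_ev hR₀c.le hnE₀) hR₀K hK₀N fun x hx => by
      obtain ⟨x', hx', rfl⟩ := exists_of_image hK₀ hx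
      obtain ⟨hx'N, c, hc, hce⟩ := id hx'
      have hinn : autInducedBy R R ≤ autInducedBy S R := autInducedBy_mono hRS _
      have hcS : c ∈ autInducedBy S R := sup_le hA hinn hc
      have hnc := conj_sup_inn hnA c hc
      have hncS : n * c * n⁻¹ ∈ autInducedBy S R := sup_le hA hinn hnc
      have hmem : n * c * n⁻¹ * c⁻¹ ∈ autInducedBy T R := (autS_inf_autE hS hE hR).le
        ⟨Subgroup.mul_mem _ hncS (Subgroup.inv_mem _ hcS), by
          have h1 := Subgroup.mul_mem _ hnE (autS_conj_autE hE hR.1 (Subgroup.mem_sup_right hcS)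
            (Subgroup.inv_mem _ hnE))
          simpa [mul_assoc] using h1⟩
      obtain ⟨t, ht, htn, hte⟩ := exists_induced_ev hmem
      have hy : ∀ u ∈ R, ev (n * c * n⁻¹) u = t * x' * u * (t * x')⁻¹ := fun u hu => by
        have hcu : ev c u ∈ R := ev_mem c hu
        have h1 := hte _ hcu
        rw [ev_mul _ _ hcu, ev_inv_ev c hu, ev_conj_of hce hu] at h1
        rw [h1]; group
      have hyN : t * x' ∈ normalizerIn S R := ⟨S.mul_mem (hTsc.1 ht) hx'N.1, Subgroup.mul_mem _ htn hx'N.2⟩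
      have hyP : t * x' ∈ pre S R A := ⟨hyN, _, hnc, fun u => (ev_val _ u).symm.trans (hy u u.2)⟩
      refine ⟨ψ (t * x'), mem_of_image hK₀ hyP, ?_, fun u hu => ?_⟩
      · have htN : t ∈ normalizerIn S R := ⟨hTsc.1 ht, htn⟩
        rw [hψ.map_mul htN (hPN hx'), mul_inv_cancel_right]
        exact mapFn_mem hTsc hψ htN ht
      · obtain ⟨v, hv, rfl⟩ := exists_of_image hψR hu
        have hxv : x' * v * x'⁻¹ ∈ R := conj_mem_of_normalizer hx'N.2 hv
        rw [← hψ.map_conj (hPN hx') (hRN hv), hΦ n _ hxv, hΦ n v hv,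
          ← hψ.map_conj hyN (hRN (ev_mem n hv))]
        congr 1
        rw [← hy _ (ev_mem n hv), ev_mul _ _ (ev_mem n hv), ev_inv_ev n hv, ev_mul _ _ hv, ev_conj_of hce hv]
  obtain ⟨hbF, hbK, -, -⟩ := id hb
  have hH : W S R₀ ⊔ K₀ ≤ S := sup_le (W_le hn₀.1) hK₀S
  obtain ⟨β, hβ, hβe, hβd⟩ := exists_restrict_aut hH le_sup_right hbF hbK
  have hβB : β ∈ bAut hE.1.2.2 hK₀S := (disp_of_hat hS hE hR₀c hn₀ hR₀K hK₀N hb hbp).congr hβe
  obtain ⟨k, hk, hkr, hk₁, -⟩ := (hψ.mono hPN).exists_inv hK₀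
  obtain ⟨Ψ, hΨ⟩ := exists_congr hk hkr
  have hPS : pre S R A ≤ S := hPN.trans normalizerIn_le
  have hgB := congr_bAut hE.1.2.2 hK₀S hPS hk hkr hΨ hβB
  refine ⟨ev (Ψ β), (genMap_of_ev hE.1.2.2 hPS (hRc.of_le (le_inf hRP hR.1) inf_le_right) hgB
    (by rw [Ψ.orderOf_eq]; exact hbp.coprime_dvd_left hβd)).mapFn, fun y hy => ?_⟩
  have hψy : ψ y ∈ R₀ := mem_of_image hψR hy
  have h1 := hΨ β (ψ y) (mem_of_image hK₀ (hRP hy))
  rw [hk₁ y (hRP hy)] at h1
  rw [h1, ← hβe _ (mem_of_image hK₀ (hRP hy)), hbe _ hψy, hΦ n y hy, hk₁ _ (hRP (ev_mem n hy))]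

include hS hE in
/-- Fusion in the conjugations by `S` on a maximal centric subgroup is realized on their preimages. -/
theorem exists_L (hR : Max F T R) (hRc : TCentric F T R) {A : Subgroup (MulAut R)} (hA : A ≤ autInducedBy S R)
    {x : MulAut R} (hx : x ∈ kAut E S R) (hxA : ∀ a ∈ A, x * a * x⁻¹ ∈ autInducedBy S R) :
    ∃ G, MapFn (dSys F E p) (pre S R A) G ∧ ∀ y ∈ R, G y = ev x y := by
  have hRS := hR.1.trans hE.1.2.2.2.1.1
  have := finite_mulAut hRS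
  have hinn : autInducedBy R R ≤ autInducedBy S R := autInducedBy_mono hRS _
  have hcen : ∀ A : Subgroup (MulAut R), centralizerIn S R ≤ pre S R A := fun A c hc =>
    ⟨centralizerIn_le_normalizerIn hc, 1, Subgroup.one_mem _, fun y => by
      rw [MulAut.one_apply, ← (mem_centralizerIn.mp hc).2 y y.2, mul_inv_cancel_right]⟩
  let C : Subgroup (MulAut R) → MulAut R → Prop := fun A x =>
    ∃ G, MapFn (dSys F E p) (pre S R A) G ∧ ∀ y ∈ R, G y = ev x y
  have himg : ∀ {A A' : Subgroup (MulAut R)} {x : MulAut R} {G : Ω → Ω},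
      MapFn (dSys F E p) (pre S R A) G → (∀ y ∈ R, G y = ev x y) → (∀ a ∈ A, x * a * x⁻¹ ∈ A') →
      ∀ t ∈ pre S R A, G t ∈ pre S R A' := by
    intro A A' x G hG hGe hxA t ht
    have hle := le_pre (R := A) hRS
    have hGR : G '' R = (R : Set Ω) := (Set.image_congr hGe).trans (ev_image x)
    obtain ⟨htN, a, ha, hae⟩ := id ht
    refine ⟨⟨hG.mem_S ht, (hG.mem_normalizerIn hle hGR ht htN.2).2⟩, x * a * x⁻¹, conj_sup_inn hxA a ha,
      fun y => ?_⟩
    obtain ⟨z, rfl⟩ := x.surjective y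
    rw [MulAut.mul_apply, MulAut.mul_apply, MulAut.inv_apply_self, ← ev_val x (a z),
      ← hGe _ (Subtype.mem _), hae, hG.map_conj ht (hle z.2), hGe _ z.2, ev_val]
  refine SylIn.fusion_induction (sylIn_kAut hS hE hR) C
    (fun hle ⟨G, hG, hGe⟩ => ⟨G, hG.mono (pre_mono hle), hGe⟩)
    (fun {A A' x y} _ _ ⟨G, hG, hGe⟩ hxA ⟨G', hG', hG'e⟩ =>
      ⟨G' ∘ G, hG.comp hG' (himg hG hGe hxA), fun z hz => by
        show G' (G z) = _
        rw [hGe z hz, hG'e _ (ev_mem x hz), ev_mul _ _ hz]⟩)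
    (fun {A A' x} hA hA' ⟨G, hG, hGe⟩ hxA hxA' => by
      obtain ⟨J, -, hJ⟩ := hG.exists_image
      obtain ⟨k, hk, -, hk₁, -⟩ := hG.exists_inv hJ
      have hle := le_pre (R := A) hRS
      have hCJ : centralizerIn S R ≤ J := by
        have hGR : G '' R = (R : Set Ω) := (Set.image_congr hGe).trans (ev_image x)
        have him : G '' centralizerIn S R = (centralizerIn S R : Set Ω) :=
          (hG.mono (hcen A)).image_eq_of_maps centralizerIn_le
            (fun c hc => hG.mem_centralizerIn hle hGR (hcen A hc) hc) le_rfl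
        intro c hc
        obtain ⟨d, hd, rfl⟩ := exists_of_image him hc
        exact mem_of_image hJ (hcen A hd)
      refine ⟨k, hk.mono fun t' ht' => ?_, fun y hy => ?_⟩
      · obtain ⟨ht'N, a', ha', ha'e⟩ := ht'
        have ha : x⁻¹ * a' * x ∈ A ⊔ autInducedBy R R := by
          have h1 := conj_sup_inn (x := x⁻¹) (R' := A) (fun r hr => by simpa using hxA' r hr) a' ha'
          simpa using h1
        obtain ⟨t, ht, hte⟩ := mem_autInducedBy.mp ((sup_le hA hinn : A ⊔ autInducedBy R R ≤ _) ha)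
        have htm : t ∈ pre S R A := ⟨⟨ht, mem_normalizer_of_aut hte⟩, _, ha, hte⟩
        have hm : (G t)⁻¹ * t' ∈ centralizerIn S R := by
          refine mem_centralizerIn.mpr ⟨S.mul_mem (S.inv_mem (hG.mem_S htm)) ht'N.1, fun y hy => ?_⟩
          obtain ⟨z, hz, rfl⟩ := exists_of_image (ev_image x) hy
          have h1 : G t * ev x z * (G t)⁻¹ = t' * ev x z * t'⁻¹ := by
            rw [← ev_conj_of ha'e (ev_mem x hz), ← hGe z hz, ← hG.map_conj htm (hle hz),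
              ← ev_conj_of hte hz, hGe _ (ev_mem _ hz), hGe z hz, ev_mul _ _ hz,
              ev_mul _ _ (ev_mem x hz), ev_ev_inv x (ev_mem a' (ev_mem x hz))]
          calc ev x z * ((G t)⁻¹ * t') = (G t)⁻¹ * (G t * ev x z * (G t)⁻¹) * t' := by group
            _ = (G t)⁻¹ * t' * ev x z := by rw [h1]; group
        have := J.mul_mem (mem_of_image hJ htm) (hCJ hm)
        rwa [mul_inv_cancel_left] at this
      · obtain ⟨z, hz, rfl⟩ := exists_of_image (ev_image x) hy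
        rw [ev_inv_ev x hz, ← hGe z hz, hk₁ z (hle hz)])
    (fun A _ x hx => by
      obtain ⟨t, ht, hte⟩ := mem_autInducedBy.mp hx
      exact ⟨fun z => t * z * t⁻¹, mapFn_conj (pre_le.trans normalizerIn_le) ht,
        fun z hz => (ev_conj_of hte hz).symm⟩)
    (fun A hA x hx hxp hxA => exists_L_cop hS hE hR hRc hA hx hxp hxA)
    A hA x hx hxA

include hS hE in
/-- A subgroup whose normalizer in `T` is maximal centric but which is not maximal moves to a larger one. -/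
theorem exists_bigger (hU : U ≤ T) (hR : Max F T (normalizerIn T U)) (hRc : TCentric F T (normalizerIn T U))
    (hnot : ¬ Max F T U) :
    ∃ (U' : Subgroup Ω) (L : Ω → Ω), MapFn (dSys F E p) (normalizerIn S U) L ∧ L '' U = (U' : Set Ω) ∧
      Nat.card (normalizerIn T U) < Nat.card (normalizerIn T U') := by
  have hTsc := hE.1.2.2.2.1
  have hF := hE.1.2.1
  have hTS := hTsc.1
  have := finite_of_le hTS
  have hTp := hS.to_le hTS
  have hUS := hU.trans hTS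
  set R := normalizerIn T U with hRdef
  have hRT : R ≤ T := normalizerIn_le
  have hRS := hRT.trans hTS
  have hUR : U ≤ R := le_normalizerIn hU
  have := finite_mulAut hRS
  obtain ⟨V, hV, hlt⟩ : ∃ V, F.IsConj U V ∧ Nat.card R < Nat.card (normalizerIn T V) := by
    by_contra h
    exact hnot ⟨hU, fun V hV => not_lt.mp fun hlt => h ⟨V, hV, hlt⟩⟩
  obtain ⟨U₀, f, hU₀, hf, hfU, hfN⟩ := exists_fullyNormalized_mapFn hS hF hUS
  have hUN := le_normalizerIn (S := S) hUS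
  have hU₀T : U₀ ≤ T := fun y hy => by
    obtain ⟨x, hx, rfl⟩ := exists_of_image hfU hy
    exact mapFn_mem hTsc hf (hUN hx) (hU hx)
  have hlt₀ : Nat.card R < Nat.card (normalizerIn T U₀) :=
    hlt.trans_le ((max_of_fn hS hE hU₀T hU₀).2 V (isConj_trans (isConj_symm ((hf.mono hUN).isConj hfU)) hV))
  have hRN : R ≤ normalizerIn S U := normalizerIn_mono_T hTsc
  have hfR := hf.mono hRN
  obtain ⟨R₀, -, hR₀⟩ := hfR.exists_image
  have hR₀T : R₀ ≤ normalizerIn T U₀ := fun y hy => by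
    obtain ⟨x, hx, rfl⟩ := exists_of_image hR₀ hy
    exact ⟨mapFn_mem hTsc hf (hRN hx) (hRT hx), (hfN x (hRN hx)).2⟩
  have hR₀lt : R₀ < normalizerIn T U₀ := lt_of_le_of_ne hR₀T fun h => by
    have := hfR.card_image hR₀
    rw [h] at this
    omega
  obtain ⟨t, ht, htR⟩ := SetLike.exists_of_lt (Fusion.lt_normalizerIn hTp normalizerIn_le hR₀lt)
  obtain ⟨a, j, ha, har, hj, hje⟩ := mapFn_frattini hE.1.2.2 hRT hfR
  obtain ⟨R₁, hR₁T, hR₁⟩ := hj.exists_image
  obtain ⟨U₁, -, hU₁⟩ := (hj.mono hUR).exists_image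
  obtain ⟨t₁, ht₁, rfl⟩ := exists_of_image har ht.1.1
  have haR : a '' R₁ = (R₀ : Set Ω) := by
    rw [← hR₁, Set.image_image, ← hR₀]
    exact Set.image_congr fun x hx => (hje x hx).symm
  have haU : a '' U₁ = (U₀ : Set Ω) := by
    rw [← hU₁, Set.image_image, ← hfU]
    exact Set.image_congr fun x hx => (hje x (hUR hx)).symm
  have hpull : ∀ {A B : Subgroup Ω}, A ≤ T → a '' A = (B : Set Ω) → a t₁ ∈ Subgroup.normalizer (B : Set Ω) →
      ∀ y ∈ A, t₁ * y * t₁⁻¹ ∈ A := by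
    intro A B hA hAB htB y hy
    obtain ⟨z, hz, hze⟩ := exists_of_image hAB (conj_mem_of_normalizer htB (mem_of_image hAB hy))
    rw [← ha.map_conj ht₁ (hA hy)] at hze
    rw [← ha.injOn (hA hz) (T.mul_mem (T.mul_mem ht₁ (hA hy)) (T.inv_mem ht₁)) hze]
    exact hz
  have hU₁R : U₁ ≤ R₁ := fun y hy => by
    obtain ⟨x, hx, rfl⟩ := exists_of_image hU₁ hy
    exact mem_of_image hR₁ (hUR hx)
  have hpR := hpull hR₁T haR ht.2
  have hpU := hpull (hU₁R.trans hR₁T) haU ht.1.2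
  have ht₁R : t₁ ∉ R₁ := fun h => htR (mem_of_image haR h)
  have := finite_of_le (hR₁T.trans hTS)
  obtain ⟨c₁, hc₁, hc₁e⟩ := exists_autInducedBy (K := T) ht₁ (mem_normalizer_of_forall hpR)
  obtain ⟨ji, hji, hjir, hji₁, -⟩ := hj.exists_inv hR₁
  obtain ⟨Φ, hΦ⟩ := exists_congr hji hjir
  set β := Φ c₁ with hβ
  have hβE : β ∈ E.autGroup R := congr_autF hji hjir hΦ (autInducedBy_le_autGroup hR₁T hc₁)
  have hβU : ∀ u ∈ U, ev β u ∈ U := fun u hu => by
    have hju := mem_of_image hU₁ hu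
    have h1 := hΦ c₁ (j u) (hU₁R hju)
    rw [hji₁ u (hUR hu), ev_conj_of hc₁e (hU₁R hju)] at h1
    obtain ⟨u', hu', hu'e⟩ := exists_of_image hU₁ (hpU _ hju)
    rw [hβ, h1, ← hu'e, hji₁ u' (hUR hu')]
    exact hu'
  have hβp : IsPGroup p (Subgroup.zpowers β) := by
    refine ((isPGroup_autInducedBy hTp R₁).map Φ.toMonoidHom).to_le ?_
    exact Subgroup.zpowers_le.mpr ⟨c₁, hc₁, rfl⟩
  have hβinn : β ∉ autInducedBy R R := fun h => by
    obtain ⟨r, hr, -, hre⟩ := exists_induced_ev h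
    have hm : (j r)⁻¹ * t₁ ∈ centralizerIn T R₁ := by
      refine mem_centralizerIn.mpr ⟨T.mul_mem (T.inv_mem (hR₁T (mem_of_image hR₁ hr))) ht₁, fun y hy => ?_⟩
      obtain ⟨x, hx, rfl⟩ := exists_of_image hR₁ hy
      have h1 := hΦ c₁ (j x) hy
      rw [hji₁ x hx, ← hβ, hre x hx, ev_conj_of hc₁e hy] at h1
      have h2 : j (r * x * r⁻¹) = t₁ * j x * t₁⁻¹ := by
        obtain ⟨z, hz, hze⟩ := exists_of_image hR₁ (hpR _ hy)
        rw [← hze, hji₁ z hz] at h1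
        rw [h1, hze]
      rw [hj.map_conj hr hx] at h2
      calc j x * ((j r)⁻¹ * t₁) = (j r)⁻¹ * (j r * j x * (j r)⁻¹) * t₁ := by group
        _ = (j r)⁻¹ * t₁ * j x := by rw [h2]; group
    have hR₁c : TCentric F T R₁ := tcentric_map hRc hTsc (mapFn_of_sub hE.1.2.2.1 hj) hR₁
    have h3 := R₁.mul_mem (mem_of_image hR₁ hr) (TCentric.centralizer_le hTS hR₁c hm)
    rw [mul_inv_cancel_left] at h3
    exact ht₁R h3
  -- the stabilizer of `U`
  set Λ := kAut E S R ⊓ stabAut R U with hΛ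
  have hautR : ∀ {b : MulAut R}, b ∈ kAut E S R → b ∈ F.autGroup R :=
    fun hb => (sup_le (autGroup_sub hE.1.2.2.1 hRT hRS) (autInducedBy_le_autGroup hRS)) hb
  have hΛmem : ∀ {b : MulAut R}, b ∈ kAut E S R → (∀ x ∈ U, ev b x ∈ U) → b ∈ Λ := fun hb h =>
    ⟨hb, mem_stabAut hRS hUR (hautR hb) h⟩
  have hnormR : ∀ s ∈ normalizerIn S U, s ∈ Subgroup.normalizer (R : Set Ω) := fun s hs => by
    have := finite_of_le hRS
    exact mem_normalizer_of_forall fun x hx =>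
      ⟨conj_mem_T hTsc hs.1 hx.1, Subgroup.mul_mem _ (Subgroup.mul_mem _ hs.2 hx.2) (Subgroup.inv_mem _ hs.2)⟩
  set A₁ := autInducedBy (normalizerIn S U) R with hA₁
  have hA₁Λ : A₁ ≤ Λ := fun c hc => by
    obtain ⟨s, hs, -, hse⟩ := exists_induced_ev hc
    exact hΛmem (Subgroup.mem_sup_right (mem_induced_of_ev hs.1 hse)) fun x hx => by
      rw [hse x (hUR hx)]; exact conj_mem_of_normalizer hs.2 hx
  obtain ⟨Pb, hA₁P, hPb⟩ := exists_sylIn (K := Λ) A₁ (isPGroup_autInducedBy (hS.to_le normalizerIn_le) R) hA₁Λ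
  set N := Λ ⊓ E.autGroup R with hN
  have hNn : ∀ b ∈ Λ, ∀ n ∈ N, b * n * b⁻¹ ∈ N := fun b hb n hn =>
    ⟨Subgroup.mul_mem _ (Subgroup.mul_mem _ hb hn.1) (Subgroup.inv_mem _ hb), autS_conj_autE hE hRT hb.1 hn.2⟩
  obtain ⟨γ, ⟨hγP, hγN⟩, hγi⟩ : ∃ γ, γ ∈ Pb ⊓ N ∧ γ ∉ autInducedBy R R := by
    by_contra h
    obtain ⟨b, -, hb⟩ := (hPb.inf_normal inf_le_left hNn).exists_conj hβp (Subgroup.zpowers_le.mpr
      ⟨hΛmem (Subgroup.mem_sup_left hβE) hβU, hβE⟩)
    refine hβinn ?_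
    have h1 : b * β * b⁻¹ ∈ autInducedBy R R :=
      by_contra fun hi => h ⟨_, hb β (Subgroup.mem_zpowers β), hi⟩
    have h2 := inn_normal h1 b⁻¹
    simpa [mul_assoc] using h2
  obtain ⟨x, hx, hxP⟩ := (sylIn_kAut hS hE hR).exists_conj hPb.2.1 (hPb.1.trans inf_le_left)
  obtain ⟨L, hL, hLe⟩ := exists_L hS hE hR hRc (A := Pb ⊓ autInducedBy S R) inf_le_right hx
    fun q hq => hxP q hq.1
  have hNU : normalizerIn S U ≤ pre S R (Pb ⊓ autInducedBy S R) := fun s hs => by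
    obtain ⟨c, hc, hce⟩ := exists_autInducedBy (K := normalizerIn S U) hs (hnormR s hs)
    exact ⟨⟨hs.1, hnormR s hs⟩, c, Subgroup.mem_sup_left ⟨hA₁P hc, autInducedBy_mono normalizerIn_le _ hc⟩, hce⟩
  have hL' := hL.mono hNU
  obtain ⟨U₂, hU₂S, hU₂⟩ := (hL'.mono hUN).exists_image
  refine ⟨U₂, L, hL', hU₂, ?_⟩
  have hxev : ∀ r ∈ R, L r = ev x r := hLe
  obtain ⟨t₂, ht₂, -, ht₂e⟩ := exists_induced_ev ((autS_inf_autE hS hE hR).le
    ⟨hxP γ hγP, autS_conj_autE hE hRT hx hγN.2⟩)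
  have hfin := finite_of_le hU₂S
  have ht₂N : t₂ ∈ normalizerIn T U₂ := ⟨ht₂, mem_normalizer_of_forall fun u hu => by
    obtain ⟨v, hv, rfl⟩ := exists_of_image hU₂ hu
    rw [hxev v (hUR hv), ← ht₂e _ (ev_mem x (hUR hv)), ev_mul _ _ (ev_mem x (hUR hv)), ev_inv_ev x (hUR hv),
      ev_mul _ _ (hUR hv), ← hxev _ (ev_mem γ (hUR hv))]
    refine mem_of_image hU₂ ?_
    rw [ev_coe γ (hUR hv)]
    exact (hγN.1.2 ⟨v, hUR hv⟩).mp hv⟩
  have hRU₂ : R ≤ normalizerIn T U₂ := fun r hr => by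
    obtain ⟨r', hr', rfl⟩ := exists_of_image (ev_image x) hr
    refine ⟨hRT hr, ?_⟩
    rw [← hxev r' hr']
    exact (CfsgLib.Fusion.SatCrit.maps_normalizer hUN hL' hU₂ le_rfl r' (hRN hr')).2
  refine card_lt_card (S := S) (normalizerIn_le.trans hTS) (lt_of_le_of_ne hRU₂ fun h => hγi ?_)
  have ht₂R : t₂ ∈ R := h ▸ ht₂N
  have h1 : x * γ * x⁻¹ ∈ autInducedBy R R := mem_induced_of_ev ht₂R ht₂e
  have h2 := inn_normal h1 x⁻¹
  simpa [mul_assoc] using h2

include hS hE in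
/-- Every subgroup of `T` moves to a maximal one. -/
theorem exists_move (hU : U ≤ T) :
    ∃ (U' : Subgroup Ω) (h : Ω → Ω), MapFn (dSys F E p) (normalizerIn S U) h ∧ h '' U = (U' : Set Ω) ∧
      Max F T U' := by
  have hTsc := hE.1.2.2.2.1
  have hTS := hTsc.1
  have := finite_of_le hTS
  suffices H : ∀ (n : ℕ) (U : Subgroup Ω), U ≤ T → Nat.card T - Nat.card U < n →
      ∀ m, Nat.card T - Nat.card (normalizerIn T U) < m → ∃ (U' : Subgroup Ω) (h : Ω → Ω),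
        MapFn (dSys F E p) (normalizerIn S U) h ∧ h '' U = (U' : Set Ω) ∧ Max F T U' from
    H _ U hU (Nat.lt_succ_self _) _ (Nat.lt_succ_self _)
  intro n
  induction n with
  | zero => intro U _ h; omega
  | succ n ih =>
  intro U hU hn m
  induction m generalizing U with
  | zero => intro h; omega
  | succ m ihm =>
  intro hm
  have hUS := hU.trans hTS
  have hUN := le_normalizerIn (S := S) hUS
  by_cases hUT : U = T
  · refine ⟨U, id, mapFn_id normalizerIn_le, Set.image_id _, hU, fun V _ => ?_⟩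
    rw [hUT, show normalizerIn T T = T from le_antisymm normalizerIn_le (le_normalizerIn le_rfl)]
    exact Subgroup.card_le_of_le normalizerIn_le
  have hlt := Fusion.lt_normalizerIn (hS.to_le hTS) le_rfl (lt_of_le_of_ne hU hUT)
  have hRT : normalizerIn T U ≤ T := normalizerIn_le
  obtain ⟨R', h, hh, hhR, hR'⟩ := ih (normalizerIn T U) hRT (by
    have := FusionNormal.card_lt_card (hRT.trans hTS) hlt
    have := Subgroup.card_le_of_le hRT
    omega) _ (Nat.lt_succ_self _)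
  have hNN : normalizerIn S U ≤ normalizerIn S (normalizerIn T U) := fun s hs => by
    have := finite_of_le (hRT.trans hTS)
    exact ⟨hs.1, mem_normalizer_of_forall fun x hx =>
      ⟨conj_mem_T hTsc hs.1 hx.1, Subgroup.mul_mem _ (Subgroup.mul_mem _ hs.2 hx.2) (Subgroup.inv_mem _ hs.2)⟩⟩
  have hh' := hh.mono hNN
  obtain ⟨U₁, -, hU₁⟩ := (hh'.mono hUN).exists_image
  have hhm := CfsgLib.Fusion.SatCrit.maps_normalizer hUN hh' hU₁ le_rfl
  have hU₁T : U₁ ≤ T := fun y hy => by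
    obtain ⟨x, hx, rfl⟩ := exists_of_image hU₁ hy
    exact mapFn_mem hTsc (dSys_sub hh') (hUN hx) (hU hx)
  have hR'le : R' ≤ normalizerIn T U₁ := fun y hy => by
    obtain ⟨x, hx, rfl⟩ := exists_of_image hhR hy
    exact ⟨hR'.1 hy, (hhm x (normalizerIn_mono_T hTsc hx)).2⟩
  have hcR : Nat.card R' = Nat.card (normalizerIn T U) :=
    (hh.mono (le_normalizerIn (hRT.trans hTS))).card_image hhR
  have hcU : Nat.card U₁ = Nat.card U := (hh'.mono hUN).card_image hU₁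
  have hstep : ∀ (U₂ : Subgroup Ω) (L : Ω → Ω), MapFn (dSys F E p) (normalizerIn S U) L →
      L '' U = (U₂ : Set Ω) → Nat.card (normalizerIn T U) < Nat.card (normalizerIn T U₂) →
      ∃ (U' : Subgroup Ω) (h : Ω → Ω),
        MapFn (dSys F E p) (normalizerIn S U) h ∧ h '' U = (U' : Set Ω) ∧ Max F T U' := by
    intro U₂ L hL hLU hc
    have hU₂T : U₂ ≤ T := fun y hy => by
      obtain ⟨x, hx, rfl⟩ := exists_of_image hLU hy
      exact mapFn_mem hTsc (dSys_sub hL) (hUN hx) (hU hx)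
    have hc₂ := (hL.mono hUN).card_image hLU
    have hle₂ := Subgroup.card_le_of_le (normalizerIn_le : normalizerIn T U₂ ≤ T)
    obtain ⟨U', g, hg, hgU, hmax⟩ := ihm U₂ hU₂T (by omega) (by omega)
    exact ⟨U', g ∘ L, hL.comp hg (CfsgLib.Fusion.SatCrit.maps_normalizer hUN hL hLU le_rfl),
      image_comp hLU hgU, hmax⟩
  by_cases hc : Nat.card (normalizerIn T U) < Nat.card (normalizerIn T U₁)
  · exact hstep U₁ h hh' hU₁ hc
  have := finite_of_le (normalizerIn_le.trans hTS : normalizerIn T U₁ ≤ S)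
  obtain rfl : R' = normalizerIn T U₁ := eq_of_le_of_card_le hR'le (by omega)
  have hRc : TCentric F T (normalizerIn T U₁) := by
    by_contra hnc
    refine cen_not_le hS hE hR' hnc fun c hc => ?_
    exact ⟨hc.1, Subgroup.centralizer_le_normalizer _ (Subgroup.centralizer_le
      (SetLike.coe_subset_coe.mpr (le_normalizerIn hU₁T)) hc.2)⟩
  by_cases hmax : Max F T U₁
  · exact ⟨U₁, h, hh', hU₁, hmax⟩
  obtain ⟨U₂, L, hL, hLU, hc₂⟩ := exists_bigger hS hE hU₁T hR' hRc hmax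
  exact hstep U₂ (L ∘ h) (hh'.comp hL hhm) (image_comp hU₁ hLU) (by omega)

include hS hE in
/-- Every `X` with `X ⊓ T` centric in `T` has a conjugate satisfying `Cond`. -/
theorem exists_cond (hX : X ≤ S) (hc : TCentric F T (X ⊓ T)) :
    ∃ Q', (dSys F E p).IsConj X Q' ∧ TCentric F T (Q' ⊓ T) ∧ Cond E p (Q' ⊓ T) Q' := by
  have hTsc := hE.1.2.2.2.1
  obtain ⟨U₁, h, hh, hhU, hmax⟩ := exists_move hS hE (inf_le_right : X ⊓ T ≤ T)
  have hXN : X ≤ normalizerIn S (X ⊓ T) := le_normalizer_inter hTsc hX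
  obtain ⟨X₁, hX₁S, hX₁⟩ := (hh.mono hXN).exists_image
  have hint := image_inter hTsc (dSys_sub hh) hXN hX₁
  rw [hhU] at hint
  have hU₁ : U₁ = X₁ ⊓ T := SetLike.coe_injective hint
  have hc₁ : TCentric F T U₁ :=
    tcentric_map hc hTsc ((dSys_sub hh).mono (le_normalizerIn (inf_le_left.trans hX))) hhU
  have hU₁S := hc₁.le.trans hTsc.1
  have hX₁N : X₁ ≤ normalizerIn S U₁ := hU₁ ▸ le_normalizer_inter hTsc hX₁S
  have := finite_mulAut hU₁S
  set Λ := E.autGroup U₁ ⊓ cen U₁ X₁ with hΛ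
  have hinnΛ : autInducedBy U₁ U₁ ≤ Λ :=
    le_inf ((autInducedBy_mono hc₁.le _).trans (autInducedBy_le_autGroup hc₁.le)) inn_le_cen
  obtain ⟨Rb, hinnR, hRb⟩ := exists_sylIn (K := Λ) _ (isPGroup_autInducedBy (hS.to_le hU₁S) U₁) hinnΛ
  set Qb := autInducedBy X₁ U₁ with hQb
  have hQR : Qb ≤ Subgroup.normalizer (Rb : Set (MulAut U₁)) := fun c hc => by
    have hfwd : ∀ c ∈ Qb, ∀ a ∈ Rb, c * a * c⁻¹ ∈ Rb := fun c hc a ha => by
      have h1 := hinnR ((hRb.1 ha).2 c hc)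
      have h2 := Rb.mul_mem (Rb.inv_mem h1) ha
      simpa [mul_assoc] using h2
    refine Subgroup.mem_normalizer_iff.mpr fun a => ⟨hfwd c hc a, fun ha => ?_⟩
    have := hfwd c⁻¹ (Qb.inv_mem hc) _ ha
    simpa [mul_assoc] using this
  have hPp : IsPGroup p (Qb ⊔ Rb : Subgroup (MulAut U₁)) :=
    IsPGroup.to_sup_of_normal_right' (isPGroup_autInducedBy (hS.to_le hX₁S) _) hRb.2.1 hQR
  have hPK : Qb ⊔ Rb ≤ kAut E S U₁ :=
    sup_le ((autInducedBy_mono hX₁S _).trans le_sup_right) ((hRb.1.trans inf_le_left).trans le_sup_left)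
  obtain ⟨x, hx, hxP⟩ := (sylIn_kAut hS hE hmax).exists_conj hPp hPK
  obtain ⟨L, hL, hLe⟩ := exists_L hS hE hmax hc₁ (A := Qb) (autInducedBy_mono hX₁S _) hx
    fun a ha => hxP a (Subgroup.mem_sup_left ha)
  have hX₁pre : X₁ ≤ pre S U₁ Qb := fun q hq => by
    obtain ⟨c, hc, hce⟩ := exists_autInducedBy (K := X₁) hq (hX₁N hq).2
    exact ⟨hX₁N hq, c, Subgroup.mem_sup_left hc, hce⟩
  obtain ⟨Q', hQ'S, hQ'⟩ := (hL.mono hX₁pre).exists_image
  have hUpre := le_pre (R := Qb) hU₁S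
  have hLU : L '' U₁ = (U₁ : Set Ω) := (Set.image_congr hLe).trans (ev_image x)
  have hint' := image_inter hTsc (dSys_sub hL) hX₁pre hQ'
  rw [← hU₁, hLU] at hint'
  have hQ'U : Q' ⊓ T = U₁ := (SetLike.coe_injective hint').symm
  refine ⟨Q', isConj_trans ((hh.mono hXN).isConj hX₁) ((hL.mono hX₁pre).isConj hQ'),
    hQ'U.symm ▸ hc₁, ?_⟩
  rw [hQ'U]
  have hΦ : ∀ a, ∀ u ∈ U₁, ev (MulAut.conj x a) (L u) = L (ev a u) := fun a u hu => by
    rw [hLe u hu, hLe _ (ev_mem a hu), MulAut.conj_apply, ev_mul _ _ (ev_mem x hu),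
      ev_inv_ev x hu, ev_mul _ _ hu]
  intro R hR hRp
  obtain ⟨J, hJS, hJ⟩ := hL.exists_image
  obtain ⟨Li, hLi, -, hLi₁, -⟩ := hL.exists_inv hJ
  have hQ'J : Q' ≤ J := fun y hy => by
    obtain ⟨q, hq, rfl⟩ := exists_of_image hQ' hy
    exact mem_of_image hJ (hX₁pre hq)
  have hUJ : U₁ ≤ J := fun y hy => by
    obtain ⟨u, hu, rfl⟩ := exists_of_image hLU hy
    exact mem_of_image hJ (hUpre hu)
  have hLiQ : Li '' Q' = (X₁ : Set Ω) := by
    rw [← hQ', Set.image_image]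
    exact (Set.image_congr fun q hq => hLi₁ q (hX₁pre hq)).trans (Set.image_id' _)
  have hLiU : Li '' U₁ = (U₁ : Set Ω) := by
    conv_lhs => rw [← hLU, Set.image_image]
    exact (Set.image_congr fun q hq => hLi₁ q (hUpre hq)).trans (Set.image_id' _)
  have hQ'N : ∀ q ∈ Q', q ∈ Subgroup.normalizer (U₁ : Set Ω) := fun q hq =>
    hQ'U ▸ (le_normalizer_inter hTsc hQ'S hq).2
  have hsymm := congr_symm_spec hLU hΦ fun u hu => hLi₁ u (hUpre hu)
  have hback : R.map (MulAut.conj x).symm.toMonoidHom ≤ Λ := by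
    rintro _ ⟨a, ha, rfl⟩
    refine ⟨?_, congr_cen (dSys_sub hLi) hQ'J hUJ hLiQ hLiU hQ'N hsymm (hR ha).2⟩
    show (MulAut.conj x).symm a ∈ E.autGroup U₁
    rw [MulAut.conj_symm_apply]
    simpa using autS_conj_autE hE hc₁.le (Subgroup.inv_mem _ hx) (hR ha).1
  have hc₂ := hRb.card_le (hRp.map _) hback
  rw [← Nat.card_congr (R.equivMapOfInjective (MulAut.conj x).symm.toMonoidHom (MulAut.conj x).symm.injective).toEquiv] at hc₂
  refine hc₂.trans ?_
  rw [← CfsgLib.Meet.card_map_conj Rb x]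
  refine Subgroup.card_le_of_le ?_
  rintro _ ⟨a, ha, rfl⟩
  exact ⟨(autS_inf_autE hS hE hmax).le ⟨hxP a (Subgroup.mem_sup_right ha),
      autS_conj_autE hE hc₁.le hx (hRb.1 ha).1⟩,
    congr_cen (dSys_sub hL) hX₁pre hUpre hQ' hLU (fun q hq => (hX₁N hq).2) hΦ (hRb.1 ha).2⟩

include hS hE in
/-- `Cond` gives the local Sylow condition. -/
theorem sylT_of_cond' (hX : X ≤ S) (hc : TCentric F T (X ⊓ T)) (hcond : Cond E p (X ⊓ T) X) :
    SylT p hE.1.2.2 hX := by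
  have hTsc := hE.1.2.2.2.1
  have hF := hE.1.2.1
  obtain ⟨X₀, φ, hφ, hφX, hX₀, hU₀, hφN⟩ := exists_norm_map hS hF hTsc hX
  have hXN := le_normalizerIn (S := S) hX
  have hUX : X ⊓ T ≤ X := inf_le_left
  have hU := image_inter hTsc hφ hXN hφX
  have hU₀T : X₀ ⊓ T ≤ T := inf_le_right
  have hU₀c : TCentric F T (X₀ ⊓ T) := tcentric_map hc hTsc (hφ.mono (hUX.trans hXN)) hU
  have hUS : X ⊓ T ≤ S := hUX.trans hX
  have hU₀S : X₀ ⊓ T ≤ S := hU₀.1
  have := finite_mulAut hUS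
  have := finite_mulAut hU₀S
  obtain ⟨Φ, hΦ⟩ := exists_congr (hφ.mono (hUX.trans hXN)) hU
  obtain ⟨J, hJS, hJ⟩ := hφ.exists_image
  obtain ⟨k, hk, -, hk₁, -⟩ := hφ.exists_inv hJ
  have hX₀J : X₀ ≤ J := fun y hy => by
    obtain ⟨x, hx, rfl⟩ := exists_of_image hφX hy
    exact mem_of_image hJ (hXN hx)
  have hkX : k '' X₀ = (X : Set Ω) := by
    rw [← hφX, Set.image_image]
    exact (Set.image_congr fun x hx => hk₁ x (hXN hx)).trans (Set.image_id' _)
  have hkU := image_inter hTsc hk hX₀J hkX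
  have hsymm := congr_symm_spec hU hΦ fun u hu => hk₁ u (hXN (hUX hu))
  have hdown : ∀ {R : Subgroup (MulAut ↥(X₀ ⊓ T))}, R ≤ E.autGroup (X₀ ⊓ T) ⊓ cen (X₀ ⊓ T) X₀ →
      R.map Φ.symm.toMonoidHom ≤ E.autGroup (X ⊓ T) ⊓ cen (X ⊓ T) X := by
    intro R hR
    rintro _ ⟨a, ha, rfl⟩
    exact ⟨congr_autE hE.1.2.2 hU₀T inf_le_right (hk.mono (inf_le_left.trans hX₀J)) hkU hsymm (hR ha).1,
      congr_cen hk hX₀J (inf_le_left.trans hX₀J) hkX hkU
        (fun q hq => (le_normalizer_inter hTsc hX₀.1 hq).2) hsymm (hR ha).2⟩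
  set A := autInducedBy T (X ⊓ T) ⊓ cen (X ⊓ T) X with hA
  set A₀ := autInducedBy T (X₀ ⊓ T) ⊓ cen (X₀ ⊓ T) X₀ with hA₀
  have hAA : A.map Φ.toMonoidHom ≤ A₀ := by
    rintro _ ⟨c, ⟨hct, hcc⟩, rfl⟩
    obtain ⟨t, ht, -, hte⟩ := exists_induced_ev hct
    have htN : t ∈ normalizerIn S X := ⟨hTsc.1 ht, mem_normalizer_of_cen hTsc hc hX rfl ht hte hcc⟩
    exact ⟨congr_induced hφ (hUX.trans hXN) hU hΦ htN hte (mapFn_mem hTsc hφ htN ht),
      congr_cen hφ hXN (hUX.trans hXN) hφX hU (fun q hq => (le_normalizer_inter hTsc hX hq).2) hΦ hcc⟩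
  have hcA : Nat.card A ≤ Nat.card A₀ := by
    rw [Nat.card_congr (A.equivMapOfInjective Φ.toMonoidHom Φ.injective).toEquiv]
    exact Subgroup.card_le_of_le hAA
  have hcond₀ : Cond E p (X₀ ⊓ T) X₀ := fun R hR hRp => by
    rw [Nat.card_congr (R.equivMapOfInjective Φ.symm.toMonoidHom Φ.symm.injective).toEquiv]
    exact (hcond _ (hdown hR) (hRp.map _)).trans hcA
  have h₀ := sylT_of_cond hS hE hU₀c hU₀ rfl hX₀ hcond₀
  -- the normalizer of `X₀` in `T` lies in the image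
  have heq : A.map Φ.toMonoidHom = A₀ := by
    refine Subgroup.eq_of_le_of_card_ge hAA ?_
    rw [← Nat.card_congr (A.equivMapOfInjective Φ.toMonoidHom Φ.injective).toEquiv,
      Nat.card_congr (A₀.equivMapOfInjective Φ.symm.toMonoidHom Φ.symm.injective).toEquiv]
    exact hcond _ (hdown (inf_le_inf_right _ (autInducedBy_le_autGroup hU₀T)))
      (((isPGroup_autInducedBy (hS.to_le hTsc.1) _).to_le inf_le_left).map _)
  refine h₀.transport hS hE.1.2.2 hX hk hX₀J (fun t ht => ?_) hkX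
  have htU : t ∈ Subgroup.normalizer ((X₀ ⊓ T : Subgroup Ω) : Set Ω) := by
    have := finite_of_le hU₀S
    exact mem_normalizer_of_forall fun x hx =>
      ⟨conj_mem_of_normalizer ht.2 hx.1, conj_mem_T hTsc (hTsc.1 ht.1) hx.2⟩
  obtain ⟨c₀, hc₀, hc₀e⟩ := exists_autInducedBy (K := T) ht.1 htU
  have hc₀e' : ∀ x ∈ X₀ ⊓ T, ev c₀ x = t * x * t⁻¹ := fun x hx => ev_conj_of hc₀e hx
  obtain ⟨c, hcA', hcc₀⟩ := heq.ge ⟨hc₀, mem_cen_of_normalizer hTsc hX₀.1 rfl ht hc₀e'⟩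
  obtain ⟨t', ht', -, ht'e⟩ := exists_induced_ev hcA'.1
  have ht'N : t' ∈ normalizerIn S X := ⟨hTsc.1 ht', mem_normalizer_of_cen hTsc hc hX rfl ht' ht'e hcA'.2⟩
  have hm : (φ t')⁻¹ * t ∈ centralizerIn T (X₀ ⊓ T) := by
    refine mem_centralizerIn.mpr ⟨T.mul_mem (T.inv_mem (mapFn_mem hTsc hφ ht'N ht')) ht.1, fun y hy => ?_⟩
    obtain ⟨u, hu, rfl⟩ := exists_of_image hU hy
    have h1 : φ t' * φ u * (φ t')⁻¹ = t * φ u * t⁻¹ := by
      rw [← hc₀e' _ hy, ← hcc₀, ← hφ.map_conj ht'N (hXN (hUX hu)), ← ht'e u hu]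
      exact (hΦ c u hu).symm
    calc φ u * ((φ t')⁻¹ * t) = (φ t')⁻¹ * (φ t' * φ u * (φ t')⁻¹) * t := by group
      _ = (φ t')⁻¹ * t * φ u := by rw [h1]; group
  have h2 := J.mul_mem (mem_of_image hJ ht'N)
    (hX₀J (TCentric.centralizer_le hTsc.1 hU₀c hm).1)
  rwa [mul_inv_cancel_left] at h2

end CfsgLib.RE
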