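import Cfsg.Agent.Lib.Fusion.RE.Move

/-!
# The product of a normal subsystem with the whole `p`-group, VI: saturation

By descending induction on the order every subgroup has a fully automized receptive conjugate in the
generated system: for `X ⊓ T` centric in `T` by the local Sylow condition and the lifting of automorphisms,
otherwise by the criterion on the family of these subgroups.
-/

set_option autoImplicit false
set_option linter.unusedSectionVars false

namespace CfsgLib.RE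

open Cfsg Cfsg.FusionSystem CfsgLib.Fusion CfsgLib.FusionNormal CfsgLib.Fusion.PPrimeRes CfsgLib.Meet
open CfsgLib.Fusion.SatCrit

variable {Ω : Type*} [Group Ω] {S T : Subgroup Ω} {F : FusionSystem S} {E : FusionSystem T} {p : ℕ}
variable {P Q X : Subgroup Ω} [Finite S] [Fact p.Prime]
variable (hS : IsPGroup p S) (hE : E.IsNormalIn F p)

include hS hE in
theorem generated : Generated (dSys F E p) p := fun C hC P f hf =>
  (dSys_induction (C := fun P f => MapFn (dSys F E p) P f ∧ C.pred P f)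
    (fun h e => ⟨h.1.congr e, C.congr h.2 e⟩)
    (fun hP hg => ⟨mapFn_conj hP hg, C.conj hP hg⟩)
    (fun _ hf _ hg hm => ⟨hf.1.comp hg.1 hm, C.comp hf.1 hf.2 hg.1 hg.2 hm⟩)
    (fun {P Q f g} _ hf hr _ hinv => by
      obtain ⟨k, hk, -, hk₁, -⟩ := hf.1.exists_inv hr
      have hg : MapFn (dSys F E p) Q g := hk.congr fun y hy => by
        obtain ⟨x, hx, rfl⟩ := exists_of_image hr hy
        rw [hk₁ x hx, hinv x hx]
      exact ⟨hg, C.inv hf.1 hf.2 hr hg hinv⟩)
    (fun R f h => ⟨h.mapFn, hC R f h.mapFn h.2.2⟩) hf).2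

include hS hE in
theorem autGroup_opr (hX : X ≤ S) (hc : TCentric F T (X ⊓ T)) :
    opr p ((dSys F E p).autGroup X) = opr p (bAut hE.1.2.2 hX) :=
  le_antisymm (opr_induction _ fun _ ha hap => mem_opr (disp_of_coprime hS hE.1.2.2 hX ha hap).1 hap)
    (opr_induction _ fun a ha hap => mem_opr
      ((mem_autGroup_iff_mapFn hX).mpr ⟨_, (genMap_of_ev hE.1.2.2 hX hc ha hap).mapFn, ev_val a⟩) hap)

include hS hE in
/-- The local Sylow condition at a fully normalized subgroup. -/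
theorem sylT_normalized (hn : (dSys F E p).IsFullyNormalized X) (hbig : Big (dSys F E p) p X)
    (hc : TCentric F T (X ⊓ T)) : SylT p hE.1.2.2 hn.1 := by
  obtain ⟨Q', hQ', hQ'c, hcond⟩ := exists_cond hS hE hn.1 hc
  have hQ'S := IsConj.le_right hQ'
  obtain ⟨g, hg, hgX⟩ := reach_of_generated hS (generated hS hE) hn hbig (isConj_symm hQ')
  exact (sylT_of_cond' hS hE hQ'S hQ'c hcond).transport hS hE.1.2.2 hn.1 (dSys_sub hg)
    (le_normalizerIn hQ'S) (normalizerIn_mono_T hE.1.2.2.2.1) hgX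

include hS hE in
theorem autS_inf_opr (hX : X ≤ S) (h : SylT p hE.1.2.2 hX) :
    autInducedBy S X ⊓ opr p (bAut hE.1.2.2 hX) = autInducedBy T X ⊓ opr p (bAut hE.1.2.2 hX) :=
  h.2.2 _ (inf_le_inf_right _ (autInducedBy_mono hE.1.2.2.2.1.1 _)) inf_le_right
    ((isPGroup_autInducedBy hS X).to_le inf_le_left)

include hS hE in
/-- Automorphisms of order prime to `p` extend. -/
theorem exists_ext (hX : X ≤ S) (hc : TCentric F T (X ⊓ T)) (hsyl : SylT p hE.1.2.2 hX)
    {A : Subgroup (MulAut X)} (hA : A ≤ autInducedBy S X) {a : MulAut X}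
    (ha : a ∈ (dSys F E p).autGroup X) (hap : (orderOf a).Coprime p) (haA : ∀ c ∈ A, a * c * a⁻¹ ∈ A) :
    ∃ G, MapFn (dSys F E p) (pre S X A) G ∧ ∀ y ∈ X, G y = ev a y := by
  have hTsc := hE.1.2.2.2.1
  have hF := hE.1.2.1
  have hB := (disp_of_coprime hS hE.1.2.2 hX ha hap).1
  obtain ⟨X₀, φ, hφ, hφX, hX₀, hU₀, hφN⟩ := exists_norm_map hS hF hTsc hX
  have hXN := le_normalizerIn (S := S) hX
  have hU := image_inter hTsc hφ hXN hφX
  have hU₀c : TCentric F T (X₀ ⊓ T) := tcentric_map hc hTsc (hφ.mono (inf_le_left.trans hXN)) hU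
  obtain ⟨Φ, hΦ⟩ := exists_congr (hφ.mono hXN) hφX
  obtain ⟨b, hb, hbp, hbe⟩ := exists_hat_lift hS hE hU₀c hU₀ rfl hX₀
    (congr_bAut hE.1.2.2 hX hX₀.1 (hφ.mono hXN) hφX hΦ hB) (by rwa [Φ.orderOf_eq])
  have hPN : pre S X A ≤ normalizerIn S X := pre_le
  obtain ⟨K₀, hK₀S, hK₀⟩ := (hφ.mono hPN).exists_image
  have hXP : X ≤ pre S X A := le_pre hX
  have hX₀K : X₀ ≤ K₀ := fun y hy => by
    obtain ⟨x, hx, rfl⟩ := exists_of_image hφX hy
    exact mem_of_image hK₀ (hXP hx)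
  have hK₀X : K₀ ≤ normalizerIn S X₀ := fun y hy => by
    obtain ⟨x, hx, rfl⟩ := exists_of_image hK₀ hy
    exact hφN x (hPN hx)
  have hK₀U : K₀ ≤ normalizerIn S (X₀ ⊓ T) := fun y hy => ⟨hK₀S hy, by
    have := finite_of_le hU₀.1
    exact mem_normalizer_of_forall fun x hx =>
      ⟨conj_mem_of_normalizer (hK₀X hy).2 hx.1, conj_mem_T hTsc (hK₀S hy) hx.2⟩⟩
  have hinn : autInducedBy X X ≤ autInducedBy S X := autInducedBy_mono hX _
  obtain ⟨b', hb', hb'p, hb'e⟩ := exists_lift hS hE hU₀c hU₀ inf_le_left hX₀K hK₀U hK₀X hb hbp fun x hx => by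
    obtain ⟨x', hx', rfl⟩ := exists_of_image hK₀ hx
    obtain ⟨hx'N, c, hc', hce⟩ := id hx'
    have hcS : c ∈ autInducedBy S X := sup_le hA hinn hc'
    have hnc := conj_sup_inn haA c hc'
    have hncS : a * c * a⁻¹ ∈ autInducedBy S X := sup_le hA hinn hnc
    have hmem : a * c * a⁻¹ * c⁻¹ ∈ autInducedBy T X ⊓ opr p (bAut hE.1.2.2 hX) :=
      (autS_inf_opr hS hE hX hsyl).le ⟨Subgroup.mul_mem _ hncS (Subgroup.inv_mem _ hcS), by
        have h0 := mem_opr hB hap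
        have h1 := conj_mem_opr (a := c) (fun g hg => conj_bAut hE.1.2.2 hX hg
          (autInducedBy_le_autGroup hX hcS)) _ (Subgroup.inv_mem _ h0)
        have h2 := Subgroup.mul_mem _ h0 h1
        simpa [mul_assoc] using h2⟩
    obtain ⟨t, ht, htn, hte⟩ := exists_induced_ev hmem.1
    have hy : ∀ u ∈ X, ev (a * c * a⁻¹) u = t * x' * u * (t * x')⁻¹ := fun u hu => by
      have hcu : ev c u ∈ X := ev_mem c hu
      have h1 := hte _ hcu
      rw [ev_mul _ _ hcu, ev_inv_ev c hu, ev_conj_of hce hu] at h1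
      rw [h1]; group
    have hyN : t * x' ∈ normalizerIn S X := ⟨S.mul_mem (hTsc.1 ht) hx'N.1, Subgroup.mul_mem _ htn hx'N.2⟩
    have hyP : t * x' ∈ pre S X A := ⟨hyN, _, hnc, fun u => (ev_val _ u).symm.trans (hy u u.2)⟩
    refine ⟨φ (t * x'), mem_of_image hK₀ hyP, ?_, fun u hu => ?_⟩
    · have htN : t ∈ normalizerIn S X := ⟨hTsc.1 ht, htn⟩
      rw [hφ.map_mul htN (hPN hx'), mul_inv_cancel_right]
      exact mapFn_mem hTsc hφ htN ht
    · obtain ⟨v, hv, rfl⟩ := exists_of_image hφX hu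
      have hxv : x' * v * x'⁻¹ ∈ X := conj_mem_of_normalizer hx'N.2 hv
      rw [← hφ.map_conj (hPN hx') (hXN hv), hbe _ (mem_of_image hφX hxv), hbe _ (mem_of_image hφX hv),
        hΦ a _ hxv, hΦ a v hv, ← hφ.map_conj hyN (hXN (ev_mem a hv))]
      congr 1
      rw [← hy _ (ev_mem a hv), ev_mul _ _ (ev_mem a hv), ev_inv_ev a hv, ev_mul _ _ hv, ev_conj_of hce hv]
  obtain ⟨hbF, hbK, -, -⟩ := id hb'
  have hH : W S (X₀ ⊓ T) ⊔ K₀ ≤ S := sup_le (W_le hU₀.1) hK₀S
  obtain ⟨β, hβ, hβe, hβd⟩ := exists_restrict_aut hH le_sup_right hbF hbK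
  have hβB : β ∈ bAut hE.1.2.2 hK₀S :=
    (disp_of_hat hS hE hU₀c hU₀ (inf_le_left.trans hX₀K) hK₀U hb' hb'p).congr hβe
  obtain ⟨k, hk, hkr, hk₁, -⟩ := (hφ.mono hPN).exists_inv hK₀
  obtain ⟨Ψ, hΨ⟩ := exists_congr hk hkr
  have hPS : pre S X A ≤ S := hPN.trans normalizerIn_le
  have hgB := congr_bAut hE.1.2.2 hK₀S hPS hk hkr hΨ hβB
  refine ⟨ev (Ψ β), (genMap_of_ev hE.1.2.2 hPS (hc.of_le (inf_le_inf_right _ hXP) inf_le_right) hgB
    (by rw [Ψ.orderOf_eq]; exact hb'p.coprime_dvd_left hβd)).mapFn, fun y hy => ?_⟩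
  have hφy : φ y ∈ X₀ := mem_of_image hφX hy
  have h1 := hΨ β (φ y) (mem_of_image hK₀ (hXP hy))
  rw [hk₁ y (hXP hy)] at h1
  rw [h1, ← hβe _ (mem_of_image hK₀ (hXP hy)), hb'e _ (Subgroup.mem_sup_right hφy), hbe _ hφy, hΦ a y hy,
    hk₁ _ (hXP (ev_mem a hy))]

include hS hE in
/-- A centric subgroup outside the family has a conjugate with a conjugation by `S` in `O_p`. -/
theorem exists_star (hcen : (dSys F E p).IsCentric P) (hnc : ¬ TCentric F T (P ⊓ T)) :
    ∃ Q, (dSys F E p).IsConj P Q ∧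
      ¬ (autInducedBy S Q ⊓ (pCore p ((dSys F E p).autGroup Q)).map ((dSys F E p).autGroup Q).subtype ≤ Inn Q) := by
  have hTsc := hE.1.2.2.2.1
  have hPS := hcen.1
  obtain ⟨U₁, h, hh, hhU, hmax⟩ := exists_move hS hE (inf_le_right : P ⊓ T ≤ T)
  have hPN : P ≤ normalizerIn S (P ⊓ T) := le_normalizer_inter hTsc hPS
  obtain ⟨Q, hQS, hQ⟩ := (hh.mono hPN).exists_image
  have hint := image_inter hTsc (dSys_sub hh) hPN hQ
  rw [hhU] at hint
  have hU₁ : U₁ = Q ⊓ T := SetLike.coe_injective hint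
  have hconj := (hh.mono hPN).isConj hQ
  refine ⟨Q, hconj, fun hle => ?_⟩
  have hUS : P ⊓ T ≤ S := inf_le_left.trans hPS
  have hnc₁ : ¬ TCentric F T U₁ := fun hc => hnc
    (hc.of_conj hTsc (isConj_symm (((dSys_sub hh).mono (le_normalizerIn hUS)).isConj hhU)))
  have hC : ¬ centralizerIn T U₁ ≤ Q := fun hCQ => cen_not_le hS hE hmax hnc₁ fun c hc => by
    rw [hU₁]; exact ⟨hCQ hc, hc.1⟩
  obtain ⟨c, hc, hcQ, hcN⟩ := CfsgLib.EBalance.exists_normalizing hS hQS
    (centralizerIn_le.trans hTsc.1 : centralizerIn T U₁ ≤ S) (fun q hq c hc => by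
      refine mem_centralizerIn.mpr ⟨conj_mem_T hTsc (hQS hq) hc.1, fun u hu => ?_⟩
      have hu' : q⁻¹ * u * q ∈ U₁ := by
        rw [hU₁] at hu ⊢
        exact ⟨Q.mul_mem (Q.mul_mem (Q.inv_mem hq) hu.1) hq, by
          simpa using conj_mem_T hTsc (S.inv_mem (hQS hq)) hu.2⟩
      have h1 := (mem_centralizerIn.mp hc).2 _ hu'
      calc u * (q * c * q⁻¹) = q * (q⁻¹ * u * q * c) * q⁻¹ := by group
        _ = q * c * q⁻¹ * u := by rw [h1]; group) hC
  have hcS : c ∈ S := hTsc.1 hc.1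
  obtain ⟨d, hd, hde⟩ := exists_autInducedBy (K := S) hcS hcN
  have hTD : ∀ {γ : MulAut Q}, γ ∈ (dSys F E p).autGroup Q → ∀ x ∈ Q, x ∈ T → ev γ x ∈ T := fun hγ x hx hxT =>
    mapFn_mem hTsc (dSys_sub (mapFn_ev hQS hγ)) hx hxT
  let A : Subgroup ((dSys F E p).autGroup Q) :=
    { carrier := {γ | (∀ x ∈ Q ⊓ T, ev (γ : MulAut Q) x = x) ∧
        ∀ x ∈ Q, x⁻¹ * ev (γ : MulAut Q) x ∈ Q ⊓ T}
      one_mem' := ⟨fun x hx => ev_one hx.1, fun x hx => by
        rw [show ((1 : (dSys F E p).autGroup Q) : MulAut Q) = 1 from rfl, ev_one hx, inv_mul_cancel]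
        exact Subgroup.one_mem _⟩
      mul_mem' := fun {a b} ha hb => ⟨fun x hx => by
          rw [Subgroup.coe_mul, ev_mul _ _ hx.1, hb.1 x hx, ha.1 x hx],
        fun x hx => by
          have := (Q ⊓ T).mul_mem (hb.2 x hx) (ha.2 _ (ev_mem (b : MulAut Q) hx))
          rw [Subgroup.coe_mul, ev_mul _ _ hx]
          simpa [mul_assoc] using this⟩
      inv_mem' := fun {a} ha => ⟨fun x hx => by
          rw [Subgroup.coe_inv]
          conv_lhs => rw [← ha.1 x hx]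
          exact ev_inv_ev _ hx.1,
        fun x hx => by
          have := (Q ⊓ T).inv_mem (ha.2 _ (ev_mem (a : MulAut Q)⁻¹ hx))
          rw [ev_ev_inv _ hx] at this
          rw [Subgroup.coe_inv]
          simpa using this⟩ }
  have hAn : A.Normal := ⟨fun a ha g => ⟨fun x hx => by
      rw [Subgroup.coe_mul, Subgroup.coe_mul, Subgroup.coe_inv, ev_mul _ _ hx.1, ev_mul _ _ (ev_mem _ hx.1),
        ha.1 _ ⟨ev_mem _ hx.1, hTD (Subgroup.inv_mem _ g.2) x hx.1 hx.2⟩, ev_ev_inv _ hx.1],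
    fun x hx => by
      rw [Subgroup.coe_mul, Subgroup.coe_mul, Subgroup.coe_inv, ev_mul _ _ hx, ev_mul _ _ (ev_mem _ hx)]
      refine ⟨Q.mul_mem (Q.inv_mem hx) (ev_mem _ (ev_mem _ (ev_mem _ hx))), ?_⟩
      set y := ev ((g : MulAut Q))⁻¹ x with hy
      have hyQ : y ∈ Q := ev_mem _ hx
      have h1 := ha.2 y hyQ
      have hgm := mapFn_ev hQS g.2
      have h2 := hTD g.2 _ h1.1 h1.2
      rw [hgm.map_mul (Q.inv_mem hyQ) (ev_mem _ hyQ), hgm.map_inv hyQ, hy, ev_ev_inv _ hx] at h2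
      exact h2⟩⟩
  have := finite_of_le hQS
  have hAp : IsPGroup p A := by
    rintro ⟨γ, hγ⟩
    obtain ⟨k, hk⟩ := exists_pow_eq_one_of_stabilizes (hS.to_le hQS) (n := 1)
      (fun i => if i = 0 then (Q ⊓ T).subgroupOf Q else ⊤) (α := (γ : MulAut Q)) (fun i hi => by
        obtain rfl : i = 0 := by omega
        simp) rfl ⟨0, fun x hx => by
        rw [if_pos rfl, Subgroup.mem_subgroupOf] at hx
        rw [pow_zero, pow_one]
        exact Subtype.ext ((ev_val _ x).symm.trans (hγ.1 x hx))⟩ fun i hi x _ => by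
        obtain rfl : i = 0 := by omega
        rw [if_pos rfl, Subgroup.mem_subgroupOf, Subgroup.coe_mul, Subgroup.coe_inv, ← ev_val]
        exact hγ.2 x x.2
    exact ⟨k, Subtype.ext (Subtype.ext hk)⟩
  have hdD : d ∈ (dSys F E p).autGroup Q := autInducedBy_le_autGroup hQS hd
  have hdA : (⟨d, hdD⟩ : (dSys F E p).autGroup Q) ∈ A := ⟨fun x hx => by
      show ev d x = x
      rw [ev_conj_of hde hx.1, ← (mem_centralizerIn.mp hc).2 x (hU₁ ▸ hx), mul_inv_cancel_right],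
    fun x hx => by
      show x⁻¹ * ev d x ∈ Q ⊓ T
      rw [ev_conj_of hde hx]
      refine ⟨Q.mul_mem (Q.inv_mem hx) (conj_mem_of_normalizer hcN hx), ?_⟩
      have h1 := T.mul_mem (conj_mem_T hTsc (S.inv_mem (hQS hx)) hc.1) (T.inv_mem hc.1)
      simpa [mul_assoc] using h1⟩
  obtain ⟨z, hz⟩ := mem_inn.mp (hle ⟨hd, ⟨d, hdD⟩, PCore.le_pCore hAn hAp hdA, rfl⟩)
  refine hcQ ?_
  have h2 : (z : Ω)⁻¹ * c ∈ centralizerIn S Q := by
    refine mem_centralizerIn.mpr ⟨S.mul_mem (S.inv_mem (hQS z.2)) hcS, fun x hx => ?_⟩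
    have h1 : c * x * c⁻¹ = (z : Ω) * x * (z : Ω)⁻¹ := by
      rw [← ev_conj_of hde hx, ev_coe d hx, hz ⟨x, hx⟩]
      rfl
    calc x * ((z : Ω)⁻¹ * c) = (z : Ω)⁻¹ * ((z : Ω) * x * (z : Ω)⁻¹) * c := by group
      _ = (z : Ω)⁻¹ * c * x := by rw [← h1]; group
  have h3 := Q.mul_mem z.2 (hcen.2 Q hconj h2)
  rwa [mul_inv_cancel_left] at h3

include hS hE in
/-- The generated system is saturated. -/
theorem dSys_saturated : (dSys F E p).IsSaturated p := by
  have hTsc := hE.1.2.2.2.1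
  set D := dSys F E p
  suffices H : ∀ (n : ℕ) (P : Subgroup Ω), P ≤ S → Nat.card S - Nat.card P < n →
      ∃ Q, D.IsConj P Q ∧ D.IsFullyAutomized p Q ∧ D.IsReceptive Q from
    fun P hP => H _ P hP (Nat.lt_succ_self _)
  intro n
  induction n with
  | zero => intro P _ h; omega
  | succ n ih =>
  intro P hP hlt
  obtain ⟨Ps, hPPs, hn⟩ := exists_fullyNormalized (F := D) hP
  have hcard := IsConj.card_eq hPPs
  have hbig : Big D p Ps := fun R hR hc => ih R hR (by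
    have := card_le_card_S hR
    omega)
  have hPsS := hn.1
  have := finite_mulAut hPsS
  by_cases hc : TCentric F T (Ps ⊓ T)
  · have hT' := sylT_normalized hS hE hn hbig hc
    have hopr := autGroup_opr hS hE hPsS hc
    have hsylO : SylIn p (autInducedBy S Ps ⊓ opr p (D.autGroup Ps)) (opr p (D.autGroup Ps)) := by
      rw [hopr, autS_inf_opr hS hE hPsS hT']
      exact hT'
    have hsyl := sylIn_of_generated hS (generated hS hE) hn hbig hsylO
    exact ⟨Ps, hPPs, ⟨hPsS, hsyl.exists_sylow⟩, receptive_of_generated hS (generated hS hE) hn hbig hsyl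
      fun A hA a ha hap haA => exists_ext hS hE hPsS hc hT' hA ha hap haA⟩
  have hne : Ps ≠ S := fun h => hc (by
    rw [h, inf_eq_right.mpr hTsc.1]
    refine ⟨le_rfl, fun V hV => ?_⟩
    obtain ⟨φ, hφ, rfl⟩ := hV
    have hle : φ.range ≤ T := by rintro _ ⟨x, rfl⟩; exact hTsc.2 T le_rfl φ hφ x
    have := finite_of_le hTsc.1
    rw [eq_of_le_of_card_le hle (card_range hφ).ge]
    exact centralizerIn_le)
  set ℋ : Set (Subgroup Ω) := {R | TCentric F T (R ⊓ T)} with hℋ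
  have hnot : ∀ A, D.IsConj A Ps → A ∉ ℋ := fun A hA hAc => by
    obtain ⟨f, hf, hfP⟩ := isConj_iff.mp hA
    exact hc (tcentric_map hAc hTsc ((dSys_sub hf).mono inf_le_left)
      (image_inter hTsc (dSys_sub hf) le_rfl hfP))
  have hgen : ∀ E' : FusionSystem S, (∀ R ∈ ℋ, D.Hom R ⊆ E'.Hom R) → D ≤ E' := by
    intro E' hE' R
    refine hom_subset_iff_mapFn.mpr fun f hf => ?_
    exact dSys_induction (C := fun P f => MapFn E' P f) (fun h e => h.congr e)
      (fun hP hg => mapFn_conj hP hg) (fun _ hf _ hg hm => hf.comp hg hm)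
      (fun {P Q f g} _ hf hr _ hinv => by
        obtain ⟨k, hk, -, hk₁, -⟩ := hf.exists_inv hr
        refine hk.congr fun y hy => ?_
        obtain ⟨x, hx, rfl⟩ := exists_of_image hr hy
        rw [hk₁ x hx, hinv x hx])
      (fun R f h => hom_subset_iff_mapFn.mp (hE' R h.1) f h.mapFn) hf
  have hreach : ∀ A, D.IsConj A Ps → Reach D Ps A := fun A hA => reach_all hS hbig hn hne hnot hgen hA
  have hlt' := lt_coreExt hS hn hreach fun hcen => exists_star hS hE hcen hc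
  have hext := fun γ (h1 : MapFn D Ps γ) (h2 : γ '' Ps = (Ps : Set Ω)) =>
    exists_ext_of_aut hS hbig hn hne hnot hgen h1 h2
  have hfa := fullyAutomized_of_ext hS hbig hn hlt' hreach hext
  exact ⟨Ps, hPPs, hfa, receptive_of_ext hS hbig hn hlt' hreach hext hfa⟩

end CfsgLib.RE
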